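import Groth.Agent.Lib.RelAmple18.Generation
import Groth.Agent.Lib.CurveCoh17.TensorExact
import Groth.Agent.Lib.KFlat.FinLocFree
import Groth.Agent.Lib.TensorMod.Dual
import Groth.Prelude.Def_KSix
import Groth.Prelude.Def_PerfAux
import Groth.Prelude.Def_MoreMor

/-! Ample families generate. -/

set_option autoImplicit false
set_option linter.style.haveILetI false
set_option backward.isDefEq.respectTransparency false

universe u

open CategoryTheory Limits AlgebraicGeometry TopologicalSpace Opposite TensorProduct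

namespace Groth.Agent.Exact8.AmpleFam

open Groth.Agent.M2 (tsec res stalkEquiv)
open Groth.Agent.Amp
open CurveCoh17 (stalkLin stalkEquiv_natural stalkLin_apply)

variable {X : Scheme.{u}}

/-- Finitely many twisted sections generate over an affine locus. -/
theorem exists_span [CompactSpace X] [QuasiSeparatedSpace X] {M : X.Modules} (hM : PicF.IsInvertible M)
    (s : Coh.structureModule X ⟶ M) (hA : IsAffineOpen (CohB1.genLocus M s)) (F : X.Modules) [hF : Coh.IsQCoh F]
    (hFT : CohB1.IsFT F) :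
    ∃ (q : ℕ) (k : ℕ) (t : Fin k → Γ(CohB1.tensorMod F (CohB1.tensorPow M (q + 1)), ⊤)),
      ∀ x ∈ CohB1.genLocus M s, Submodule.span (X.presheaf.stalk x)
        (Set.range fun j => gm (CohB1.tensorMod F (CohB1.tensorPow M (q + 1))) x (U := ⊤) trivial (t j)) = ⊤ := by
  classical
  let G := CohB1.genLocus M s
  obtain ⟨T, hT⟩ := (M1.finite_sections hF hFT hA).fg_top
  choose q hq using fun t : T => exists_extend_genLocus hM s F t.1
  let n := Finset.univ.sup q + 1
  choose t' ht' using fun t : T => hq t n ((Finset.le_sup (f := q) (Finset.mem_univ t)).trans (Nat.le_succ _))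
  refine ⟨Finset.univ.sup q, Fintype.card T, fun j => t' ((Fintype.equivFin T).symm j), fun x hx => top_le_iff.mp ?_⟩
  let b := gm (CohB1.tensorPow M n) x hx (pw (res M le_top (gval s)) n)
  have hb : Gen b := gen_pw hM hx _ n (by rw [gm_res]; exact (mem_genLocus_iff hM _).mp hx)
  let S := (fun m => gm F x hx m) '' (T : Set Γ(F, G))
  have hS : Submodule.span (X.presheaf.stalk x) S = ⊤ := by
    refine top_le_iff.mp fun a _ => ?_
    obtain ⟨r, m, hr, ha⟩ := M1.exists_germ_smul_eq F hA hx a
    have hm : gm F x hx m ∈ Submodule.span (X.presheaf.stalk x) S := by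
      clear ha
      have hm : m ∈ Submodule.span Γ(X, G) (T : Set Γ(F, G)) := by rw [hT]; trivial
      induction hm using Submodule.span_induction with
      | mem z hz => exact Submodule.subset_span ⟨z, hz, rfl⟩
      | zero => rw [show gm F x hx (0 : Γ(F, G)) = 0 from map_zero _]; exact Submodule.zero_mem _
      | add u v _ _ hu hv =>
        rw [show gm F x hx (u + v) = gm F x hx u + gm F x hx v from map_add _ _ _]
        exact Submodule.add_mem _ hu hv
      | smul c u _ hu => rw [gm_smul]; exact Submodule.smul_mem _ _ hu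
    obtain ⟨u, hu⟩ := hr
    have ha' : a = (↑u⁻¹ : X.presheaf.stalk x) • gm F x hx m := by
      rw [show gm F x hx m = _ from ha.symm, ← hu, ← mul_smul, Units.inv_mul, one_smul]
    rw [ha']
    exact Submodule.smul_mem _ _ hm
  refine (RA.span_stalk_tensor x hS hb).symm.le.trans (Submodule.span_mono ?_)
  rintro _ ⟨_, ⟨m, hm, rfl⟩, rfl⟩
  refine ⟨Fintype.equivFin T ⟨m, hm⟩, ?_⟩
  change gm _ x (U := ⊤) trivial (t' ((Fintype.equivFin T).symm (Fintype.equivFin T ⟨m, hm⟩))) = _
  rw [Equiv.symm_apply_apply, ← gm_res (le_top : G ≤ ⊤) hx, ht', LinearEquiv.eq_symm_apply]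
  exact M2.stalkEquiv_tsec F (CohB1.tensorPow M n) x hx _ _

theorem range_stalkLin_comp_le {A B C : X.Modules} (f : A ⟶ B) (g : B ⟶ C) (x : X) :
    LinearMap.range (stalkLin (f ≫ g) x) ≤ LinearMap.range (stalkLin g x) := by
  rintro _ ⟨z, rfl⟩
  exact ⟨stalkLin f x z, by rw [stalkLin_apply, stalkLin_apply, stalkLin_apply, Functor.map_comp]; rfl⟩

/-- Negative powers from an ample family surject onto a module of finite type. -/
theorem exists_epi {ι : Type u} (L : ι → X.Modules) (hL : KSix.IsAmpleFamily L) (F : X.Modules)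
    (hF : Coh.IsQCoh F) (hFT : CohB1.IsFT F) :
    ∃ (M : X.Modules) (π : M ⟶ F), KSix.InAddL L M ∧ FlatMod.IsFinLocFree M ∧ Epi π := by
  classical
  obtain ⟨hc, hqs, hinv, hcov⟩ := hL
  haveI := hc; haveI := hqs; haveI := hF
  choose i n s hxs hA using hcov
  obtain ⟨T, hT⟩ := isCompact_univ.elim_finite_subcover
    (fun y => (CohB1.genLocus _ (s y) : Set X)) (fun y => (CohB1.genLocus _ (s y)).isOpen)
    (fun y _ => Set.mem_iUnion.mpr ⟨y, hxs y⟩)
  choose q k t ht using fun y => exists_span (Amp.isInvertible_tensorPow (hinv (i y)) (n y + 1)) (s y) (hA y) F hFT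
  let I := Σ y : T, Fin (k y.1)
  let Pw := fun y => CohB1.tensorPow (CohB1.tensorPow (L (i y)) (n y + 1)) (q y + 1)
  have hPw : ∀ y, PicF.IsInvertible (Pw y) := fun y =>
    Amp.isInvertible_tensorPow (Amp.isInvertible_tensorPow (hinv (i y)) _) _
  let ψ : ∀ y, CohB1.tensorMod (CohB1.tensorMod F (Pw y)) (M2.dualMod (Pw y)) ⟶ F := fun y =>
    (M2.tensorAssoc F (Pw y) (M2.dualMod (Pw y)) ≪≫
      M2.tensorIso (Iso.refl F) (M2.tensorComm _ _ ≪≫ M2.dualTensorIso (hPw y)) ≪≫ M2.tensorRUnit F).hom
  let e := (Fintype.equivFin I).symm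
  let N : Fin (Fintype.card I) → X.Modules := fun j =>
    CohB1.tensorMod (Coh.structureModule X) (M2.dualMod (Pw (e j).1.1))
  let π₀ : ∀ j, N j ⟶ F := fun j =>
    M2.tensorMap (M1.secHom (t (e j).1.1 (e j).2)) (𝟙 (M2.dualMod (Pw (e j).1.1))) ≫ ψ _
  refine ⟨⨁ N, biproduct.desc π₀, ⟨_, N, fun j => ?_, ⟨Iso.refl _⟩⟩,
    KFlat.Sch.isFinLocFree_biproduct N fun j => M2.isFinLocFree_of_isInvertible
      (M2.isInvertible_tensor (PicLoc.isInvertible_structureModule X) (M2.isInvertible_dualMod (hPw _))), ?_⟩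
  · refine ⟨i (e j).1.1, (n (e j).1.1 + 1) * (q (e j).1.1 + 1), Nat.mul_pos (Nat.succ_pos _) (Nat.succ_pos _),
      ⟨M2.tensorIso (M2.tensorLUnit _) (M2.tensorPowPow _ _ _).symm ≪≫ M2.dualTensorIso (hPw _)⟩⟩
  · refine (M1.epi_iff_stalk _).mpr fun x => ?_
    suffices h : LinearMap.range (stalkLin (biproduct.desc π₀) x) = ⊤ from LinearMap.range_eq_top.mp h
    obtain ⟨y, hy, hxy⟩ := Set.mem_iUnion₂.mp (hT (Set.mem_univ x))
    let P := CohB1.tensorMod F (Pw y)
    let D := M2.dualMod (Pw y)
    refine top_le_iff.mp ?_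
    rintro z -
    obtain ⟨w, rfl⟩ : ∃ w, stalkLin (ψ y) x w = z := ((M1.isIso_iff_stalk (ψ y)).mp inferInstance x).2 z
    obtain ⟨w, rfl⟩ := (stalkEquiv P D x).symm.surjective w
    induction w using TensorProduct.induction_on with
    | zero => simp
    | add u v hu hv => rw [map_add, map_add]; exact Submodule.add_mem _ hu hv
    | tmul p d =>
      have hp : p ∈ Submodule.span (X.presheaf.stalk x) (Set.range fun j => gm P x (U := ⊤) trivial (t y j)) := by
        rw [ht y x hxy]; trivial
      induction hp using Submodule.span_induction with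
      | zero => simp
      | add u v _ _ hu hv => rw [TensorProduct.add_tmul, map_add, map_add]; exact Submodule.add_mem _ hu hv
      | smul r u _ hu => rw [← TensorProduct.smul_tmul', map_smul, map_smul]; exact Submodule.smul_mem _ _ hu
      | mem u hu =>
        obtain ⟨l, rfl⟩ := hu
        obtain ⟨j, hj⟩ := e.surjective ⟨⟨y, hy⟩, l⟩
        let σ := M1.secHom (t y l)
        have hσ : stalkLin σ x (gm (Coh.structureModule X) x (U := ⊤) trivial (M1.one ⊤)) =
            gm P x (U := ⊤) trivial (t y l) := by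
          rw [stalkLin_apply]
          refine (M1.germ_naturality σ ⊤ x trivial (M1.one ⊤)).trans ?_
          exact congrArg (gm P x (U := ⊤) trivial) (M1.secHom_app_one (t y l))
        have h1 : stalkLin (ψ y) x ((stalkEquiv P D x).symm (gm P x (U := ⊤) trivial (t y l) ⊗ₜ d)) ∈
            LinearMap.range (stalkLin (M2.tensorMap σ (𝟙 D) ≫ ψ y) x) := by
          refine ⟨(stalkEquiv _ D x).symm (gm (Coh.structureModule X) x (U := ⊤) trivial (M1.one ⊤) ⊗ₜ d), ?_⟩
          rw [stalkLin_apply, Functor.map_comp]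
          refine congrArg (stalkLin (ψ y) x) ?_
          refine (LinearEquiv.eq_symm_apply _).mpr ((stalkEquiv_natural σ D x _).trans ?_)
          rw [LinearEquiv.apply_symm_apply, LinearMap.rTensor_tmul, hσ]
        have h2 : LinearMap.range (stalkLin (π₀ j) x) ≤ LinearMap.range (stalkLin (biproduct.desc π₀) x) := by
          rw [← biproduct.ι_desc π₀ j]
          exact range_stalkLin_comp_le _ _ x
        have h3 : LinearMap.range (stalkLin (M2.tensorMap σ (𝟙 D) ≫ ψ y) x) = LinearMap.range (stalkLin (π₀ j) x) := by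
          have key : ∀ v : I, v = ⟨⟨y, hy⟩, l⟩ →
              LinearMap.range (stalkLin (M2.tensorMap σ (𝟙 D) ≫ ψ y) x) =
                LinearMap.range (stalkLin (M2.tensorMap (M1.secHom (t v.1.1 v.2)) (𝟙 (M2.dualMod (Pw v.1.1))) ≫ ψ _) x) := by
            rintro v rfl; rfl
          exact key _ hj
        exact h2 (h3 ▸ h1)

/-- An ample family gives the resolution property. -/
theorem hasResolutionProperty (h : MoreMor.HasAmpleFamily X) : PerfAux.HasResolutionProperty X := by
  obtain ⟨hc, hcov⟩ := h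
  choose L n s hL hn hxs hA using hcov
  have hqs : QuasiSeparatedSpace X := Scheme.quasiSeparatedSpace_of_isOpenCover (fun x => CohB1.genLocus _ (s x))
    (top_le_iff.mp fun x _ => Opens.mem_iSup.mpr ⟨x, hxs x⟩) hA fun i j =>
      (Amp.isAffineOpen_inf_hasSec (hL i) ⟨s i, rfl⟩ (hA j)).isCompact
  intro F hF hFT
  have hfam : KSix.IsAmpleFamily L := by
    refine ⟨hc, hqs, hL, fun x => ?_⟩
    obtain ⟨m, hm⟩ := Nat.exists_eq_add_of_le' (hn x)
    have key : ∀ (k : ℕ) (s : Coh.structureModule X ⟶ CohB1.tensorPow (L x) k), k = m + 1 →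
        x ∈ CohB1.genLocus _ s → IsAffineOpen (CohB1.genLocus _ s) →
        ∃ (i : X) (n : ℕ) (s : Coh.structureModule X ⟶ CohB1.tensorPow (L i) (n + 1)),
          x ∈ CohB1.genLocus _ s ∧ IsAffineOpen (CohB1.genLocus _ s) := by
      rintro k s' rfl h1 h2; exact ⟨x, m, s', h1, h2⟩
    exact key (n x) (s x) hm (hxs x) (hA x)
  obtain ⟨M, π, -, hM, hπ⟩ := exists_epi L hfam F hF hFT
  exact ⟨M, π, hM, hπ⟩

end Groth.Agent.Exact8.AmpleFam
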