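import Groth.Agent.Lib.Exact8.RelTen
import Groth.Agent.Lib.RelPCS4.Comp
import Groth.Agent.Lib.TwistBC9.PCTest
import Groth.Agent.Lib.RHom.ProjClosed
import Groth.Agent.Lib.KFlat.LpullPC

/-!
# Derived tensor products of relatively pseudo-coherent objects over a composite
-/

set_option autoImplicit false
set_option backward.isDefEq.respectTransparency false
set_option backward.isDefEq.respectTransparency.types false
set_option linter.style.haveILetI false
set_option maxHeartbeats 2000000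
universe u
open CategoryTheory CategoryTheory.Limits AlgebraicGeometry Opposite TopologicalSpace MvPolynomial
attribute [local instance] HasDerivedCategory.standard

namespace Groth.Agent.Exact8

open KFlat KFlat.Sch RelPCS4 RelPCS8

section Push

variable {W Q : Scheme.{u}} (j : W ⟶ Q) [IsClosedImmersion j]

/-- `j_*(j^* R ⊗ E) ≅ R ⊗ j_* E` for complexes. -/
noncomputable def pushTenCxIso (R : CochainComplex Q.Modules ℤ) (E : CochainComplex W.Modules ℤ) :
    (pushX j).obj (((tcx (TX W)).obj (((Scheme.Modules.pullback j).mapHomologicalComplex (ComplexShape.up ℤ)).obj R)).obj E) ≅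
      ((tcx (TX Q)).obj R).obj ((pushX j).obj E) :=
  (pushX j).mapIso (RHom.commCx _ E) ≪≫
    transferIso (TX W) (TX Q) (𝟭 _) (Scheme.Modules.pullback j) (Scheme.Modules.pushforward j) (𝟭 _)
      (Scheme.Modules.pushforward j) (RHom.natural_pushProjIso j) E R ≪≫
    RHom.commCx _ R


end Push

variable {X Y S : Scheme.{u}} {f : X ⟶ Y} {g : Y ⟶ S}

/-- An adapted representative in degrees `≤ b`. -/
theorem exists_adapted_le {T : Scheme.{u}} (M : DCoh.D T) (b : ℤ) [M.IsLE b] :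
    ∃ R : CochainComplex T.Modules ℤ, IsAdapted R ∧ R.IsStrictlyLE b ∧ Nonempty (DCoh.toD T R ≅ M) := by
  obtain ⟨K, hK, ⟨e⟩⟩ := DerivedCategory.exists_iso_Q_obj_of_isLE M b
  haveI : QuasiIso (resπ (cover T) K) := quasiIso_resπ (cover T) K
  exact ⟨resObj (cover T) K, isAdapted_resObj K, resObj_isStrictlyLE (cover T) K b,
    ⟨asIso (DerivedCategory.Q.map (resπ (cover T) K)) ≪≫ e.symm⟩⟩

/-- The test for a derived tensor product over a composite. -/
theorem good_lt_lpull [DCoh.HasLpull f] [LocallyOfFiniteType f] {a b c d m : ℤ} (had : a + d ≤ m) (hbc : b + c ≤ m)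
    (E : CochainComplex X.Modules ℤ) [(DCoh.toD X E).IsLE b] [DCoh.HasLTensorCx E] (hEr : DerSch.IsPseudoCoherentRel f a (DCoh.toD X E))
    {F : DCoh.D Y} [F.IsLE d] {W : X.Opens} {U : Y.Opens} {V : S.Opens} (hW : IsAffineOpen W)
    (hWU : W ≤ f ⁻¹ᵁ U) (hF : Good g c F U V) :
    Good (f ≫ g) m ((DCoh.LTensorCx E).obj ((DCoh.Lpull f).obj F)) W V := by
  obtain ⟨hU, hV, hle, n, φ, ⟨hsur, hφC⟩, ht⟩ := hF
  obtain ⟨k, ψ, hψ⟩ := exists_chart_of_lft (f := f) hW hU hWU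
  have hle' : W ≤ (f ≫ g) ⁻¹ᵁ V := fun z hz => hle (hWU hz)
  let μ : MvPolynomial (Fin k) (MvPolynomial (Fin n) Γ(S, V)) →+* MvPolynomial (Fin k) Γ(Y, U) :=
    MvPolynomial.map (σ := Fin k) φ
  have hμ : Function.Surjective μ := MvPolynomial.map_surjective _ hsur
  haveI := isClosedImmersion_imm hU φ hsur
  haveI : IsClosedImmersion (Spec.map (CommRingCat.ofHom μ)) := IsClosedImmersion.spec_of_surjective _ (by exact hμ)
  haveI : IsIso U.toSpecΓ := by rw [← hU.isoSpec_hom]; infer_instance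
  let σ := Spec.map (CommRingCat.ofHom (C : MvPolynomial (Fin n) Γ(S, V) →+* MvPolynomial (Fin k) (MvPolynomial (Fin n) Γ(S, V))))
  let π : Spec (CommRingCat.of (MvPolynomial (Fin k) Γ(Y, U))) ⟶ (U : Scheme.{u}) :=
    Spec.map (CommRingCat.ofHom (C : Γ(Y, U) →+* MvPolynomial (Fin k) Γ(Y, U))) ≫ inv U.toSpecΓ
  haveI : Flat σ := (HasRingHomProperty.Spec_iff (P := @Flat)).2
    (show (algebraMap (MvPolynomial (Fin n) Γ(S, V)) (MvPolynomial (Fin k) (MvPolynomial (Fin n) Γ(S, V)))).Flat from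
      RingHom.flat_algebraMap_iff.2 inferInstance)
  have hsq : IsPullback (Spec.map (CommRingCat.ofHom μ)) π σ (imm U φ) :=
    IsPullback.of_iso (isPullback_SpecMap_of_isPushout _ _ _ _ (isPushout_poly φ k))
      (Iso.refl _) (Iso.refl _) (asIso U.toSpecΓ).symm (Iso.refl _)
      (by simp [μ]) (by simp [π]) (by simp [σ]) (by simp [imm])
  haveI : Flat π := MorphismProperty.of_isPullback hsq inferInstance
  haveI := KFlat.Sch.hasLpull σ
  haveI := KFlat.Sch.hasLpull π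
  let M := (pullD π).obj ((DPerf.resD U.ι).obj F)
  obtain ⟨eσ⟩ := nonempty_lpull_iso_pullD σ ((pushD (imm U φ)).obj ((DPerf.resD U.ι).obj F))
  have hM : DPerf.Approx (Set.Ici c) ((pushD (Spec.map (CommRingCat.ofHom μ))).obj M) :=
    (DPerf.approx_of_isPseudoCoherentD (KFlat.Sch.isPseudoCoherent_lpull σ
      (DPerf.isPseudoCoherentD_of_approx (ht inferInstance)))).of_iso (eσ ≪≫ (pushPullD hsq).app _)
  obtain ⟨eπ⟩ := nonempty_lpull_iso_pullD π ((DPerf.resD U.ι).obj F)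
  have hFU : ∀ j, d < j → IsZero (DCoh.HD ((DPerf.resD U.ι).obj F) j) := fun j hj =>
    ((Scheme.Modules.restrictFunctor U.ι).map_isZero ((DerivedCategory.isLE_iff F d).1 inferInstance j hj)).of_iso
      (DPerf.hdResIso U.ι F j)
  haveI hMle : M.IsLE d := isLE_of_hd fun j hj => (KFlat.Sch.isZero_HD_iff_of_iso eπ j).1
    (KFlat.Sch.isZero_HD_lpull π _ d hFU j hj)
  obtain ⟨R, hR, hRd, ⟨eR⟩⟩ := exists_adapted_le M d
  haveI := hRd
  -- the closed immersion of the new chart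
  let j := imm W ψ
  haveI : IsClosedImmersion j := isClosedImmersion_imm hW ψ hψ.1
  let EW := (DPerf.resX W.ι).obj E
  let L := (pushX j).obj EW
  let eL : (pushD j).obj ((DPerf.resD W.ι).obj (DCoh.toD X E)) ≅ DCoh.toD _ L :=
    (pushD j).mapIso ((DPerf.resFac W.ι).app E) ≪≫ (pushFac j).app EW
  have hL : DPerf.Approx (Set.Ici a) (DCoh.toD _ L) :=
    ((((rel_iff.1 hEr).2 W U hW hU hWU).test hψ) inferInstance).of_iso eL
  haveI : (DCoh.toD _ L).IsLE b := isLE_of_hd fun l hl => (KFlat.Sch.isZero_HD_iff_of_iso eL l).1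
    ((isZero_HD_push_iff j _ l).2 (((Scheme.Modules.restrictFunctor W.ι).map_isZero
      ((DerivedCategory.isLE_iff (DCoh.toD X E) b).1 inferInstance l hl)).of_iso (DPerf.hdResIso W.ι _ l)))
  have hten := pushTen_approx (i := Spec.map (CommRingCat.ofHom μ)) (R := R)
    ⟨hR.2.2, ⟨d, hRd⟩, hM.of_iso ((pushD _).mapIso eR.symm)⟩ d L a b m hL had hbc
  -- the derived pullback on the chart
  let fW := f.resLE U W hWU
  have hjπ : j ≫ π = fW := by
    rw [← cancel_mono U.toSpecΓ]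
    simp only [j, π, imm, Category.assoc, IsIso.inv_hom_id, Category.comp_id]
    rw [← Spec.map_comp, ← CommRingCat.ofHom_comp, hψ.2]
    exact Scheme.Opens.toSpecΓ_SpecMap_appLE f U W hWU
  haveI := KFlat.Sch.hasLpull fW
  haveI := KFlat.Sch.hasLpull (j ≫ π)
  haveI := KFlat.Sch.hasLpull j
  have e₂ : Nonempty ((DCoh.Lpull fW).obj ((DPerf.resD U.ι).obj F) ≅
      (DCoh.Lpull (j ≫ π)).obj ((DPerf.resD U.ι).obj F)) := by
    revert ‹DCoh.HasLpull fW› ‹DCoh.HasLpull (j ≫ π)›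
    rw [hjπ]
    intro _ _
    exact ⟨Iso.refl _⟩
  obtain ⟨e₁⟩ := DQC.nonempty_chart_iso f U.ι W.ι fW (Scheme.Hom.resLE_comp_ι f hWU) F
  obtain ⟨R₀, hR₀, hR₀d, ⟨eR₀⟩⟩ := exists_adapted_le F d
  let P := ((Scheme.Modules.pullback f).mapHomologicalComplex (ComplexShape.up ℤ)).obj R₀
  let A := (DPerf.resX W.ι).obj P
  have hPf : ∀ l, IsFlat (TX X) (P.X l) := fun l => isFlat_pullback f (hR₀.2.2 l)
  haveI : R₀.IsStrictlyLE d := hR₀d
  haveI : A.IsStrictlyLE d := (CochainComplex.isStrictlyLE_iff _ d).2 fun l hl =>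
    (Scheme.Modules.restrictFunctor _).map_isZero ((Scheme.Modules.pullback f).map_isZero (R₀.isZero_of_isStrictlyLE d l hl))
  have hA : IsAdapted A := isAdapted_of_boundedAbove A d (flat_resX hPf)
  let Pj := ((Scheme.Modules.pullback j).mapHomologicalComplex (ComplexShape.up ℤ)).obj R
  let eA : DCoh.toD _ A ≅ DCoh.toD _ Pj :=
    ((DPerf.resFac W.ι).app P).symm ≪≫ (DPerf.resD W.ι).mapIso ((lpullObjIso f R₀ hR₀).symm ≪≫ (DCoh.Lpull f).mapIso eR₀) ≪≫
      e₁ ≪≫ e₂.some ≪≫ ((KFlat.Sch.lpullCompIso j π).app _).symm ≪≫ (DCoh.Lpull j).mapIso (eπ ≪≫ eR.symm) ≪≫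
      lpullObjIso j R hR
  haveI := KFlat.Sch.hasLTensorCx EW
  obtain ⟨t⟩ := nonempty_lTensorCxObjIso E P (isKFlat_pullback f hR₀.1)
  obtain ⟨tA⟩ := nonempty_lTensorCxObjIso EW A hA.1
  obtain ⟨tj⟩ := nonempty_lTensorCxObjIso EW Pj (isKFlat_pullback j hR.1)
  let eW : (DPerf.resD W.ι).obj ((DCoh.LTensorCx E).obj ((DCoh.Lpull f).obj F)) ≅
      DCoh.toD _ (((tcx (TX (W : Scheme.{u}))).obj Pj).obj EW) :=
    (DPerf.resD W.ι).mapIso ((DCoh.LTensorCx E).mapIso ((DCoh.Lpull f).mapIso eR₀.symm ≪≫ lpullObjIso f R₀ hR₀) ≪≫ t) ≪≫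
      (DPerf.resFac W.ι).app _ ≪≫ DerivedCategory.Q.mapIso (RHom.tensorResIso W P E) ≪≫ tA.symm ≪≫
      (DCoh.LTensorCx EW).mapIso eA ≪≫ tj
  let eP : (pushD j).obj ((DPerf.resD W.ι).obj ((DCoh.LTensorCx E).obj ((DCoh.Lpull f).obj F))) ≅
      DCoh.toD _ (((tcx (TX (Spec (CommRingCat.of (MvPolynomial (Fin k) Γ(Y, U)))))).obj R).obj L) :=
    (pushD j).mapIso eW ≪≫ (pushFac j).app (((tcx (TX (W : Scheme.{u}))).obj Pj).obj EW) ≪≫ (DerivedCategory.Q.mapIso (pushTenCxIso j R EW) :)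
  -- the chart of the composite
  obtain ⟨τ, hτ, hτC⟩ := exists_polyEquiv Γ(S, V) k n
  refine ⟨hW, hV, hle', k + n, (ψ.comp μ).comp τ, ⟨(hψ.1.comp hμ).comp hτ.2, ?_⟩, ?_⟩
  · refine RingHom.ext fun r => ?_
    change ψ (μ (τ (C r))) = _
    rw [hτC]
    change ψ (MvPolynomial.map φ (C (C r))) = _
    rw [map_C, show φ (C r) = (g.appLE V U hle).hom r from RingHom.congr_fun hφC r,
      show ψ (C ((g.appLE V U hle).hom r)) = _ from RingHom.congr_fun hψ.2 _]
    rw [← ConcreteCategory.comp_apply, Scheme.Hom.appLE_comp_appLE]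
  · rw [test_comp_bijective_iff hW (ψ.comp μ) (hψ.1.comp hμ) τ hτ]
    intro _
    have key : ∀ (i : (W : Scheme.{u}) ⟶ Spec (CommRingCat.of (MvPolynomial (Fin k) (MvPolynomial (Fin n) Γ(S, V)))))
        [IsClosedImmersion i], i = j ≫ Spec.map (CommRingCat.ofHom μ) →
        DPerf.Approx (Set.Ici m) ((pushD i).obj ((DPerf.resD W.ι).obj ((DCoh.LTensorCx E).obj ((DCoh.Lpull f).obj F)))) := by
      rintro i _ rfl
      exact (DPerf.Approx.of_iso ((pushD _).mapIso eP.symm ≪≫ (pushDComp j _).app _) hten)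
    exact key _ (imm_comp W ψ μ)

/-- `Lf^*F ⊗^L E` is pseudo-coherent relative to the composite. -/
theorem rel_lt_lpull [DCoh.HasLpull f] [LocallyOfFiniteType f] [LocallyOfFiniteType g] {a b c d m : ℤ}
    (had : a + d ≤ m) (hbc : b + c ≤ m)
    (E : CochainComplex X.Modules ℤ) [(DCoh.toD X E).IsLE b] [DCoh.HasLTensorCx E] (hE : DerSch.IsPseudoCoherentRel f a (DCoh.toD X E))
    {F : DCoh.D Y} [F.IsLE d] (hF : DerSch.IsPseudoCoherentRel g c F) :
    DerSch.IsPseudoCoherentRel (f ≫ g) m ((DCoh.LTensorCx E).obj ((DCoh.Lpull f).obj F)) := by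
  refine rel_of_locally fun x => ?_
  obtain ⟨U, V, hxU, hU, hV, hle⟩ := exists_affine_pair g (f x)
  obtain ⟨W, hW, hxW, hWU⟩ := exists_isAffineOpen_mem_and_subset (U := f ⁻¹ᵁ U) hxU
  exact ⟨W, V, hxW, good_lt_lpull had hbc E hE hW hWU ((rel_iff.1 hF).2 U V hU hV hle)⟩

/-- The upper bound of `Lf^*F ⊗^L E`. -/
theorem isLE_lt_lpull [DCoh.HasLpull f] (b d : ℤ) (E : CochainComplex X.Modules ℤ) [(DCoh.toD X E).IsLE b]
    [DCoh.HasLTensorCx E] (F : DCoh.D Y) [F.IsLE d] :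
    ((DCoh.LTensorCx E).obj ((DCoh.Lpull f).obj F)).IsLE (b + d) := by
  obtain ⟨K', _, hb, -, ⟨iK⟩⟩ := TwistBC9.exists_ltensor_model E b
  haveI := hb
  haveI : ((DCoh.Lpull f).obj F).IsLE d := isLE_of_hd fun l hl =>
    KFlat.Sch.isZero_HD_lpull f F d ((DerivedCategory.isLE_iff F d).1 inferInstance) l hl
  haveI := RHom.isLE_LT K'.obj b ((DCoh.Lpull f).obj F) d
  exact isLE_of_hd fun l hl => (DerivedCategory.isZero_of_isLE _ (d + b) l (by omega)).of_iso
    ((DerivedCategory.homologyFunctor _ l).mapIso (iK.app _).symm)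

end Groth.Agent.Exact8
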