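import Mathlib
import Groth.Agent.Lib.DBC9.Main
import Groth.Agent.Lib.TorBal27.BaseChange
import Groth.Agent.Lib.RelPCS4.FlatBC
import Groth.Agent.Lib.RelPCS8.Closed
import Groth.Agent.Lib.KFlat.LpullPC

/-!
# Relative pseudo-coherence under base change of schemes flat over a common base
-/

set_option autoImplicit false
set_option backward.isDefEq.respectTransparency false
set_option backward.isDefEq.respectTransparency.types false
set_option linter.style.haveILetI false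
set_option maxHeartbeats 800000
universe u
open CategoryTheory CategoryTheory.Limits AlgebraicGeometry TensorProduct MvPolynomial
attribute [local instance] HasDerivedCategory.standard

namespace Groth.Agent.Exact8

open RelPCS8 DBC9 DMon9
attribute [local instance] DBC9.hasRpush

/-- A pushout of a flat algebra is tor independent of algebras flat over the base. -/
theorem torIndep_pushout {R R' A P B : CommRingCat.{u}} {a : R ⟶ A} {c : R ⟶ R'} {γ : A ⟶ P} {d : R' ⟶ P}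
    (H : IsPushout a c γ d) (φ : A ⟶ B) (ha : a.hom.Flat) (hb : (a ≫ φ).hom.Flat) :
    TorIndep γ.hom φ.hom := by
  algebraize [a.hom, c.hom, φ.hom, (a ≫ φ).hom]
  haveI : Module.Flat R A := ha
  haveI : Module.Flat R B := hb
  haveI : IsScalarTower R A B := IsScalarTower.of_algebraMap_eq fun _ => rfl
  have hP : ∀ q : ℕ, 0 < q → Subsingleton (DRing.Tor R q R' A) := fun q hq => by
    obtain ⟨n, rfl⟩ : ∃ n, q = n + 1 := ⟨q - 1, by omega⟩
    exact ModuleCat.subsingleton_of_isZero (TorBal.isZero_tor_flat_right A n R')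
  have hT := CommRingCat.isPushout_tensorProduct R A R'
  let i : CommRingCat.of (A ⊗[R] R') ≅ P := hT.isoIsPushout (CommRingCat.of A) (CommRingCat.of R') H
  intro q hq
  obtain ⟨n, rfl⟩ : ∃ n, q = n + 1 := ⟨q - 1, by omega⟩
  obtain ⟨t, ht⟩ := TorBal27.exists_semilinear_right (A := R) (A' := A) R' B hP (n + 1)
  haveI : Subsingleton (DRing.Tor R (n + 1) R' B) :=
    ModuleCat.subsingleton_of_isZero (TorBal.isZero_tor_flat_right B n R')
  haveI hs : Subsingleton (DRing.Tor A (n + 1) (A ⊗[R] R') B) := ht.2.subsingleton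
  letI : Module A P := γ.hom.toModule
  let e : ModuleCat.of A (A ⊗[R] R') ≅ ModuleCat.of A P := LinearEquiv.toModuleIso
    { (i.commRingCatIsoToRingEquiv).toAddEquiv with
      map_smul' := fun r z => by
        have h1 : (r • z : A ⊗[R] R') = Algebra.TensorProduct.includeLeftRingHom r * z := Algebra.smul_def r z
        change i.hom.hom (r • z) = γ.hom r * i.hom.hom z
        rw [h1, map_mul]
        congr 1
        exact congrArg (fun m => m.hom r) (hT.inl_isoIsPushout_hom _ _ H) }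
  exact (((CategoryTheory.Tor (ModuleCat.{u} A) (n + 1)).mapIso e).app
    (ModuleCat.of A B)).symm.toLinearEquiv.toEquiv.subsingleton

variable {X₁ S₀ X' Y₂ X X₂ : Scheme.{u}} {e : X₁ ⟶ S₀} {q₂ : Y₂ ⟶ S₀} {u₁ : X' ⟶ X₁} {w : X' ⟶ Y₂}
  {f : X₂ ⟶ Y₂} {g : X ⟶ X₂} {f' : X ⟶ X'}

/-- The test after a base change from a common base over which both schemes are flat. -/
theorem good_torIndep [Flat q₂] [Flat (f ≫ q₂)] [DCoh.HasLpull g] (H₁ : IsPullback u₁ w e q₂)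
    (H : IsPullback g f' f w) {m : ℤ} {E : DCoh.D X₂} (hq : DCoh.IsQCohD E) {R : S₀.Opens} (hR : IsAffineOpen R)
    {W : X₁.Opens} (hW : IsAffineOpen W) (hWR : W ≤ e ⁻¹ᵁ R) {U : X₂.Opens} {V : Y₂.Opens}
    (hVR : V ≤ q₂ ⁻¹ᵁ R) (hE : Good f m E U V) :
    Good f' m ((DCoh.Lpull g).obj E) (g ⁻¹ᵁ U ⊓ f' ⁻¹ᵁ (u₁ ⁻¹ᵁ W ⊓ w ⁻¹ᵁ V)) (u₁ ⁻¹ᵁ W ⊓ w ⁻¹ᵁ V) := by
  obtain ⟨hU, hV, hle, n, φ, hφ, ht⟩ := hE
  obtain ⟨hsur, hφC⟩ := hφ
  let V' := u₁ ⁻¹ᵁ W ⊓ w ⁻¹ᵁ V
  have hV' : IsAffineOpen V' := FlatH4.isAffineOpen_of_isPullback H₁ hVR hWR rfl hR hV hW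
  have hVV : V' ≤ w ⁻¹ᵁ V := inf_le_right
  have hR₁ := FlatH4.isPushout_sections H₁ hVR hWR (UY := V') rfl hR hV hW
  let U' := g ⁻¹ᵁ U ⊓ f' ⁻¹ᵁ V'
  have hg : U' ≤ g ⁻¹ᵁ U := inf_le_left
  have hf : U' ≤ f' ⁻¹ᵁ V' := inf_le_right
  have hU' : IsAffineOpen U' := FlatH4.isAffineOpen_of_isPullback H hVV hle rfl hV hV' hU
  have hS := FlatH4.isPushout_sections H hVV hle (UY := U') rfl hV hV' hU
  let a : Γ(X', V') →+* Γ(X, U') := (f'.appLE V' U' hf).hom
  let b : Γ(X₂, U) →+* Γ(X, U') := (g.appLE U U' hg).hom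
  let ρ : Γ(Y₂, V) →+* Γ(X', V') := (w.appLE V V' hVV).hom
  let φ' : MvPolynomial (Fin n) Γ(X', V') →+* Γ(X, U') := eval₂Hom a fun i => b (φ (MvPolynomial.X i))
  have hC' : φ'.comp C = a := RingHom.ext fun r => eval₂Hom_C _ _ r
  have hsq : φ'.comp (MvPolynomial.map ρ) = b.comp φ := by
    refine MvPolynomial.ringHom_ext (fun r => ?_) fun i => ?_
    · simp only [RingHom.comp_apply, map_C, φ', eval₂Hom_C]
      rw [show φ (C r) = (f.appLE V U hle).hom r from RingHom.congr_fun hφC r]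
      exact (congrArg (fun t => t.hom r) hS.w).symm
    · simp only [RingHom.comp_apply, map_X, φ', eval₂Hom_X']
  have hP : IsPushout (CommRingCat.ofHom φ) (CommRingCat.ofHom (MvPolynomial.map (σ := Fin n) ρ))
      (CommRingCat.ofHom b) (CommRingCat.ofHom φ') := by
    refine IsPushout.of_left ?_ (CommRingCat.hom_ext hsq.symm) (RelPCS4.isPushout_poly ρ n)
    rw [← CommRingCat.ofHom_comp, ← CommRingCat.ofHom_comp, hφC, hC']
    exact hS
  have hsur' : Function.Surjective φ' := RelPCS4.surjective_of_isPushout hP hsur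
  have hti : TorIndep (MvPolynomial.map (σ := Fin n) ρ) φ := by
    refine torIndep_pushout (hR₁.flip.paste_horiz (RelPCS4.isPushout_poly ρ n)) (CommRingCat.ofHom φ) ?_ ?_
    · rw [CommRingCat.hom_comp]
      exact RingHom.Flat.comp (HasRingHomProperty.appLE @Flat q₂ inferInstance ⟨R, hR⟩ ⟨V, hV⟩ hVR)
        (show (algebraMap Γ(Y₂, V) (MvPolynomial (Fin n) Γ(Y₂, V))).Flat from
          RingHom.flat_algebraMap_iff.2 inferInstance)
    · have hle2 : U ≤ (f ≫ q₂) ⁻¹ᵁ R := fun x hx => hVR (hle hx)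
      have := HasRingHomProperty.appLE @Flat (f ≫ q₂) inferInstance ⟨R, hR⟩ ⟨U, hU⟩ hle2
      rw [Category.assoc, ← CommRingCat.ofHom_comp, hφC, CommRingCat.ofHom_hom, Scheme.Hom.appLE_comp_appLE]
      exact this
  haveI := isClosedImmersion_imm hU φ hsur
  haveI := isClosedImmersion_imm hU' φ' hsur'
  haveI : IsIso U'.toSpecΓ := by rw [← hU'.isoSpec_hom]; infer_instance
  haveI : IsIso U.toSpecΓ := by rw [← hU.isoSpec_hom]; infer_instance
  let σ := Spec.map (CommRingCat.ofHom (MvPolynomial.map (σ := Fin n) ρ))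
  let gU := g.resLE U U' hg
  have hsquare : IsPullback (imm U' φ') gU σ (imm U φ) := by
    refine IsPullback.of_iso (isPullback_SpecMap_of_isPushout _ _ _ _ hP).flip (asIso U'.toSpecΓ).symm
      (Iso.refl _) (asIso U.toSpecΓ).symm (Iso.refl _) ?_ ?_ ?_ ?_
    all_goals first
      | (simp [imm, gU, σ]; done)
      | (simp [imm, gU, σ, ← Scheme.Opens.toSpecΓ_SpecMap_appLE, b]; done)
  have hgood : DBC9.Good (imm U φ) (imm U' φ') σ gU :=
    DBC9.good_affine (CommRingCat.ofHom φ) (CommRingCat.ofHom (MvPolynomial.map (σ := Fin n) ρ)) hti (imm U φ)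
      (inv U.toSpecΓ) (by simp [imm]) (imm U' φ') gU hsquare.flip
  let K := (DPerf.resD U.ι).obj E
  haveI := hgood (adjLP (imm U φ)) (adjLP (imm U' φ')) (σcan (f := imm U φ) (g' := gU) hsquare.w) K
    (DQC.isQCohD_resD U.ι hq)
  let ebc := asIso ((bc (adjLP (imm U φ)) (adjLP (imm U' φ')) (σcan (f := imm U φ) (g' := gU) hsquare.w).hom).app K)
  haveI := KFlat.Sch.hasLpull σ
  haveI := KFlat.Sch.hasLpull gU
  obtain ⟨nσ⟩ := nonempty_lpull_natIso_lP σ
  obtain ⟨ng⟩ := nonempty_lpull_natIso_lP gU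
  obtain ⟨rU⟩ := RHom.nonempty_rpushIso (imm U φ)
  obtain ⟨rU'⟩ := RHom.nonempty_rpushIso (imm U' φ')
  obtain ⟨e₁⟩ := DQC.nonempty_chart_iso g U.ι U'.ι gU (Scheme.Hom.resLE_comp_ι g hg) E
  exact ⟨hU', hV', hf, n, φ', ⟨hsur', hC'⟩, fun _ => (DPerf.approx_of_isPseudoCoherentD
    (KFlat.Sch.isPseudoCoherent_lpull σ (DPerf.isPseudoCoherentD_of_approx (ht inferInstance)))).of_iso
      ((DCoh.Lpull σ).mapIso (rU.app K).symm ≪≫ nσ.app _ ≪≫ ebc ≪≫ rU'.app _ ≪≫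
        (pushD (imm U' φ')).mapIso ((ng.app K).symm ≪≫ e₁.symm))⟩

/-- Relative pseudo-coherence is stable under base change from a common base of flatness. -/
theorem rel_torIndep [Flat q₂] [Flat (f ≫ q₂)] [DCoh.HasLpull g] (H₁ : IsPullback u₁ w e q₂)
    (H : IsPullback g f' f w) {m : ℤ} {E : DCoh.D X₂} (hq : DCoh.IsQCohD E)
    (hE : DerSch.IsPseudoCoherentRel f m E) : DerSch.IsPseudoCoherentRel f' m ((DCoh.Lpull g).obj E) := by
  haveI := hE.1
  haveI : LocallyOfFiniteType f' := MorphismProperty.of_isPullback (P := @LocallyOfFiniteType) H inferInstance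
  refine rel_of_locally fun x => ?_
  obtain ⟨R, hR, hxR, -⟩ := exists_isAffineOpen_mem_and_subset (U := (⊤ : S₀.Opens)) (x := e (u₁ (f' x))) trivial
  obtain ⟨W, hW, hxW, hWR⟩ := exists_isAffineOpen_mem_and_subset (U := e ⁻¹ᵁ R) (x := u₁ (f' x)) hxR
  have hq2 : q₂ (f (g x)) = e (u₁ (f' x)) := by
    simp only [← Scheme.Hom.comp_apply]
    rw [H.w, Category.assoc, ← H₁.w, ← Category.assoc]
  obtain ⟨V, hV, hxV, hVR⟩ := exists_isAffineOpen_mem_and_subset (U := q₂ ⁻¹ᵁ R) (x := f (g x))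
    (show q₂ (f (g x)) ∈ R from hq2 ▸ hxR)
  obtain ⟨U, hU, hxU, hUle⟩ := exists_isAffineOpen_mem_and_subset (U := f ⁻¹ᵁ V) hxV
  have hxV' : w (f' x) ∈ V := by
    rw [← Scheme.Hom.comp_apply, ← H.w, Scheme.Hom.comp_apply]; exact hxV
  exact ⟨g ⁻¹ᵁ U ⊓ f' ⁻¹ᵁ (u₁ ⁻¹ᵁ W ⊓ w ⁻¹ᵁ V), u₁ ⁻¹ᵁ W ⊓ w ⁻¹ᵁ V, ⟨hxU, hxW, hxV'⟩, good_torIndep H₁ H hq hR hW hWR hVR ((rel_iff.1 hE).2 U V hU hV hUle)⟩

end Groth.Agent.Exact8
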