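import Mathlib
import Groth.Agent.Lib.CBC10.FreeAt
import Groth.Agent.Lib.RelPCS8.TensorAmp
import Groth.Prelude.Def_ega3

/-!
# Exactness of `M ↦ H^p(P ⊗ M)` for cochain complexes
-/

set_option autoImplicit false
set_option backward.isDefEq.respectTransparency false
set_option backward.isDefEq.respectTransparency.types false
set_option linter.style.haveILetI false
set_option linter.unusedSectionVars false
universe u
open CategoryTheory CategoryTheory.Limits Pretriangulated HomologicalComplex
attribute [local instance] HasDerivedCategory.standard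

namespace Groth.Agent.Exact8

open Groth.Agent.FlatCxLib

variable {A : Type u} [CommRing A]

/-- A cochain complex read backwards. -/
noncomputable abbrev rev (P : DRing.Cx A) : ChainComplex (ModuleCat.{u} A) ℤ :=
  P.restriction ComplexShape.embeddingDownIntUpInt

theorem f_eqToHom {K L : DRing.Cx A} (φ : K ⟶ L) {a b : ℤ} (h : a = b) {Z : ModuleCat.{u} A} (r : L.X b ⟶ Z) :
    φ.f a ≫ eqToHom (congrArg L.X h) ≫ r = eqToHom (congrArg K.X h) ≫ φ.f b ≫ r := by
  subst h; simp

theorem homologyMap_restriction {K L : DRing.Cx A} (φ : K ⟶ L) (p : ℤ)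
    (h1 : (ComplexShape.down ℤ).prev (-p) = -p + 1) (h2 : (ComplexShape.down ℤ).next (-p) = -p - 1)
    (h3 : (ComplexShape.up ℤ).prev p = p - 1) (h4 : (ComplexShape.up ℤ).next p = p + 1) :
    homologyMap (restrictionMap φ ComplexShape.embeddingDownIntUpInt) (-p) ≫
      (L.restrictionHomologyIso ComplexShape.embeddingDownIntUpInt _ _ _ h1 h2 (i' := p - 1) (j' := p) (k' := p + 1)
        (by simp; omega) (by simp) (by simp; omega) h3 h4).hom =
    (K.restrictionHomologyIso ComplexShape.embeddingDownIntUpInt _ _ _ h1 h2 (i' := p - 1) (j' := p) (k' := p + 1)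
        (by simp; omega) (by simp) (by simp; omega) h3 h4).hom ≫ homologyMap φ p := by
  rw [← cancel_epi (HomologicalComplex.homologyπ _ _), ← cancel_mono (L.homologyι p)]
  simp [restrictionXIso, HomologicalComplex.XIsoOfEq]

noncomputable def tensorRevIso (P : DRing.Cx A) (M : ModuleCat.{u} A) :
    CohIII.tensorObj (rev P) M ≅ (CohIII.tensorObj P M).restriction ComplexShape.embeddingDownIntUpInt :=
  HomologicalComplex.Hom.isoOfComponents (fun _ => Iso.refl _) fun i j _ => by simp

/-- `M ↦ H^p(P ⊗ M)` through the chain complex. -/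
noncomputable def tFunRevIso (P : DRing.Cx A) (p : ℤ) : CohIII.TFun (rev P) (-p) ≅ CohIII.TFun P p :=
  NatIso.ofComponents
    (fun M => (HomologicalComplex.homologyFunctor _ _ (-p)).mapIso (tensorRevIso P M) ≪≫
      (CohIII.tensorObj P M).restrictionHomologyIso ComplexShape.embeddingDownIntUpInt _ _ _ (ChainComplex.prev _ _)
        ((ComplexShape.down ℤ).next_eq' (show (-p - 1) + 1 = -p by omega))
        (i' := p - 1) (j' := p) (k' := p + 1) (by simp; omega) (by simp) (by simp; omega)
        (CochainComplex.prev _ _) (CochainComplex.next _ _))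
    fun {M N} g => by
      have h : CohIII.tensorMap (rev P) g ≫ (tensorRevIso P N).hom =
          (tensorRevIso P M).hom ≫ restrictionMap (CohIII.tensorMap P g) ComplexShape.embeddingDownIntUpInt := by
        ext i : 1
        simp [tensorRevIso, restrictionMap]
        rfl
      change homologyMap (CohIII.tensorMap (rev P) g) (-p) ≫ (homologyMap (tensorRevIso P N).hom (-p) ≫ _) =
        (homologyMap (tensorRevIso P M).hom (-p) ≫ _) ≫ homologyMap (CohIII.tensorMap P g) p
      rw [← Category.assoc, ← homologyMap_comp, h, homologyMap_comp, Category.assoc, Category.assoc,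
        homologyMap_restriction]

theorem dRank_rev (P : DRing.Cx A) (p : ℤ) (x : PrimeSpectrum A) :
    CohIII.dRank (rev P) (-p) x = CohIII.dRank P p x := by
  let B := x.asIdeal.ResidueField
  let Q := CohIII.bcCx (algebraMap A B) P
  let e : CohIII.bcCx (algebraMap A B) (rev P) ≅ Q.restriction ComplexShape.embeddingDownIntUpInt :=
    HomologicalComplex.Hom.isoOfComponents (fun _ => Iso.refl _) fun i j _ => by simp; rfl
  exact ((HomologicalComplex.homologyFunctor _ _ (-p)).mapIso e ≪≫
    Q.restrictionHomologyIso ComplexShape.embeddingDownIntUpInt _ _ _ (ChainComplex.prev _ _)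
      ((ComplexShape.down ℤ).next_eq' (show (-p - 1) + 1 = -p by omega))
      (i' := p - 1) (j' := p) (k' := p + 1) (by simp; omega) (by simp) (by simp; omega)
      (CochainComplex.prev _ _) (CochainComplex.next _ _)).toLinearEquiv.finrank_eq

theorem preserves_iff_of_iso {F G : ModuleCat.{u} A ⥤ ModuleCat.{u} A} (e : F ≅ G) :
    (F.PreservesMonomorphisms ↔ G.PreservesMonomorphisms) ∧ (F.PreservesEpimorphisms ↔ G.PreservesEpimorphisms) :=
  ⟨Functor.PreservesMonomorphisms.iso_iff e, Functor.PreservesEpimorphisms.iso_iff e⟩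

theorem isIso_homologyMap_of_cone {P Q : DRing.Cx A} (f : P ⟶ Q) (p : ℤ)
    (h₁ : (CochainComplex.mappingCone f).ExactAt (p - 1)) (h₂ : (CochainComplex.mappingCone f).ExactAt p) :
    IsIso (homologyMap f p) := by
  have hT := DerivedCategory.mappingCone_triangle_distinguished f
  have hz : ∀ i, (CochainComplex.mappingCone f).ExactAt i → IsZero ((DerivedCategory.homologyFunctor _ i).obj
      (DerivedCategory.Q.obj (CochainComplex.mappingCone f))) := fun i h =>
    ((exactAt_iff_isZero_homology _ i).1 h).of_iso ((DerivedCategory.homologyFunctorFactors _ i).app _)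
  haveI : Epi ((DerivedCategory.homologyFunctor _ p).map (DerivedCategory.Q.map f)) :=
    (DerivedCategory.HomologySequence.epi_homologyMap_mor₁_iff _ hT p).2 ((hz p h₂).eq_of_tgt _ _)
  haveI : Mono ((DerivedCategory.homologyFunctor _ p).map (DerivedCategory.Q.map f)) :=
    (DerivedCategory.HomologySequence.mono_homologyMap_mor₁_iff _ hT (p - 1) p (by omega)).2 ((hz (p - 1) h₁).eq_of_src _ _)
  haveI := isIso_of_mono_of_epi ((DerivedCategory.homologyFunctor _ p).map (DerivedCategory.Q.map f))
  exact (NatIso.isIso_map_iff (DerivedCategory.homologyFunctorFactors _ p) f).1 this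

/-- The cone of an approximation is exact in the range. -/
theorem exactAt_cone_of_dcond {P Q : DRing.Cx A} (f : P ⟶ Q) (i : ℤ)
    [Epi ((DerivedCategory.homologyFunctor _ i).map (DerivedCategory.Q.map f))]
    [Mono ((DerivedCategory.homologyFunctor _ (i + 1)).map (DerivedCategory.Q.map f))] :
    (CochainComplex.mappingCone f).ExactAt i := by
  have hT := DerivedCategory.mappingCone_triangle_distinguished f
  have h2 : (DerivedCategory.homologyFunctor _ i).map (DerivedCategory.Q.mapTriangle.obj (CochainComplex.mappingCone.triangle f)).mor₂ = 0 :=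
    (DerivedCategory.HomologySequence.epi_homologyMap_mor₁_iff _ hT i).1 (show Epi ((DerivedCategory.homologyFunctor _ i).map (DerivedCategory.Q.map f)) from inferInstance)
  have h3 : DerivedCategory.HomologySequence.δ (DerivedCategory.Q.mapTriangle.obj (CochainComplex.mappingCone.triangle f)) i (i + 1) rfl = 0 :=
    (DerivedCategory.HomologySequence.mono_homologyMap_mor₁_iff _ hT i (i + 1) rfl).1 (show Mono ((DerivedCategory.homologyFunctor _ (i + 1)).map (DerivedCategory.Q.map f)) from inferInstance)
  have hex := DerivedCategory.HomologySequence.exact₃ _ hT i (i + 1) rfl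
  refine (exactAt_iff_isZero_homology _ i).2 (IsZero.of_iso ?_ ((DerivedCategory.homologyFunctorFactors _ i).app _).symm)
  exact hex.isZero_of_both_zeros h2 h3

/-- After any base change, exactness follows from constant fibre rank over a reduced ring. -/
theorem exact_baseChange [IsNoetherianRing A] [IsReduced A] (P : DRing.Cx A)
    [∀ i, Module.Finite A (P.X i)] [∀ i, Module.Flat A (P.X i)] (p : ℤ)
    (h : IsLocallyConstant (CohIII.dRank P p)) (B : Type u) [CommRing B] (g : A →+* B) :
    (CohIII.TFun (CohIII.bcCx g P) p).PreservesMonomorphisms ∧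
      (CohIII.TFun (CohIII.bcCx g P) p).PreservesEpimorphisms := by
  letI := g.toAlgebra
  haveI : ∀ i, Module.Finite A ((rev P).X i) := fun i => inferInstanceAs (Module.Finite A (P.X _))
  haveI : ∀ i, Module.Flat A ((rev P).X i) := fun i => inferInstanceAs (Module.Flat A (P.X _))
  have hl : IsLocallyConstant (CohIII.dRank (rev P) (-p)) := by
    rw [show CohIII.dRank (rev P) (-p) = CohIII.dRank P p from funext (dRank_rev P p)]
    exact h
  obtain ⟨h1, h2⟩ := (exact_iff_flat_cok (rev P) (sub_add_cancel (-p) 1)).1
    (exact_of_isLocallyConstant_dRank (rev P) (-p) hl)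
  haveI := fun i : ℤ => flat_X_baseChange B (rev P) i
  let Q := CohIII.bcCx (algebraMap A B) (rev P)
  have f1 : Module.Flat B (Cok Q (-p)) := (Module.Flat.equiv_iff (cokBaseChange B (rev P) (-p))).2 inferInstance
  have f2 : Module.Flat B (Cok Q (-p - 1)) := (Module.Flat.equiv_iff (cokBaseChange B (rev P) (-p - 1))).2 inferInstance
  let e : Q ≅ rev (CohIII.bcCx g P) := HomologicalComplex.Hom.isoOfComponents (fun _ => Iso.refl _) fun i j _ => by simp; rfl
  have he : CohIII.TFun Q (-p) ≅ CohIII.TFun (rev (CohIII.bcCx g P)) (-p) :=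
    NatIso.ofComponents (fun M => (HomologicalComplex.homologyFunctor _ _ (-p)).mapIso
        (((MonoidalCategory.tensorRight M).mapHomologicalComplex _).mapIso e))
      fun {M N} f => by
        change homologyMap (CohIII.tensorMap Q f) (-p) ≫ homologyMap _ (-p) = homologyMap _ (-p) ≫ homologyMap _ (-p)
        rw [← homologyMap_comp, ← homologyMap_comp]
        congr 1
        exact ((NatTrans.mapHomologicalComplex ((MonoidalCategory.tensoringRight (ModuleCat.{u} B)).map f) _).naturality e.hom).symm
  obtain ⟨hm, hp⟩ := preserves_iff_of_iso (he ≪≫ tFunRevIso (CohIII.bcCx g P) p)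
  exact ⟨hm.1 ((preservesMono_iff Q (-p)).2 f1), hp.1 ((preservesEpi_iff Q (sub_add_cancel (-p) 1)).2 f2)⟩

/-- Replacing a complex by an approximation. -/
theorem isIso_tfun_of_approx {P Q : DRing.Cx A} (β : P ⟶ Q) (hP : DBaseChange.Adapted P)
    (hQ : DBaseChange.Adapted Q) (hC : DBaseChange.Adapted (CochainComplex.mappingCone β)) (p : ℤ)
    (h : ∀ i, p - 1 ≤ i → (CochainComplex.mappingCone β).ExactAt i) (M : ModuleCat.{u} A) :
    IsIso (homologyMap ((DBaseChange.tm M).map β) p) := by
  let C := CochainComplex.mappingCone β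
  haveI := RelPCS8.TorTensor.hasLTensor M
  haveI : (DRing.toD C).IsLE (p - 2) := (DMod.isLE_iff _ _).2 fun i hi =>
    (DMod.subsingleton_HD_toD_iff _ i).2 (ModuleCat.subsingleton_of_isZero
      ((exactAt_iff_isZero_homology _ _).1 (h i (by omega))))
  obtain ⟨E, hle, hf, ⟨e⟩⟩ := DMod.exists_free_resolution (DRing.toD C) (p - 2)
  obtain ⟨e₁⟩ := DBaseChange.nonempty_lTensor_iso M C hC
  obtain ⟨e₂⟩ := DBaseChange.nonempty_lTensor_iso M E
    (DBaseChange.adapted_of_flat E (p - 2) fun i => haveI := hf i; inferInstance)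
  let w : DRing.toD ((DBaseChange.tm M).obj C) ≅ DRing.toD ((DBaseChange.tm M).obj E) :=
    e₁.symm ≪≫ (DRing.LTensor A M).mapIso e.symm ≪≫ e₂
  have hz : ∀ i, p - 1 ≤ i → ((DBaseChange.tm M).obj C).ExactAt i := fun i hi => by
    refine (exactAt_iff_isZero_homology _ i).2 (IsZero.of_iso ?_
      (((DerivedCategory.homologyFunctorFactors _ i).app _).symm ≪≫
        (DerivedCategory.homologyFunctor _ i).mapIso w ≪≫ (DerivedCategory.homologyFunctorFactors _ i).app _))
    exact (exactAt_iff_isZero_homology _ i).1 ((exactAt_iff _ i).2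
      (ShortComplex.exact_of_isZero_X₂ _ ((MonoidalCategory.tensorRight M).map_isZero
        (E.isZero_of_isStrictlyLE (p - 2) i (by omega)))))
  let e' : (DBaseChange.tm M).obj C ≅ CochainComplex.mappingCone ((DBaseChange.tm M).map β) :=
    CochainComplex.mappingCone.mapHomologicalComplexIso β (MonoidalCategory.tensorRight M)
  exact isIso_homologyMap_of_cone ((DBaseChange.tm M).map β) p
    (ExactAt.of_iso (hz (p - 1) le_rfl) e') (ExactAt.of_iso (hz p (by omega)) e')

end Groth.Agent.Exact8
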