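import Mathlib
import Groth.Agent.Lib.Exact8.Ring
import Groth.Agent.Lib.RelPCS8.FlatKernel
import Groth.Agent.Lib.RHom.Five
import Groth.Agent.Lib.RHom.TensorRes
import Groth.Agent.Lib.KFlat.LpullTensor
import Groth.Agent.Lib.KFlat.Tilde
import Groth.Agent.Lib.DPerf.BettiSC
import Groth.Agent.Lib.QCoh8.Basic
import Groth.Agent.Lib.RelPCS8.TorMV

/-!
# The functor `M ↦ H^p(M ⊗^L F)` on stalks
-/

set_option autoImplicit false
set_option backward.isDefEq.respectTransparency false
set_option backward.isDefEq.respectTransparency.types false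
set_option linter.style.haveILetI false
universe u
open CategoryTheory CategoryTheory.Limits AlgebraicGeometry Pretriangulated HomologicalComplex
attribute [local instance] HasDerivedCategory.standard

namespace Groth.Agent.Exact8

open Groth.Agent.KFlat Groth.Agent.KFlat.Sch Groth.Agent.RelPCS8

/-- Homology commutes with exact functors, naturally. -/
noncomputable def homologyMapFunIso.{v₁, w₁, v₂, w₂} {C : Type v₁} {D : Type v₂} [Category.{w₁} C] [Category.{w₂} D] [Abelian C] [Abelian D] (G : C ⥤ D)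
    [G.Additive] [G.PreservesHomology] (i : ℤ) :
    G.mapHomologicalComplex (ComplexShape.up ℤ) ⋙ homologyFunctor D (ComplexShape.up ℤ) i ≅
      homologyFunctor C (ComplexShape.up ℤ) i ⋙ G :=
  NatIso.ofComponents (fun K => (K.sc i).mapHomologyIso G) fun {K L} f =>
    ShortComplex.mapHomologyIso_hom_naturality ((shortComplexFunctor C (ComplexShape.up ℤ) i).map f) G

/-- `G(L ⊗ F) ≅ G L ⊗ G F`, naturally in `L`. -/
noncomputable def transferNatIso.{v₁, w₁, v₂, w₂} {C : Type v₁} {D : Type v₂} [Category.{w₁} C] [Category.{w₂} D]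
    [Abelian C] [Abelian D] [HasColimitsOfSize.{0, 0} C] [HasColimitsOfSize.{0, 0} D]
    (T : C ⥤ C ⥤ C) [T.Additive] [∀ X, (T.obj X).Additive] (T' : D ⥤ D ⥤ D) [T'.Additive] [∀ X, (T'.obj X).Additive]
    (G : C ⥤ D) [G.Additive] [PreservesColimitsOfSize.{0, 0} G]
    {η : ∀ (X : C) (Y : C), G.obj ((T.obj X).obj Y) ≅ (T'.obj (G.obj X)).obj (G.obj Y)}
    (hη : Natural₂ T T' (𝟭 C) (𝟭 C) G G G η) (F : CochainComplex C ℤ) :
    (tcx T).flip.obj F ⋙ G.mapHomologicalComplex (ComplexShape.up ℤ) ≅
      G.mapHomologicalComplex (ComplexShape.up ℤ) ⋙ (tcx T').flip.obj ((G.mapHomologicalComplex (ComplexShape.up ℤ)).obj F) :=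
  NatIso.ofComponents (fun L => transferIso T T' (𝟭 C) (𝟭 C) G G G hη L F) fun {L L'} φ => by
    have := transferIso_naturality T T' (𝟭 C) (𝟭 C) G G G hη φ (𝟙 F)
    simp only [CategoryTheory.Functor.map_id] at this
    exact this

section Ring

variable {A : Type u} [CommRing A]

theorem singleTotalIso_natural {C : Type*} [Category C] [Abelian C] [HasColimitsOfSize.{0, 0} C] (T : C ⥤ C ⥤ C)
    [T.Additive] [∀ X, (T.obj X).Additive] (L : CochainComplex C ℤ) {M N : C} (g : M ⟶ N) {p n : ℤ} (h : p + 0 = n) :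
    (T.obj (L.X p)).map g ≫ (singleTotalIso (T := T) L 0 N h).hom =
      (singleTotalIso (T := T) L 0 M h).hom ≫
        (((tcx T).obj L).map ((HomologicalComplex.single C (ComplexShape.up ℤ) 0).map g)).f n := by
  change _ ≫ _ ≫ _ = (_ ≫ _) ≫ _
  rw [Category.assoc, ι_tcx_map₂, ← Category.assoc, ← Category.assoc, ← Functor.map_comp, ← Functor.map_comp]
  congr 2
  rw [HomologicalComplex.single_map_f_self]
  simp

theorem singleTensorIso_inv_natural (L : DRing.Cx A) {M N : ModuleCat.{u} A} (g : M ⟶ N) :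
    CohIII.tensorMap L g ≫ (DBaseChange.singleTensorIso N L).inv =
      (DBaseChange.singleTensorIso M L).inv ≫
        ((tcx (Module.TM A)).map ((HomologicalComplex.single (ModuleCat.{u} A) (ComplexShape.up ℤ) 0).map g)).app L := by
  refine HomologicalComplex.hom_ext _ _ fun i => ?_
  have h1 := (BraidedCategory.braiding_naturality_right (C := ModuleCat.{u} A) (L.X i) g)
  have h2 := singleTotalIso_natural (Module.TM A).flip L g (add_zero i)
  have h3 := HomologicalComplex.congr_hom (HomologicalComplex.mapBifunctorFlipIso_hom_naturality (F := Module.TM A)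
    (c := ComplexShape.up ℤ) ((HomologicalComplex.single (ModuleCat.{u} A) (ComplexShape.up ℤ) 0).map g) (𝟙 L)) i
  simp only [CategoryTheory.Functor.map_id, HomologicalComplex.comp_f] at h3
  change (CohIII.tensorMap L g).f i ≫ _ ≫ (singleTotalIso (T := (Module.TM A).flip) L 0 N (add_zero i)).hom ≫
      (flipIso (Module.TM A) L _).hom.f i =
    (_ ≫ (singleTotalIso (T := (Module.TM A).flip) L 0 M (add_zero i)).hom ≫ (flipIso (Module.TM A) L _).hom.f i) ≫ _
  simp only [Category.assoc]
  refine ((Category.assoc _ _ _).symm.trans ?_)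
  rw [show (CohIII.tensorMap L g).f i ≫ ((NatIso.mapHomologicalComplex (BraidedCategory.tensorLeftIsoTensorRight N)
      (ComplexShape.up ℤ)).app L).inv.f i = ((NatIso.mapHomologicalComplex (BraidedCategory.tensorLeftIsoTensorRight M)
      (ComplexShape.up ℤ)).app L).inv.f i ≫ ((Module.TM A).flip.obj (L.X i)).map g from by
    simp [BraidedCategory.tensorLeftIsoTensorRight]]
  refine (Category.assoc _ _ _).trans (congrArg (_ ≫ ·) ?_)
  rw [reassoc_of% h2]
  exact congrArg (_ ≫ ·) h3

/-- `H^p(N ⊗ K)` in both shapes. -/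
noncomputable def tfunSingleIso (K : DRing.Cx A) (p : ℤ) :
    HomologicalComplex.single (ModuleCat.{u} A) (ComplexShape.up ℤ) 0 ⋙ (tcx (Module.TM A)).flip.obj K ⋙
        homologyFunctor _ (ComplexShape.up ℤ) p ≅ CohIII.TFun K p :=
  (NatIso.ofComponents (F := CohIII.TFun K p)
    (G := HomologicalComplex.single (ModuleCat.{u} A) (ComplexShape.up ℤ) 0 ⋙ (tcx (Module.TM A)).flip.obj K ⋙
      homologyFunctor _ (ComplexShape.up ℤ) p)
    (fun N => (homologyFunctor _ _ p).mapIso (DBaseChange.singleTensorIso N K).symm)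
    fun {M N} g => by
      change homologyMap (CohIII.tensorMap K g) p ≫ homologyMap _ p = homologyMap _ p ≫ homologyMap _ p
      rw [← homologyMap_comp, ← homologyMap_comp]
      exact congrArg (fun φ => homologyMap φ p) (singleTensorIso_inv_natural K g)).symm

end Ring

variable {X : Scheme.{u}}

/-- `M ↦ H^p(M ⊗^L F)`. -/
noncomputable abbrev Phi (F : CochainComplex X.Modules ℤ) [DCoh.HasLTensorCx F] (p : ℤ) : X.Modules ⥤ X.Modules :=
  DerivedCategory.singleFunctor X.Modules 0 ⋙ DCoh.LTensorCx F ⋙ DerivedCategory.homologyFunctor X.Modules p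

/-- `M ↦ H^p(M ⊗ F)`. -/
noncomputable abbrev S (F : CochainComplex X.Modules ℤ) (p : ℤ) : X.Modules ⥤ X.Modules :=
  HomologicalComplex.single X.Modules (ComplexShape.up ℤ) 0 ⋙ (tcx (TX X)).flip.obj F ⋙
    homologyFunctor X.Modules (ComplexShape.up ℤ) p

theorem nonempty_phi_iso (F F' : CochainComplex X.Modules ℤ) [DCoh.HasLTensorCx F] (q : F' ⟶ F) [QuasiIso q]
    (hF' : IsKFlat (TX X) F') (p : ℤ) : Nonempty (Phi F p ≅ S F' p) := by
  haveI := hasLTensorCx F'
  haveI := RHom.isIso_ltMap q
  exact ⟨Functor.isoWhiskerLeft _ (Functor.isoWhiskerRight (asIso (RHom.ltMap q)).symm _) ≪≫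
    Functor.isoWhiskerRight (DerivedCategory.singleFunctorIsoCompQ X.Modules 0) _ ≪≫
    (Functor.associator _ _ _) ≪≫ Functor.isoWhiskerLeft _ (Functor.associator _ _ _).symm ≪≫
    (Functor.associator _ _ _).symm ≪≫
    Functor.isoWhiskerRight (RHom.ltNatIso F' (HomologicalComplex.single X.Modules (ComplexShape.up ℤ) 0)
      fun b => RHom.isIso_counit_of_kflat_right F' hF' _) _ ≪≫
    Functor.associator _ _ _ ≪≫ Functor.isoWhiskerLeft _ (Functor.associator _ _ _) ≪≫
    Functor.isoWhiskerLeft _ (Functor.isoWhiskerLeft _ (DerivedCategory.homologyFunctorFactors X.Modules p))⟩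

theorem preserves_of_stalkwise {F : X.Modules ⥤ X.Modules} [F.Additive]
    (hex : ∀ T : ShortComplex X.Modules, T.ShortExact → (T.map F).Exact)
    (hm : F.PreservesMonomorphisms) (he : F.PreservesEpimorphisms) :
    PreservesFiniteLimits F ∧ PreservesFiniteColimits F :=
  ⟨(Functor.preservesFiniteLimits_iff_forall_exact_map_and_mono F).2 fun T hT =>
      ⟨hex T hT, by haveI := hT.mono_f; exact hm.preserves T.f⟩,
    (Functor.preservesFiniteColimits_iff_forall_exact_map_and_epi F).2 fun T hT =>
      ⟨hex T hT, by haveI := hT.epi_g; exact he.preserves T.g⟩⟩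

theorem exact_phi (F : CochainComplex X.Modules ℤ) [DCoh.HasLTensorCx F] (p : ℤ) (T : ShortComplex X.Modules)
    (hT : T.ShortExact) : (T.map (Phi F p)).Exact := by
  obtain ⟨w, h⟩ := RHom.hExact_lt F p _ hT.singleTriangle_distinguished
  exact h

variable {U : Scheme.{u}} (j : U ⟶ X) [IsOpenImmersion j]

/-- Stalks on an open. -/
noncomputable abbrev stJ (z : U) : X.Modules ⥤ ModuleCat.{u} (U.presheaf.stalk z) :=
  Scheme.Modules.pullback j ⋙ stF z

theorem preservesHomology_stJ (z : U) : (stJ j z).PreservesHomology := by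
  have h : PreservesFiniteLimits (stF z) ∧ PreservesFiniteColimits (stF z) :=
    ((stF z).exact_tfae.out 0 3).1 fun S hS => DPerf.shortExact_stF hS z
  haveI := h.1
  haveI := h.2
  haveI : PreservesFiniteLimits (Scheme.Modules.pullback j) :=
    preservesFiniteLimits_of_natIso (Scheme.Modules.restrictFunctorIsoPullback j)
  haveI : PreservesFiniteColimits (Scheme.Modules.pullback j) :=
    preservesFiniteColimits_of_natIso (Scheme.Modules.restrictFunctorIsoPullback j)
  infer_instance

theorem preservesFinite_stJ (z : U) :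
    PreservesFiniteLimits (stJ j z) ∧ PreservesFiniteColimits (stJ j z) :=
  haveI := preservesHomology_stJ j z
  ⟨(stJ j z).preservesFiniteLimits_of_preservesHomology, (stJ j z).preservesFiniteColimits_of_preservesHomology⟩

theorem injective_stJ_iff {M N : X.Modules} (g : M ⟶ N) (z : U) :
    (Function.Injective ((stJ j z).map g) ↔ Function.Injective ((stF (j z)).map g)) ∧
      (Function.Surjective ((stJ j z).map g) ↔ Function.Surjective ((stF (j z)).map g)) := by
  let a := ((stF z).map ((Scheme.Modules.restrictFunctor j).map g))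
  have h0 := (NatIso.naturality_1 (Functor.isoWhiskerRight (Scheme.Modules.restrictFunctorIsoPullback j) (stF z)) g)
  have e : ∀ M : X.Modules, Function.Bijective
      (((Functor.isoWhiskerRight (Scheme.Modules.restrictFunctorIsoPullback j) (stF z)).app M).hom) := fun M =>
    ConcreteCategory.bijective_of_isIso _
  have hsq : ∀ v, (stJ j z).map g (((Functor.isoWhiskerRight (Scheme.Modules.restrictFunctorIsoPullback j) (stF z)).app M).hom v) =
      ((Functor.isoWhiskerRight (Scheme.Modules.restrictFunctorIsoPullback j) (stF z)).app N).hom (a v) := fun v =>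
    (ConcreteCategory.congr_hom ((Functor.isoWhiskerRight (Scheme.Modules.restrictFunctorIsoPullback j) (stF z)).hom.naturality g) v).symm
  have hsq' : ∀ v, TorMV.rsEquiv j N z (a v) = (stF (j z)).map g (TorMV.rsEquiv j M z v) := fun v =>
    ConcreteCategory.congr_hom ((Scheme.Modules.restrictStalkNatIso j z).hom.naturality g) v
  constructor
  · rw [← Function.Injective.of_comp_iff' _ (e M)]
    rw [show (stJ j z).map g ∘ _ = _ ∘ a from funext hsq, (e N).injective.of_comp_iff,
      ← (TorMV.rsEquiv j N z).injective.of_comp_iff]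
    rw [show TorMV.rsEquiv j N z ∘ a = _ ∘ TorMV.rsEquiv j M z from funext hsq',
      Function.Injective.of_comp_iff' _ (TorMV.rsEquiv j M z).bijective]
  · rw [← (e M).surjective.of_comp_iff]
    rw [show (stJ j z).map g ∘ _ = _ ∘ a from funext hsq, Function.Surjective.of_comp_iff' (e N),
      ← Function.Surjective.of_comp_iff' (TorMV.rsEquiv j N z).bijective]
    rw [show TorMV.rsEquiv j N z ∘ a = _ ∘ TorMV.rsEquiv j M z from funext hsq',
      (TorMV.rsEquiv j M z).surjective.of_comp_iff]

/-- The complex of stalks on an open. -/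
noncomputable abbrev stK (z : U) (F : CochainComplex X.Modules ℤ) : DRing.Cx (U.presheaf.stalk z) :=
  ((stF z).mapHomologicalComplex (ComplexShape.up ℤ)).obj
    (((Scheme.Modules.pullback j).mapHomologicalComplex (ComplexShape.up ℤ)).obj F)

/-- Tensor products and pullback to an open, naturally. -/
noncomputable def pullTcxIso (F : CochainComplex X.Modules ℤ) :
    (tcx (TX X)).flip.obj F ⋙ (Scheme.Modules.pullback j).mapHomologicalComplex (ComplexShape.up ℤ) ≅
      (Scheme.Modules.pullback j).mapHomologicalComplex (ComplexShape.up ℤ) ⋙ (tcx (TX U)).flip.obj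
        (((Scheme.Modules.pullback j).mapHomologicalComplex (ComplexShape.up ℤ)).obj F) :=
  transferNatIso (TX X) (TX U) (Scheme.Modules.pullback j) (natural_pullTensorIso₂ j) F

/-- Tensor products and stalks, naturally. -/
noncomputable def stTcxIso (z : U) (Q : CochainComplex U.Modules ℤ) :
    (tcx (TX U)).flip.obj Q ⋙ (stF z).mapHomologicalComplex (ComplexShape.up ℤ) ≅
      (stF z).mapHomologicalComplex (ComplexShape.up ℤ) ⋙ (tcx (Module.TM (U.presheaf.stalk z))).flip.obj
        (((stF z).mapHomologicalComplex (ComplexShape.up ℤ)).obj Q) :=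
  transferNatIso (TX U) (Module.TM (U.presheaf.stalk z)) (stF z) (natural_stTensorIso z) Q

/-- Stalks on an open of complexes. -/
noncomputable def stJMapIso (z : U) :
    (Scheme.Modules.pullback j).mapHomologicalComplex (ComplexShape.up ℤ) ⋙
      (stF z).mapHomologicalComplex (ComplexShape.up ℤ) ≅ (stJ j z).mapHomologicalComplex (ComplexShape.up ℤ) :=
  Functor.mapHomologicalComplexCompIso (Iso.refl _) _

/-- Tensor products on stalks, naturally. -/
noncomputable def tensorStIso (z : U) (F : CochainComplex X.Modules ℤ) :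
    (tcx (TX X)).flip.obj F ⋙ (stJ j z).mapHomologicalComplex (ComplexShape.up ℤ) ≅
      (stJ j z).mapHomologicalComplex (ComplexShape.up ℤ) ⋙ (tcx (Module.TM (U.presheaf.stalk z))).flip.obj (stK j z F) :=
  Functor.isoWhiskerLeft _ (stJMapIso j z).symm ≪≫ (Functor.associator _ _ _).symm ≪≫
    Functor.isoWhiskerRight (pullTcxIso j F) _ ≪≫ Functor.associator _ _ _ ≪≫
    Functor.isoWhiskerLeft _ (stTcxIso z _) ≪≫ (Functor.associator _ _ _).symm ≪≫
    Functor.isoWhiskerRight (stJMapIso j z) _

/-- `H^p(M ⊗ F)` on stalks, naturally. -/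
theorem nonempty_S_stalk_iso (z : U) (F : CochainComplex X.Modules ℤ) (p : ℤ) :
    Nonempty (S F p ⋙ stJ j z ≅ stJ j z ⋙ CohIII.TFun (stK j z F) p) := by
  haveI := preservesHomology_stJ j z
  let J : X.Modules ⥤ ModuleCat.{u} (U.presheaf.stalk z) := stJ j z
  haveI : J.PreservesHomology := preservesHomology_stJ j z
  let R : Type u := U.presheaf.stalk z
  let H : CochainComplex (ModuleCat.{u} (U.presheaf.stalk z)) ℤ ⥤ ModuleCat.{u} (U.presheaf.stalk z) :=
    homologyFunctor _ (ComplexShape.up ℤ) p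
  let e₁ : homologyFunctor X.Modules (ComplexShape.up ℤ) p ⋙ J ≅ J.mapHomologicalComplex (ComplexShape.up ℤ) ⋙ H :=
    (homologyMapFunIso.{u + 1, u, u + 1, u} J p).symm
  let e₂ : (tcx (TX X)).flip.obj F ⋙ J.mapHomologicalComplex (ComplexShape.up ℤ) ≅
      J.mapHomologicalComplex (ComplexShape.up ℤ) ⋙ (tcx (Module.TM (U.presheaf.stalk z))).flip.obj (stK j z F) :=
    tensorStIso j z F
  let e₃ : HomologicalComplex.single X.Modules (ComplexShape.up ℤ) 0 ⋙ J.mapHomologicalComplex (ComplexShape.up ℤ) ≅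
      J ⋙ HomologicalComplex.single (ModuleCat.{u} (U.presheaf.stalk z)) (ComplexShape.up ℤ) 0 :=
    HomologicalComplex.singleMapHomologicalComplex J (ComplexShape.up ℤ) 0
  let e₄ : HomologicalComplex.single (ModuleCat.{u} (U.presheaf.stalk z)) (ComplexShape.up ℤ) 0 ⋙
      (tcx (Module.TM (U.presheaf.stalk z))).flip.obj (stK j z F) ⋙ H ≅ CohIII.TFun (stK j z F) p :=
    tfunSingleIso (stK j z F) p
  exact ⟨Functor.associator _ _ _ ≪≫ Functor.isoWhiskerLeft _ (Functor.associator _ _ _ ≪≫
      Functor.isoWhiskerLeft _ e₁ ≪≫ (Functor.associator _ _ _).symm ≪≫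
      Functor.isoWhiskerRight e₂ _ ≪≫ Functor.associator _ _ _) ≪≫
    (Functor.associator _ _ _).symm ≪≫
    Functor.isoWhiskerRight e₃ _ ≪≫
    Functor.associator _ _ _ ≪≫ Functor.isoWhiskerLeft _ e₄⟩

/-- Stalkwise exactness. -/
theorem mono_epi_of_tfun (z : U) {F : CochainComplex X.Modules ℤ} {p : ℤ} {G : X.Modules ⥤ X.Modules}
    (e : G ≅ S F p)
    (h : (CohIII.TFun (stK j z F) p).PreservesMonomorphisms ∧ (CohIII.TFun (stK j z F) p).PreservesEpimorphisms)
    {M N : X.Modules} (g : M ⟶ N) :
    (Mono g → Function.Injective ((stF (j z)).map (G.map g))) ∧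
      (Epi g → Function.Surjective ((stF (j z)).map (G.map g))) := by
  haveI := preservesHomology_stJ j z
  obtain ⟨u⟩ := nonempty_S_stalk_iso j z F p
  let t := Functor.isoWhiskerRight e (stJ j z) ≪≫ u
  have ht := NatIso.naturality_2 t g
  haveI := h.1
  haveI := h.2
  refine ⟨fun hg => (injective_stJ_iff j (G.map g) z).1.1 ((ModuleCat.mono_iff_injective _).1 ?_),
    fun hg => (injective_stJ_iff j (G.map g) z).2.1 ((ModuleCat.epi_iff_surjective _).1 ?_)⟩
  · haveI := (preservesFinite_stJ j z).1
    haveI := hg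
    haveI h1 : Mono ((stJ j z).map g) := Functor.map_mono (stJ j z) g
    haveI : Mono ((stJ j z ⋙ CohIII.TFun (stK j z F) p).map g) :=
      (h.1.preserves ((stJ j z).map g) : _)
    change Mono ((G ⋙ stJ j z).map g)
    rw [← ht]
    exact @mono_comp _ _ _ _ _ _ (IsIso.mono_of_iso _) _ (@mono_comp _ _ _ _ _ _ this _ (IsIso.mono_of_iso _))
  · haveI := (preservesFinite_stJ j z).2
    haveI := hg
    haveI h1 : Epi ((stJ j z).map g) := Functor.map_epi (stJ j z) g
    haveI : Epi ((stJ j z ⋙ CohIII.TFun (stK j z F) p).map g) :=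
      (h.2.preserves ((stJ j z).map g) : _)
    change Epi ((G ⋙ stJ j z).map g)
    rw [← ht]
    exact @epi_comp _ _ _ _ _ _ (IsIso.epi_of_iso _) _ (@epi_comp _ _ _ _ _ _ this _ (IsIso.epi_of_iso _))

end Groth.Agent.Exact8
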