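import Mathlib
import Groth.Agent.Lib.Exact8.Sheaf
import Groth.Agent.Lib.KFlat.TorTriangle

/-!
# Locally constant fibre dimension gives exactness over reduced Noetherian schemes
-/

set_option autoImplicit false
set_option backward.isDefEq.respectTransparency false
set_option backward.isDefEq.respectTransparency.types false
set_option linter.style.haveILetI false
universe u
open CategoryTheory CategoryTheory.Limits AlgebraicGeometry Pretriangulated HomologicalComplex
attribute [local instance] HasDerivedCategory.standard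

namespace Groth.Agent.Exact8

open Groth.Agent.KFlat Groth.Agent.KFlat.Sch

variable {X : Scheme.{u}}

theorem dRank_eq_betti [∀ x : X, DCoh.HasLpull (X.fromSpecResidueField x)] {E : DCoh.D X} {R : CommRingCat.{u}}
    (j : Spec R ⟶ X) [IsOpenImmersion j] (P : DRing.Cx R) {a b : ℤ} (hP : DRing.VanishesOutside P a b)
    (hF : DRing.TermwiseFiniteFree P) {p : ℤ} (α : DCoh.toD (Spec R) ((DPerf.tildeX R).obj P) ⟶ (DPerf.resD j).obj E)
    (hα : DPerf.DCond (Set.Ici (p - 1)) α) (z : Spec R) :
    CohIII.dRank P p z = PerfD.betti E (j z) p := by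
  haveI : Nontrivial R := PrimeSpectrum.nontrivial z
  haveI := fun i => (hF i).1
  haveI := fun i => (hF i).2
  obtain ⟨φ, hφ, hz⟩ := DPerf.exists_chart_map j z
  have hz' : z.asIdeal = RingHom.ker (algebraMap R z.asIdeal.ResidueField) := z.asIdeal.ker_algebraMap_residueField.symm
  have hrk : ∀ a b : ℤ, DPerf.RankSC.rk P (Spec.preimage φ).hom a b =
      DPerf.RankSC.rk P (algebraMap R z.asIdeal.ResidueField) a b := fun a b => by
    choose U hU h using fun k => DPerf.RankSC.exists_open_rk P a b k
    apply le_antisymm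
    · exact (h _ z.asIdeal.ResidueField (algebraMap R z.asIdeal.ResidueField) z hz').1
        ((h _ (X.residueField (j z)) (Spec.preimage φ).hom z hz).2 le_rfl)
    · exact (h _ (X.residueField (j z)) (Spec.preimage φ).hom z hz).1
        ((h _ z.asIdeal.ResidueField (algebraMap R z.asIdeal.ResidueField) z hz').2 le_rfl)
  have h1 := DPerf.RankSC.finrank_homology_ext P (Spec.preimage φ).hom p
  have h2 := DPerf.RankSC.finrank_homology_ext P (algebraMap R z.asIdeal.ResidueField) p
  rw [hrk, hrk] at h1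
  rw [DPerf.betti_eq (j z) j P hP hF α hα φ hφ p (p - 1) subset_rfl (by omega)]
  change Module.finrank z.asIdeal.ResidueField (((DPerf.RankSC.extCx (algebraMap R z.asIdeal.ResidueField)).obj P).homology p) = _
  omega

/-- A base change of a bounded above complex of finite free modules. -/
theorem bc_props {R A : Type u} [CommRing R] [CommRing A] (g : R →+* A) (P : DRing.Cx R) {a b : ℤ}
    (hP : DRing.VanishesOutside P a b) (hF : DRing.TermwiseFiniteFree P) :
    DBaseChange.Adapted (CohIII.bcCx g P) ∧ CochainComplex.IsKProjective (CohIII.bcCx g P) := by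
  haveI := fun i => (hF i).1
  haveI := fun i => (hF i).2
  letI : Algebra R A := g.toAlgebra
  haveI : P.IsStrictlyLE b := ((DMod.vanishesOutside_iff P a b).1 hP).2
  haveI : CochainComplex.IsStrictlyLE (CohIII.bcCx g P) b := (CochainComplex.isStrictlyLE_iff _ b).2 fun i hi =>
    (ModuleCat.extendScalars g).map_isZero (P.isZero_of_isStrictlyLE b i hi)
  exact ⟨DBaseChange.adapted_of_flat _ b fun i => inferInstanceAs (Module.Flat A (TensorProduct R A (P.X i))),
    DMod.isKProjective b fun i => inferInstanceAs (Module.Projective A (TensorProduct R A (P.X i)))⟩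

/-- An approximation computes `M ↦ H^p(M ⊗ Q)`, naturally. -/
theorem nonempty_tfun_iso_of_dcond {A : Type u} [CommRing A] {P Q : DRing.Cx A} (β : P ⟶ Q)
    (hP : DBaseChange.Adapted P) (hQ : DBaseChange.Adapted Q) (p : ℤ)
    (hβ : DPerf.DCond (Set.Ici (p - 1)) (DerivedCategory.Q.map β)) :
    Nonempty (CohIII.TFun P p ≅ CohIII.TFun Q p) := by
  have hC : DBaseChange.Adapted (CochainComplex.mappingCone β) :=
    ⟨(isKFlat_mappingCone_two_out_of_three β).1 hP.1 hQ.1, (isKFlat_mappingCone_two_out_of_three β).1 hP.2.1 hQ.2.1,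
      fun n => (isFlat_cylCoker_X β hP.2.2 hQ.2.2 n).of_iso
        ((HomologicalComplex.eval _ _ n).mapIso (cylCokerIsoCone β).symm)⟩
  have hex : ∀ i, p - 1 ≤ i → (CochainComplex.mappingCone β).ExactAt i := fun i hi => by
    obtain ⟨h1, h2⟩ := hβ i hi
    exact exactAt_cone_of_dcond β i
  haveI : ∀ M, IsIso (homologyMap ((DBaseChange.tm M).map β) p) := isIso_tfun_of_approx β hP hQ hC p hex
  exact ⟨NatIso.ofComponents (fun M => asIso (homologyMap ((DBaseChange.tm M).map β) p)) fun {M N} f => by
    change homologyMap (CohIII.tensorMap P f) p ≫ homologyMap _ p = homologyMap _ p ≫ homologyMap (CohIII.tensorMap _ f) p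
    rw [← homologyMap_comp, ← homologyMap_comp]
    exact congrArg (fun φ => homologyMap φ p)
      ((NatTrans.mapHomologicalComplex ((MonoidalCategory.tensoringRight (ModuleCat.{u} A)).map f)
        (ComplexShape.up ℤ)).naturality β).symm⟩

theorem preservesFinite_stF {Y : Scheme.{u}} (z : Y) :
    PreservesFiniteLimits (stF z) ∧ PreservesFiniteColimits (stF z) :=
  ((stF z).exact_tfae.out 0 3).1 fun S hS => DPerf.shortExact_stF hS z

theorem adapted_stK {R : CommRingCat.{u}} (j : Spec R ⟶ X) [IsOpenImmersion j] (z : Spec R)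
    {F' : CochainComplex X.Modules ℤ} (hF' : IsAdapted F') : DBaseChange.Adapted (stK j z F') :=
  ⟨isKFlat_stF (isKFlat_pullback j hF'.1) z,
    KFlat.DT.isKFlat_flip ((Module.isKFlat_iff _).1 (isKFlat_stF (isKFlat_pullback j hF'.1) z)),
    fun n => (Module.isFlat_iff _).2 ((KFlat.Sch.isFlat_iff _).1 (isFlat_pullback j (hF'.2.2 n)) z)⟩

set_option maxHeartbeats 800000 in
/-- The stalk of a free approximation on a chart computes `M ↦ H^p(M ⊗ F')` on stalks. -/
theorem nonempty_tfun_stalk_iso {R : CommRingCat.{u}} (j : Spec R ⟶ X) [IsOpenImmersion j] (P : DRing.Cx R)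
    {a b : ℤ} (hP : DRing.VanishesOutside P a b) (hF : DRing.TermwiseFiniteFree P)
    (F F' : CochainComplex X.Modules ℤ) (q : F' ⟶ F) [QuasiIso q] (hF' : IsAdapted F') (p : ℤ)
    (α : DCoh.toD (Spec R) ((DPerf.tildeX R).obj P) ⟶ (DPerf.resD j).obj (DCoh.toD X F))
    (hα : DPerf.DCond (Set.Ici (p - 1)) α) (z : Spec R) :
    Nonempty (CohIII.TFun (CohIII.bcCx (StructureSheaf.toStalk R z).hom P) p ≅ CohIII.TFun (stK j z F') p) := by
  obtain ⟨hPz, hK⟩ := bc_props (StructureSheaf.toStalk R z).hom P hP hF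
  haveI := hK
  haveI := (preservesFinite_stF (Y := Spec R) z).1
  haveI := (preservesFinite_stF (Y := Spec R) z).2
  let α' : DCoh.toD (Spec R) ((DPerf.tildeX R).obj P) ⟶
      DCoh.toD (Spec R) (((Scheme.Modules.pullback j).mapHomologicalComplex (ComplexShape.up ℤ)).obj F') :=
    α ≫ (DPerf.resD j).map (inv (DerivedCategory.Q.map q)) ≫ (DQC.resPullIso j F').hom
  have hα' : DPerf.DCond (Set.Ici (p - 1)) α' :=
    hα.comp (DPerf.DCond.comp (DPerf.dcond_map _ (DPerf.dcond_of_isIso _)) (DPerf.dcond_of_isIso _))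
  let u : DRing.toD (CohIII.bcCx (StructureSheaf.toStalk R z).hom P) ≅
      (stF (X := Spec R) z).mapDerivedCategory.obj (DCoh.toD (Spec R) ((DPerf.tildeX R).obj P)) :=
    DerivedCategory.Q.mapIso (((Functor.mapHomologicalComplexCompIso (tildeStalkNatIso R z) (ComplexShape.up ℤ)).app P).symm) ≪≫
      ((stF (X := Spec R) z).mapDerivedCategoryFactors.app ((DPerf.tildeX R).obj P)).symm
  let w : (stF (X := Spec R) z).mapDerivedCategory.obj
      (DCoh.toD (Spec R) (((Scheme.Modules.pullback j).mapHomologicalComplex (ComplexShape.up ℤ)).obj F')) ≅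
      DRing.toD (stK j z F') := (stF (X := Spec R) z).mapDerivedCategoryFactors.app _
  obtain ⟨β, hβ⟩ := DMod.exists_map_eq (u.hom ≫ (stF (X := Spec R) z).mapDerivedCategory.map α' ≫ w.hom)
  have hm : DPerf.DCond (Set.Ici (p - 1)) ((stF (X := Spec R) z).mapDerivedCategory.map α') :=
    DPerf.dcond_map (stF (X := Spec R) z) hα'
  refine nonempty_tfun_iso_of_dcond β hPz (adapted_stK j z hF') p ?_
  rw [hβ]
  exact (DPerf.dcond_of_isIso _).comp (hm.comp (DPerf.dcond_of_isIso _))

/-- Constant fibre dimension gives exactness on stalks. -/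
theorem exact_stalk [IsLocallyNoetherian X] [IsReduced X] [∀ x : X, DCoh.HasLpull (X.fromSpecResidueField x)]
    (F F' : CochainComplex X.Modules ℤ) (q : F' ⟶ F) [QuasiIso q] (hF' : IsAdapted F') (p : ℤ)
    (hE : DCoh.IsPseudoCoherentD (p - 1) (DCoh.toD X F))
    (hc : IsLocallyConstant (fun x : X => PerfD.betti (DCoh.toD X F) x p)) (x : X) :
    ∃ (R : CommRingCat.{u}) (j : Spec R ⟶ X) (_ : IsOpenImmersion j) (z : Spec R), j z = x ∧
      (CohIII.TFun (stK j z F') p).PreservesMonomorphisms ∧ (CohIII.TFun (stK j z F') p).PreservesEpimorphisms := by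
  obtain ⟨R, j, hj, P, a, b, ⟨z, hz⟩, hP, hF, α, hα⟩ :=
    DPerf.exists_free_chart (DPerf.approx_of_isPseudoCoherentD hE) x
  refine ⟨R, j, hj, z, hz, ?_⟩
  haveI : IsLocallyNoetherian (Spec R) := isLocallyNoetherian_of_isOpenImmersion j
  haveI : IsNoetherianRing R := isNoetherian_Spec.1 ({} : IsNoetherian (Spec R))
  haveI : IsReduced (Spec R) := isReduced_of_isOpenImmersion j
  haveI : _root_.IsReduced R := affine_isReduced_iff R |>.1 inferInstance
  haveI := fun i => (hF i).1
  haveI := fun i => (hF i).2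
  haveI : ∀ i, Module.Flat R (P.X i) := fun i => inferInstance
  have hl : IsLocallyConstant (CohIII.dRank P p) := by
    rw [show CohIII.dRank P p = (fun x : X => PerfD.betti (DCoh.toD X F) x p) ∘ j from
      funext fun z => dRank_eq_betti j P hP hF α hα z]
    exact hc.comp_continuous j.continuous
  obtain ⟨hm, he⟩ := exact_baseChange P p hl ((Spec R).presheaf.stalk z) (StructureSheaf.toStalk R z).hom
  obtain ⟨e⟩ := nonempty_tfun_stalk_iso j P hP hF F F' q hF' p α hα z
  exact ⟨(preserves_iff_of_iso e).1.1 hm, (preserves_iff_of_iso e).2.1 he⟩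

/-- Locally constant fibre dimension gives exactness. -/
theorem exact_of_betti [IsLocallyNoetherian X] [IsReduced X] [∀ x : X, DCoh.HasLpull (X.fromSpecResidueField x)]
    (F : CochainComplex X.Modules ℤ) [DCoh.HasLTensorCx F] (p : ℤ)
    (hE : DCoh.IsPseudoCoherentD (p - 1) (DCoh.toD X F))
    (hc : IsLocallyConstant (fun x : X => PerfD.betti (DCoh.toD X F) x p)) :
    PreservesFiniteLimits (Phi F p) ∧ PreservesFiniteColimits (Phi F p) := by
  haveI : QuasiIso (resπ (cover X) F) := quasiIso_resπ (cover X) F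
  obtain ⟨e⟩ := nonempty_phi_iso F _ (resπ (cover X) F) (isAdapted_resObj F).1 p
  have hst : ∀ {M N : X.Modules} (g : M ⟶ N) (x : X),
      (Mono g → Function.Injective ((stF x).map ((Phi F p).map g))) ∧
        (Epi g → Function.Surjective ((stF x).map ((Phi F p).map g))) := fun {M N} g x => by
    obtain ⟨R, j, hj, z, hz, h⟩ := exact_stalk F _ (resπ (cover X) F) (isAdapted_resObj F) p hE hc x
    exact hz ▸ mono_epi_of_tfun j z e h g
  refine preserves_of_stalkwise (exact_phi F p)
    ⟨fun {M N} g _ => (KFlat.Sch.mono_iff_stalk _).2 fun x => ?_⟩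
    ⟨fun {M N} g _ => (M1.epi_iff_stalk _).2 fun x => ?_⟩
  · exact (hst g x).1 inferInstance
  · exact (hst g x).2 inferInstance

end Groth.Agent.Exact8
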