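import Mathlib
import Groth.Agent.Lib.Exact8.Betti
import Groth.Agent.Lib.FlatCx.Exact
import Groth.Agent.Lib.DPerf.Tilde
import Groth.Agent.Lib.DPerf.Top
import Groth.Agent.Lib.QCoh8.Basic
import Groth.Agent.Lib.ModM1.Affine

/-!
# Exactness of `M ↦ H^p(M ⊗^L F)` gives locally constant fibre dimension
-/

set_option autoImplicit false
set_option backward.isDefEq.respectTransparency false
set_option backward.isDefEq.respectTransparency.types false
set_option linter.style.haveILetI false
universe u
open CategoryTheory CategoryTheory.Limits AlgebraicGeometry Pretriangulated HomologicalComplex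
open scoped TensorProduct
attribute [local instance] HasDerivedCategory.standard

namespace Groth.Agent.Exact8

open Groth.Agent.KFlat Groth.Agent.KFlat.Sch Groth.Agent.FlatCxLib

variable {X : Scheme.{u}}

section Ring

variable {A : Type u} [CommRing A]

/-- `H^p(bc P ⊗ M)` through the chain complex. -/
theorem nonempty_bc_rev {B : Type u} [CommRing B] (g : A →+* B) (P : DRing.Cx A) (p : ℤ) :
    Nonempty (CohIII.TFun (CohIII.bcCx g (rev P)) (-p) ≅ CohIII.TFun (CohIII.bcCx g P) p) := by
  let Q := CohIII.bcCx g (rev P)
  let e : Q ≅ rev (CohIII.bcCx g P) := HomologicalComplex.Hom.isoOfComponents (fun _ => Iso.refl _) fun i j _ => by simp; rfl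
  have he : CohIII.TFun Q (-p) ≅ CohIII.TFun (rev (CohIII.bcCx g P)) (-p) :=
    NatIso.ofComponents (fun M => (HomologicalComplex.homologyFunctor _ _ (-p)).mapIso
        (((MonoidalCategory.tensorRight M).mapHomologicalComplex _).mapIso e))
      fun {M N} f => by
        change homologyMap (CohIII.tensorMap Q f) (-p) ≫ homologyMap _ (-p) = homologyMap _ (-p) ≫ homologyMap _ (-p)
        rw [← homologyMap_comp, ← homologyMap_comp]
        congr 1
        exact ((NatTrans.mapHomologicalComplex ((MonoidalCategory.tensoringRight (ModuleCat.{u} B)).map f) _).naturality e.hom).symm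
  exact ⟨he ≪≫ tFunRevIso (CohIII.bcCx g P) p⟩

/-- A kernel between projectives with projective cokernel is projective. -/
theorem finite_projective_ker {M N : Type u} [AddCommGroup M] [Module A M] [AddCommGroup N] [Module A N]
    [Module.Finite A M] [Module.Projective A M] [Module.Finite A N] [Module.Projective A N] (f : M →ₗ[A] N)
    [Module.Projective A (N ⧸ LinearMap.range f)] :
    Module.Finite A (LinearMap.ker f) ∧ Module.Projective A (LinearMap.ker f) := by
  obtain ⟨s, hs⟩ := (LinearMap.range f).mkQ.exists_rightInverse_of_surjective (Submodule.range_mkQ _)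
  let r : N →ₗ[A] LinearMap.range f := (LinearMap.id - s ∘ₗ (LinearMap.range f).mkQ).codRestrict _ fun x => by
    rw [← Submodule.Quotient.mk_eq_zero]
    have := LinearMap.congr_fun hs (Submodule.Quotient.mk x)
    simp only [LinearMap.comp_apply, Submodule.mkQ_apply, LinearMap.id_apply] at this
    simp [Submodule.Quotient.mk_sub, this]
  have hr : r ∘ₗ (LinearMap.range f).subtype = LinearMap.id := by
    ext x
    have : (LinearMap.range f).mkQ (x : N) = 0 := (Submodule.Quotient.mk_eq_zero _).2 x.2
    simp [r, LinearMap.codRestrict_apply, this]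
  haveI : Module.Projective A (LinearMap.range f) := Module.Projective.of_split _ r hr
  obtain ⟨t, ht⟩ := f.rangeRestrict.exists_rightInverse_of_surjective (LinearMap.range_rangeRestrict f)
  let k : M →ₗ[A] LinearMap.ker f := (LinearMap.id - t ∘ₗ f.rangeRestrict).codRestrict _ fun x => by
    have := congrArg Subtype.val (LinearMap.congr_fun ht (f.rangeRestrict x))
    simp only [LinearMap.comp_apply, LinearMap.id_apply, LinearMap.rangeRestrict, LinearMap.codRestrict_apply] at this
    simp [LinearMap.mem_ker, this]
  have hk : k ∘ₗ (LinearMap.ker f).subtype = LinearMap.id := by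
    ext x
    have : f.rangeRestrict (x : M) = 0 := Subtype.ext x.2
    simp [k, LinearMap.codRestrict_apply, this]
  exact ⟨Module.Finite.of_surjective k fun x => ⟨x, LinearMap.congr_fun hk x⟩, Module.Projective.of_split _ k hk⟩

/-- Homology between flat cokernels is finite projective. -/
theorem finite_projective_homology (P : ChainComplex (ModuleCat.{u} A) ℤ) (p : ℤ)
    [∀ i, Module.Finite A (P.X i)] [∀ i, Module.Projective A (P.X i)]
    [Module.Projective A (Cok P p)] [Module.Projective A (Cok P (p - 1))] :
    Module.Finite A (P.homology p) ∧ Module.Projective A (P.homology p) := by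
  haveI : Module.Finite A (P.opcycles p) := Module.Finite.equiv (opcyclesEquiv P p).symm
  haveI : Module.Projective A (P.opcycles p) := Module.Projective.of_equiv (opcyclesEquiv P p).symm
  let f := (P.fromOpcycles p (p - 1)).hom
  have hpo : Function.Surjective (P.pOpcycles p).hom :=
    (ModuleCat.epi_iff_surjective _).1 inferInstance
  have hrange : LinearMap.range f = LinearMap.range (dl P ((p - 1) + 1) (p - 1)) := by
    rw [show dl P ((p - 1) + 1) (p - 1) = (P.d ((p - 1) + 1) (p - 1)).hom from rfl, sub_add_cancel,
      ← P.p_fromOpcycles p (p - 1), ModuleCat.hom_comp,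
      LinearMap.range_comp_of_range_eq_top _ (LinearMap.range_eq_top.2 hpo)]
  haveI : Module.Projective A (P.X (p - 1) ⧸ LinearMap.range f) :=
    Module.Projective.of_equiv (Submodule.quotEquivOfEq _ _ hrange.symm)
  obtain ⟨h1, h2⟩ := finite_projective_ker f
  let e : P.homology p ≅ ModuleCat.of A (LinearMap.ker f) :=
    (P.homologyIsKernel p (p - 1) ((ComplexShape.down ℤ).next_eq' (sub_add_cancel p 1))).conePointUniqueUpToIso
      (ModuleCat.kernelIsLimit (P.fromOpcycles p (p - 1)))
  exact ⟨Module.Finite.equiv e.toLinearEquiv.symm, Module.Projective.of_equiv e.toLinearEquiv.symm⟩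

/-- The cokernels of the backwards complex are flat if they are so at every prime. -/
theorem flat_cok_of_stalks (R : CommRingCat.{u}) (P : DRing.Cx R) [∀ i, Module.Flat R (P.X i)] (p : ℤ)
    (h : ∀ z : Spec R, (CohIII.TFun (CohIII.bcCx (StructureSheaf.toStalk R z).hom P) p).PreservesMonomorphisms ∧
      (CohIII.TFun (CohIII.bcCx (StructureSheaf.toStalk R z).hom P) p).PreservesEpimorphisms) :
    Module.Flat R (Cok (rev P) (-p)) ∧ Module.Flat R (Cok (rev P) (-p - 1)) := by
  haveI : ∀ i, Module.Flat R ((rev P).X i) := fun i => inferInstanceAs (Module.Flat R (P.X _))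
  have hloc : ∀ (m : Ideal R) [m.IsMaximal],
      Module.Flat R (LocalizedModule m.primeCompl (Cok (rev P) (-p))) ∧
        Module.Flat R (LocalizedModule m.primeCompl (Cok (rev P) (-p - 1))) := fun m hm => by
    let z : Spec R := ⟨m, hm.isPrime⟩
    let g := (StructureSheaf.toStalk R z).hom
    let B := (Spec.structureSheaf R).presheaf.stalk z
    letI : Algebra R B := g.toAlgebra
    haveI : IsLocalization.AtPrime B m := StructureSheaf.IsLocalization.to_stalk R z
    haveI := fun i : ℤ => flat_X_baseChange B (rev P) i
    obtain ⟨hm', he'⟩ := h z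
    let Q := CohIII.bcCx (algebraMap R B) (rev P)
    obtain ⟨e⟩ := nonempty_bc_rev (algebraMap R B) P p
    obtain ⟨h1, h2⟩ := preserves_iff_of_iso e
    have f1 : Module.Flat B (Cok Q (-p)) := (preservesMono_iff Q (-p)).1 (h1.2 hm')
    have f2 : Module.Flat B (Cok Q (-p - 1)) := (preservesEpi_iff Q (sub_add_cancel (-p) 1)).1 (h2.2 he')
    haveI : Module.Flat R B := IsLocalization.flat B m.primeCompl
    have hh : ∀ (k : ℤ), Module.Flat B (Cok Q k) → Module.Flat R (LocalizedModule m.primeCompl (Cok (rev P) k)) := by
      intro k hk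
      haveI : Module.Flat B (B ⊗[R] Cok (rev P) k) := (Module.Flat.equiv_iff (cokBaseChange B (rev P) k)).1 hk
      haveI : Module.Flat R (B ⊗[R] Cok (rev P) k) := Module.Flat.trans R B _
      haveI : IsLocalizedModule m.primeCompl (TensorProduct.mk R B (Cok (rev P) k) 1) :=
        (isLocalizedModule_iff_isBaseChange m.primeCompl B _).2 (TensorProduct.isBaseChange R _ B)
      exact Module.Flat.of_linearEquiv (IsLocalizedModule.iso m.primeCompl (TensorProduct.mk R B (Cok (rev P) k) 1))
    exact ⟨hh _ f1, hh _ f2⟩
  exact ⟨Module.flat_of_localized_maximal _ fun m _ => (hloc m).1, Module.flat_of_localized_maximal _ fun m _ => (hloc m).2⟩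

/-- Flat neighbouring cokernels of a finite free complex. -/
theorem locallyConstant_and_projective_of_flat_cok (P : ChainComplex (ModuleCat.{u} A) ℤ)
    [∀ i, Module.Finite A (P.X i)] [∀ i, Module.Projective A (P.X i)] {p q : ℤ} (hpq : q + 1 = p)
    [Module.Flat A (Cok P p)] [Module.Flat A (Cok P q)] :
    IsLocallyConstant (CohIII.dRank P p) ∧ Module.Finite A (P.homology p) ∧ Module.Projective A (P.homology p) := by
  have hfp : ∀ k, Module.FinitePresentation A (Cok P k) := fun k =>
    haveI := Module.finitePresentation_of_projective A (P.X k)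
    Module.finitePresentation_of_surjective (LinearMap.range (dl P (k + 1) k)).mkQ
      (Submodule.mkQ_surjective _) (by
        rw [Submodule.ker_mkQ, LinearMap.range_eq_map]
        exact (Module.Finite.fg_top).map _)
  haveI := hfp p
  haveI := hfp q
  haveI : Module.Projective A (Cok P p) := Module.Flat.projective_of_finitePresentation
  haveI : Module.Projective A (Cok P q) := Module.Flat.projective_of_finitePresentation
  constructor
  · haveI := Module.finitePresentation_of_projective A (P.X q)
    refine (IsLocallyConstant.iff_eventually_eq _).2 fun x => ?_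
    filter_upwards [(Module.isLocallyConstant_rankAtStalk (R := A) (M := Cok P p)).eventually_eq x,
      (Module.isLocallyConstant_rankAtStalk (R := A) (M := Cok P q)).eventually_eq x,
      (Module.isLocallyConstant_rankAtStalk (R := A) (M := P.X q)).eventually_eq x] with y h1 h2 h3
    have hy := dRank_add P y hpq
    have hx := dRank_add P x hpq
    rw [show cokRank P p y = Module.rankAtStalk (Cok P p) y from fibRank_eq_rankAtStalk y,
      show cokRank P q y = Module.rankAtStalk (Cok P q) y from fibRank_eq_rankAtStalk y] at hy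
    rw [show cokRank P p x = Module.rankAtStalk (Cok P p) x from fibRank_eq_rankAtStalk x,
      show cokRank P q x = Module.rankAtStalk (Cok P q) x from fibRank_eq_rankAtStalk x] at hx
    omega
  · obtain rfl : q = p - 1 := by omega
    exact finite_projective_homology P p

end Ring

section Scheme

variable {R : CommRingCat.{u}} (j : Spec R ⟶ X) [IsOpenImmersion j]

/-- Along a localization the counit of extension of scalars is an isomorphism. -/
theorem isIso_counit_of_isLocalization {A B : Type u} [CommRing A] [CommRing B] (g : A →+* B) (S : Submonoid A)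
    (h : @IsLocalization A _ S B _ g.toAlgebra) : IsIso (ModuleCat.extendRestrictScalarsAdj g).counit := by
  letI := g.toAlgebra
  haveI := h
  haveI : ∀ N, IsIso ((ModuleCat.extendRestrictScalarsAdj g).counit.app N) := fun N => by
    rw [ConcreteCategory.isIso_iff_bijective]
    letI : Module A N := Module.compHom N g
    haveI : IsScalarTower A B N := IsScalarTower.of_algebraMap_smul fun _ _ => rfl
    let c : TensorProduct A B N →ₗ[B] N := ((ModuleCat.extendRestrictScalarsAdj g).counit.app N).hom
    suffices hc : c = (IsLocalization.moduleLid (M₁ := N) S B).toLinearMap by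
      have := (IsLocalization.moduleLid (M₁ := N) S B).bijective
      change Function.Bijective c
      rw [hc]
      exact this
    refine TensorProduct.AlgebraTensorModule.ext fun b n => ?_
    change b • n = TensorProduct.lid B N (b ⊗ₜ[B] n)
    rw [TensorProduct.lid_tmul]
  exact NatIso.isIso_of_isIso_app _

/-- The module on `X` with given stalk at a point of a chart. -/
noncomputable abbrev spread (z : Spec R) : ModuleCat.{u} ((Spec R).presheaf.stalk z) ⥤ X.Modules :=
  ModuleCat.restrictScalars (StructureSheaf.toStalk R z).hom ⋙ tilde.functor R ⋙ Scheme.Modules.pushforward j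

theorem nonempty_spread_stalk (z : Spec R) : Nonempty (spread j z ⋙ stJ j z ≅ 𝟭 _) := by
  let c : Scheme.Modules.pushforward j ⋙ Scheme.Modules.pullback j ≅ 𝟭 _ :=
    Functor.isoWhiskerLeft _ (Scheme.Modules.restrictFunctorIsoPullback j).symm ≪≫
      asIso (Scheme.Modules.restrictAdjunction j).counit
  let g := (StructureSheaf.toStalk R z).hom
  haveI : IsIso (ModuleCat.extendRestrictScalarsAdj g).counit := by
    letI : Algebra R ((Spec R).presheaf.stalk z) := g.toAlgebra
    haveI : IsLocalization.AtPrime ((Spec R).presheaf.stalk z) z.asIdeal := StructureSheaf.IsLocalization.to_stalk R z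
    exact isIso_counit_of_isLocalization g z.asIdeal.primeCompl inferInstance
  exact ⟨Functor.associator _ _ _ ≪≫ Functor.isoWhiskerLeft _ (Functor.associator _ _ _ ≪≫
      Functor.isoWhiskerLeft _ ((Functor.associator _ _ _).symm ≪≫ Functor.isoWhiskerRight c (stF z) ≪≫
        Functor.leftUnitor _) ≪≫ tildeStalkNatIso R z) ≪≫
    asIso (ModuleCat.extendRestrictScalarsAdj g).counit⟩

theorem mono_spread (z : Spec R) {M N : ModuleCat.{u} ((Spec R).presheaf.stalk z)} (g : M ⟶ N) (hg : Mono g) :
    Mono ((spread j z).map g) := by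
  haveI : Mono ((ModuleCat.restrictScalars (StructureSheaf.toStalk R z).hom).map g) := inferInstance
  haveI : Mono ((tilde.functor R).map ((ModuleCat.restrictScalars (StructureSheaf.toStalk R z).hom).map g)) :=
    Functor.map_mono _ _
  haveI := Functor.preservesMonomorphisms_of_adjunction (Scheme.Modules.restrictAdjunction j)
  exact inferInstanceAs (Mono ((Scheme.Modules.pushforward j).map ((tilde.functor R).map
    ((ModuleCat.restrictScalars (StructureSheaf.toStalk R z).hom).map g))))

theorem preservesMonomorphisms_stJ (z : Spec R) : (stJ j z).PreservesMonomorphisms := by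
  haveI := (preservesFinite_stJ j z).1
  exact preservesMonomorphisms_of_preservesLimitsOfShape _

theorem preservesEpimorphisms_stJ (z : Spec R) : (stJ j z).PreservesEpimorphisms := by
  haveI := (preservesFinite_stJ j z).2
  exact preservesEpimorphisms_of_preservesColimitsOfShape _

theorem mono_map_of_natIso.{v₁, w₁, v₂, w₂} {C : Type v₁} {D : Type v₂} [Category.{w₁} C] [Category.{w₂} D]
    {F G : C ⥤ D} (t : F ≅ G) {M N : C} (g : M ⟶ N) (h : Mono (F.map g)) : Mono (G.map g) := by
  rw [← NatIso.naturality_1 t g]
  infer_instance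

theorem epi_map_of_natIso.{v₁, w₁, v₂, w₂} {C : Type v₁} {D : Type v₂} [Category.{w₁} C] [Category.{w₂} D]
    {F G : C ⥤ D} (t : F ≅ G) {M N : C} (g : M ⟶ N) (h : Epi (F.map g)) : Epi (G.map g) := by
  rw [← NatIso.naturality_1 t g]
  infer_instance

theorem isIso_map_of_mono_epi.{v₁, w₁, v₂, w₂} {C : Type v₁} {D : Type v₂} [Category.{w₁} C] [Category.{w₂} D]
    [Abelian C] [Abelian D] (F : C ⥤ D) [PreservesFiniteLimits F] {M N : C} (h : M ⟶ N)
    (he : Epi (F.map h)) : IsIso (F.map (Abelian.image.ι h)) := by
  haveI : Epi (F.map (Abelian.factorThruImage h) ≫ F.map (Abelian.image.ι h)) := by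
    rw [← Functor.map_comp, kernel.lift_ι]
    exact he
  haveI : Epi (F.map (Abelian.image.ι h)) := epi_of_epi (F.map (Abelian.factorThruImage h)) _
  exact isIso_of_mono_of_epi _

theorem epi_map_of_image.{v₁, w₁, v₂, w₂, v₃, w₃} {C : Type v₁} {D : Type v₂} {E : Type v₃} [Category.{w₁} C]
    [Category.{w₂} D] [Category.{w₃} E] [Abelian C] (F : C ⥤ D) (T : D ⥤ E) {M N : C} (h : M ⟶ N)
    (hi : IsIso (F.map (Abelian.image.ι h))) (he : Epi (T.map (F.map (Abelian.factorThruImage h)))) :
    Epi (T.map (F.map h)) := by
  rw [show h = Abelian.factorThruImage h ≫ Abelian.image.ι h from (kernel.lift_ι _ _ _).symm,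
    Functor.map_comp, Functor.map_comp]
  infer_instance

/-- Exactness on test modules gives exactness on a stalk. -/
theorem tfun_preserves_of_test (z : Spec R) {F : CochainComplex X.Modules ℤ} {p : ℤ}
    {G : X.Modules ⥤ X.Modules} (e : G ≅ S F p) (Q : ObjectProperty X.Modules) [Q.IsClosedUnderKernels]
    [Q.IsClosedUnderCokernels] (hQ : ∀ N, Q ((spread j z).obj N))
    (hm : ∀ {M N : X.Modules} (g : M ⟶ N), Q M → Q N → Mono g → Mono (G.map g))
    (he : ∀ {M N : X.Modules} (g : M ⟶ N), Q M → Q N → Epi g → Epi (G.map g)) :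
    (CohIII.TFun (stK j z F) p).PreservesMonomorphisms ∧ (CohIII.TFun (stK j z F) p).PreservesEpimorphisms := by
  obtain ⟨u⟩ := nonempty_S_stalk_iso j z F p
  obtain ⟨τ⟩ := nonempty_spread_stalk j z
  let T := CohIII.TFun (stK j z F) p
  let t : G ⋙ stJ j z ≅ stJ j z ⋙ T := Functor.isoWhiskerRight e (stJ j z) ≪≫ u
  let w : spread j z ⋙ stJ j z ⋙ T ≅ T := (Functor.associator _ _ _).symm ≪≫ Functor.isoWhiskerRight τ T ≪≫ Functor.leftUnitor _
  haveI hl := (preservesFinite_stJ j z).1
  haveI hr := (preservesFinite_stJ j z).2
  refine ⟨⟨fun {M N} g hg => ?_⟩, ⟨fun {M N} g hg => ?_⟩⟩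
  · haveI := mono_spread j z g hg
    have h1 : Mono (G.map ((spread j z).map g)) := hm _ (hQ M) (hQ N) this
    have h2 : Mono ((G ⋙ stJ j z).map ((spread j z).map g)) :=
      @Functor.map_mono _ _ _ _ (stJ j z) (preservesMonomorphisms_stJ j z) _ _ _ h1
    have h3 : Mono ((stJ j z ⋙ T).map ((spread j z).map g)) := mono_map_of_natIso t _ h2
    exact mono_map_of_natIso w g h3
  · let h := (spread j z).map g
    have hI : Q (Abelian.image h) := Q.prop_kernel _ (hQ N) (Q.prop_cokernel _ (hQ M) (hQ N))
    have h1 : Epi (G.map (Abelian.factorThruImage h)) := he _ (hQ M) hI inferInstance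
    have h2 : Epi ((G ⋙ stJ j z).map (Abelian.factorThruImage h)) :=
      @Functor.map_epi _ _ _ _ (stJ j z) (preservesEpimorphisms_stJ j z) _ _ _ h1
    have h3 : Epi (T.map ((stJ j z).map (Abelian.factorThruImage h))) := epi_map_of_natIso t _ h2
    have h4 : Epi ((spread j z ⋙ stJ j z).map g) := epi_map_of_natIso τ.symm g hg
    have h5 := isIso_map_of_mono_epi (stJ j z) h h4
    exact epi_map_of_natIso w g (epi_map_of_image (stJ j z) T h h5 h3)

end Scheme

end Groth.Agent.Exact8
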