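import Mathlib
import Groth.Agent.Lib.Exact8.Sheaf
import Groth.Agent.Lib.DBaseChange.TensorValue

/-!
# `M ↦ H^p(M ⊗^L F)` over a ring
-/

set_option autoImplicit false
set_option backward.isDefEq.respectTransparency false
set_option backward.isDefEq.respectTransparency.types false
set_option linter.style.haveILetI false
universe u
open CategoryTheory CategoryTheory.Limits Pretriangulated HomologicalComplex MonoidalCategory
attribute [local instance] HasDerivedCategory.standard

namespace Groth.Agent.Exact8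

open Groth.Agent.KFlat

variable {A : Type u} [CommRing A]

/-- `L ↦ L ⊗^L F` as the tensor product with a K-flat replacement, naturally. -/
theorem nonempty_ltensorCx_natIso {F K : DRing.Cx A} [DRing.HasLTensorCx A F] (q : K ⟶ F) [QuasiIso q]
    (hK : DRing.IsKFlat A K) :
    Nonempty (DerivedCategory.Q ⋙ DRing.LTensorCx A F ≅ MonoidalCategory.tensorRight K ⋙ DerivedCategory.Q) := by
  let r := DT.res A
  let a := DT.aug A
  haveI : IsIso (Functor.whiskerRight a (DerivedCategory.Q ⋙ DRing.LTensorCx A F)) := by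
    haveI : ∀ L, IsIso ((Functor.whiskerRight a (DerivedCategory.Q ⋙ DRing.LTensorCx A F)).app L) := fun L =>
      haveI := DT.isIso_Q_map _ (DT.qis_aug L)
      inferInstanceAs (IsIso ((DRing.LTensorCx A F).map (DerivedCategory.Q.map (a.app L))))
    exact NatIso.isIso_of_isIso_app _
  let c := (DRing.tensorCxQ A F).totalLeftDerivedCounit DerivedCategory.Q
    (HomologicalComplex.quasiIso (ModuleCat.{u} A) (ComplexShape.up ℤ))
  haveI : IsIso (Functor.whiskerLeft r c) := by
    haveI : ∀ L, IsIso ((Functor.whiskerLeft r c).app L) := fun L =>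
      DBaseChange.isIso_lTensorCx_counit F (DT.isKFlat_res L)
    exact NatIso.isIso_of_isIso_app _
  let w : r ⋙ MonoidalCategory.tensorRight K ⋙ DerivedCategory.Q ⟶ r ⋙ MonoidalCategory.tensorRight F ⋙ DerivedCategory.Q :=
    Functor.whiskerLeft r (Functor.whiskerRight ((MonoidalCategory.tensoringRight (DRing.Cx A)).map q) _)
  haveI : IsIso w := by
    haveI : ∀ L, IsIso (w.app L) := fun L =>
      haveI := DT.quasiIso_whiskerLeft q (DT.isKFlat_res L)
      inferInstanceAs (IsIso (DerivedCategory.Q.map ((r.obj L) ◁ q)))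
    exact NatIso.isIso_of_isIso_app _
  haveI : IsIso (Functor.whiskerRight a (MonoidalCategory.tensorRight K ⋙ DerivedCategory.Q)) := by
    haveI : ∀ L, IsIso ((Functor.whiskerRight a (MonoidalCategory.tensorRight K ⋙ DerivedCategory.Q)).app L) := fun L =>
      haveI : QuasiIso (a.app L) := DT.qis_aug L
      haveI := DT.quasiIso_whiskerRight (a.app L) hK
      inferInstanceAs (IsIso (DerivedCategory.Q.map (a.app L ▷ K)))
    exact NatIso.isIso_of_isIso_app _
  exact ⟨(Functor.leftUnitor _).symm ≪≫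
    (asIso (Functor.whiskerRight a (DerivedCategory.Q ⋙ DRing.LTensorCx A F))).symm ≪≫
    asIso (Functor.whiskerLeft r c) ≪≫ (asIso w).symm ≪≫
    asIso (Functor.whiskerRight a (MonoidalCategory.tensorRight K ⋙ DerivedCategory.Q)) ≪≫ Functor.leftUnitor _⟩

/-- `M ↦ H^p(M ⊗^L F)` is `M ↦ H^p(K ⊗ M)`. -/
theorem nonempty_phiR_iso {F K : DRing.Cx A} [DRing.HasLTensorCx A F] (q : K ⟶ F) [QuasiIso q]
    (hK : DRing.IsKFlat A K) (p : ℤ) :
    Nonempty (DerivedCategory.singleFunctor (ModuleCat.{u} A) 0 ⋙ DRing.LTensorCx A F ⋙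
      DerivedCategory.homologyFunctor (ModuleCat.{u} A) p ≅ CohIII.TFun K p) := by
  obtain ⟨e⟩ := nonempty_ltensorCx_natIso q hK
  let t : HomologicalComplex.single (ModuleCat.{u} A) (ComplexShape.up ℤ) 0 ⋙ MonoidalCategory.tensorRight K ⋙
      homologyFunctor _ (ComplexShape.up ℤ) p ≅ CohIII.TFun K p := tfunSingleIso K p
  exact ⟨Functor.isoWhiskerRight (DerivedCategory.singleFunctorIsoCompQ (ModuleCat.{u} A) 0) _ ≪≫
    Functor.associator _ _ _ ≪≫ Functor.isoWhiskerLeft _ ((Functor.associator _ _ _).symm ≪≫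
      Functor.isoWhiskerRight e _ ≪≫ Functor.associator _ _ _ ≪≫
      Functor.isoWhiskerLeft _ (DerivedCategory.homologyFunctorFactors _ p)) ≪≫ t⟩

end Groth.Agent.Exact8
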