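import Mathlib
import Groth.Agent.Lib.Exact8.Converse
import Groth.Agent.Lib.Exact8.RingPhi
import Groth.Agent.Lib.FlatCx.Locus
import Groth.Agent.Lib.CBC10.Complex
import Groth.Prelude.Def_DerSch

/-!
# Spreading one-sided exactness of `M ↦ H^p(M ⊗^L F)` from a stalk
-/

set_option autoImplicit false
set_option backward.isDefEq.respectTransparency false
set_option backward.isDefEq.respectTransparency.types false
set_option linter.style.haveILetI false
universe u
open CategoryTheory CategoryTheory.Limits AlgebraicGeometry Pretriangulated HomologicalComplex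
open scoped TensorProduct
attribute [local instance] HasDerivedCategory.standard

namespace Groth.Agent.Exact8

open Groth.Agent.KFlat Groth.Agent.KFlat.Sch Groth.Agent.FlatCxLib

section Ring

variable {A B : Type u} [CommRing A] [CommRing B]

/-- The criterion for left exactness of `M ↦ H^p(K ⊗ M)`. -/
def FlatAt (K : DRing.Cx A) (p : ℤ) : Prop := Module.Flat A (Cok (rev K) (-p))

theorem mono_iff (K : DRing.Cx A) [∀ i, Module.Flat A (K.X i)] (p : ℤ) :
    (CohIII.TFun K p).PreservesMonomorphisms ↔ FlatAt K p := by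
  haveI : ∀ i, Module.Flat A ((rev K).X i) := fun i => inferInstanceAs (Module.Flat A (K.X _))
  exact ((preserves_iff_of_iso (tFunRevIso K p)).1).symm.trans (preservesMono_iff (rev K) (-p))

theorem epi_iff (K : DRing.Cx A) [∀ i, Module.Flat A (K.X i)] (p : ℤ) :
    (CohIII.TFun K p).PreservesEpimorphisms ↔ FlatAt K (p + 1) := by
  haveI : ∀ i, Module.Flat A ((rev K).X i) := fun i => inferInstanceAs (Module.Flat A (K.X _))
  exact ((preserves_iff_of_iso (tFunRevIso K p)).2).symm.trans
    (preservesEpi_iff (rev K) (show -(p + 1) + 1 = -p by omega))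

theorem flat_X_bc (g : A →+* B) (K : DRing.Cx A) [∀ i, Module.Flat A (K.X i)] (i : ℤ) :
    Module.Flat B ((CohIII.bcCx g K).X i) := by
  letI := g.toAlgebra
  exact inferInstanceAs (Module.Flat B (TensorProduct A B (K.X i)))

theorem flatAt_bc_iff (g : A →+* B) (K : DRing.Cx A) [∀ i, Module.Flat A (K.X i)] (p : ℤ) :
    letI := g.toAlgebra
    FlatAt (CohIII.bcCx g K) p ↔ Module.Flat B (B ⊗[A] Cok (rev K) (-p)) := by
  letI := g.toAlgebra
  haveI : ∀ i, Module.Flat A ((rev K).X i) := fun i => inferInstanceAs (Module.Flat A (K.X _))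
  haveI := flat_X_bc g K
  haveI := fun i : ℤ => flat_X_baseChange B (rev K) i
  obtain ⟨e⟩ := nonempty_bc_rev (algebraMap A B) K p
  rw [← mono_iff (CohIII.bcCx g K) p]
  exact ((preserves_iff_of_iso e).1).symm.trans ((preservesMono_iff (CohIII.bcCx (algebraMap A B) (rev K)) (-p)).trans
    (Module.Flat.equiv_iff (cokBaseChange B (rev K) (-p))))

theorem flatAt_bc (g : A →+* B) (K : DRing.Cx A) [∀ i, Module.Flat A (K.X i)] {p : ℤ} (h : FlatAt K p) :
    FlatAt (CohIII.bcCx g K) p := by
  letI := g.toAlgebra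
  haveI : Module.Flat A (Cok (rev K) (-p)) := h
  exact (flatAt_bc_iff g K p).2 inferInstance

theorem flatAt_of_bc (g : A →+* B) (hg : Function.Bijective g) (K : DRing.Cx A) [∀ i, Module.Flat A (K.X i)]
    {p : ℤ} (h : FlatAt (CohIII.bcCx g K) p) : FlatAt K p := by
  letI := g.toAlgebra
  haveI := (flatAt_bc_iff g K p).1 h
  let e : A ≃ₗ[A] B := LinearEquiv.ofBijective (Algebra.linearMap A B) hg
  haveI : Module.Flat A B := Module.Flat.of_linearEquiv e.symm
  haveI : Module.Flat A (B ⊗[A] Cok (rev K) (-p)) := Module.Flat.trans A B _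
  exact Module.Flat.of_linearEquiv ((TensorProduct.lid A _).symm ≪≫ₗ TensorProduct.congr e (LinearEquiv.refl A _))

theorem flatAt_of_iso {K K' : DRing.Cx A} [∀ i, Module.Flat A (K.X i)] (e : K ≅ K') {p : ℤ}
    (h : FlatAt K p) : FlatAt K' p := by
  haveI : ∀ i, Module.Flat A (K'.X i) := fun i =>
    haveI : Module.Flat A ((HomologicalComplex.eval (ModuleCat.{u} A) (ComplexShape.up ℤ) i).obj K) :=
      inferInstanceAs (Module.Flat A (K.X i))
    Module.Flat.of_linearEquiv ((HomologicalComplex.eval _ _ i).mapIso e).symm.toLinearEquiv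
  rw [← mono_iff] at h ⊢
  exact ((preserves_iff_of_iso (NatIso.ofComponents (F := CohIII.TFun K p) (G := CohIII.TFun K' p)
    (fun M => (homologyFunctor _ _ p).mapIso (((MonoidalCategory.tensorRight M).mapHomologicalComplex _).mapIso e))
    fun {M N} f => by
      change homologyMap (CohIII.tensorMap K f) p ≫ homologyMap _ p = homologyMap _ p ≫ homologyMap (CohIII.tensorMap _ f) p
      rw [← homologyMap_comp, ← homologyMap_comp]
      exact congrArg (fun φ => homologyMap φ p)
        ((NatTrans.mapHomologicalComplex ((MonoidalCategory.tensoringRight (ModuleCat.{u} A)).map f)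
          (ComplexShape.up ℤ)).naturality e.hom).symm)).1).1 h

end Ring

variable {X : Scheme.{u}}

/-- The complex of stalks. -/
noncomputable abbrev stX (y : X) (F : CochainComplex X.Modules ℤ) : DRing.Cx (X.presheaf.stalk y) :=
  ((stF y).mapHomologicalComplex (ComplexShape.up ℤ)).obj F

theorem flat_stX {F' : CochainComplex X.Modules ℤ} (hF' : IsAdapted F') (y : X) (i : ℤ) :
    Module.Flat (X.presheaf.stalk y) ((stX y F').X i) :=
  (KFlat.Sch.isFlat_iff _).1 (hF'.2.2 i) y

/-- The complex of stalks of a pullback. -/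
noncomputable def stKIso {U : Scheme.{u}} (j : U ⟶ X) (z : U) (F : CochainComplex X.Modules ℤ) :
    stK j z F ≅ CohIII.bcCx (j.stalkMap z).hom (stX (j z) F) :=
  (Functor.mapHomologicalComplexCompIso (pullStalkNatIso j z) (ComplexShape.up ℤ)).app F ≪≫
    ((Functor.mapHomologicalComplexCompIso (Iso.refl _) (ComplexShape.up ℤ)).app F).symm

theorem flatAt_stK {U : Scheme.{u}} (j : U ⟶ X) (z : U) {F' : CochainComplex X.Modules ℤ}
    (hF' : IsAdapted F') {p : ℤ} (h : FlatAt (stX (j z) F') p) : FlatAt (stK j z F') p := by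
  haveI := flat_stX hF' (j z)
  haveI := flat_X_bc (j.stalkMap z).hom (stX (j z) F')
  exact flatAt_of_iso (stKIso j z F').symm (flatAt_bc (j.stalkMap z).hom _ h)

theorem flatAt_stX_of_stK {U : Scheme.{u}} (j : U ⟶ X) [IsOpenImmersion j] (z : U)
    {F' : CochainComplex X.Modules ℤ} (hF' : IsAdapted F') {p : ℤ} (h : FlatAt (stK j z F') p) :
    FlatAt (stX (j z) F') p := by
  haveI := flat_stX hF' (j z)
  haveI : ∀ i, Module.Flat (U.presheaf.stalk z) ((stK j z F').X i) := fun i =>
    haveI : Module.Flat (U.presheaf.stalk z) ((HomologicalComplex.eval (ModuleCat.{u} (U.presheaf.stalk z))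
        (ComplexShape.up ℤ) i).obj (CohIII.bcCx (j.stalkMap z).hom (stX (j z) F'))) :=
      flat_X_bc (j.stalkMap z).hom (stX (j z) F') i
    Module.Flat.of_linearEquiv ((HomologicalComplex.eval _ _ i).mapIso (stKIso j z F')).toLinearEquiv
  exact flatAt_of_bc (j.stalkMap z).hom (ConcreteCategory.bijective_of_isIso (j.stalkMap z)) _
    (flatAt_of_iso (stKIso j z F') h)

/-- Left exactness at a stalk spreads to a neighbourhood. -/
theorem exists_nhd_flatAt (F F' : CochainComplex X.Modules ℤ) (q : F' ⟶ F) [QuasiIso q] (hF' : IsAdapted F')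
    (p : ℤ) (hE : DCoh.IsPseudoCoherentD (p - 1) (DCoh.toD X F)) (x : X) (h : FlatAt (stX x F') p) :
    ∃ U : X.Opens, x ∈ U ∧ ∀ y ∈ U, FlatAt (stX y F') p := by
  obtain ⟨R, j, hj, P, a, b, ⟨z, rfl⟩, hP, hF, α, hα⟩ :=
    DPerf.exists_free_chart (DPerf.approx_of_isPseudoCoherentD hE) x
  haveI := fun i => (hF i).1
  haveI := fun i => (hF i).2
  haveI : ∀ i, Module.Flat R (P.X i) := fun i => inferInstance
  let M := Cok (rev P) (-p)
  haveI : Module.FinitePresentation R M := by
    haveI : ∀ i, Module.Finite R ((rev P).X i) := fun i => inferInstanceAs (Module.Finite R (P.X _))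
    haveI : ∀ i, Module.Projective R ((rev P).X i) := fun i => inferInstanceAs (Module.Projective R (P.X _))
    haveI := Module.finitePresentation_of_projective R ((rev P).X (-p))
    exact Module.finitePresentation_of_surjective (LinearMap.range (dl (rev P) (-p + 1) (-p))).mkQ
      (Submodule.mkQ_surjective _) (by
        rw [Submodule.ker_mkQ, LinearMap.range_eq_map]
        exact (Module.Finite.fg_top).map _)
  have key : ∀ w : Spec R, w ∈ Module.freeLocus R M ↔ FlatAt (stK j w F') p := fun w => by
    let g := (StructureSheaf.toStalk R w).hom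
    let B := (Spec.structureSheaf R).presheaf.stalk w
    letI : Algebra R B := g.toAlgebra
    haveI : IsLocalization.AtPrime B w.asIdeal := StructureSheaf.IsLocalization.to_stalk R w
    haveI := flat_X_bc g P
    haveI : ∀ i, Module.Flat ((Spec R).presheaf.stalk w) ((stK j w F').X i) := fun i =>
      (Module.isFlat_iff _).1 ((adapted_stK j w hF').2.2 i)
    obtain ⟨t⟩ := nonempty_tfun_stalk_iso j P hP hF F F' q hF' p α hα w
    rw [← mono_iff (stK j w F') p, ← (preserves_iff_of_iso t).1, mono_iff (CohIII.bcCx g P) p, flatAt_bc_iff g P p,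
      Module.mem_freeLocus_iff_tensor w B]
    haveI : IsLocalRing B := IsLocalization.AtPrime.isLocalRing B w.asIdeal
    constructor
    · intro h
      haveI : Module.Free B (B ⊗[R] M) := h
      exact (Module.Flat.of_free : Module.Flat B (B ⊗[R] M))
    · intro h
      haveI : Module.Flat B (B ⊗[R] M) := h
      exact (Module.free_of_flat_of_isLocalRing : Module.Free B (B ⊗[R] M))
  refine ⟨j ''ᵁ ⟨Module.freeLocus R M, Module.isOpen_freeLocus⟩, ⟨z, (key z).2 (flatAt_stK j z hF' h), rfl⟩, ?_⟩
  rintro _ ⟨w, hw, rfl⟩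
  exact flatAt_stX_of_stK j w hF' ((key w).1 hw)

end Groth.Agent.Exact8
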