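import Groth.Agent.Lib.Exact8.StalkSpread
import Groth.Agent.Lib.DGen9.FibreCharts
import Groth.Agent.Lib.DGen9.PerfPush
import Groth.Agent.Lib.DPerf.RelAmp
import Groth.Agent.Lib.RelPCS8.PerfAt
import Groth.Agent.Lib.RelPCS8.PerfPC
import Groth.Agent.Lib.DBaseChange.Fibre
import Groth.Agent.Lib.Exact8.Spread

/-! Perfection by fibres. -/

set_option autoImplicit false
set_option linter.style.haveILetI false
set_option linter.unusedSectionVars false
set_option backward.isDefEq.respectTransparency false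
set_option maxHeartbeats 1000000

universe u

open CategoryTheory CategoryTheory.Limits AlgebraicGeometry

attribute [local instance] HasDerivedCategory.standard

namespace Groth.Agent.Exact8.PerfFibres

open DBaseChange StalkSpread KFlat.Sch

variable {X : Scheme.{u}}

/-- The stalk complex. -/
noncomputable abbrev stC (x : X) (F : CochainComplex X.Modules ℤ) : DRing.Cx (X.presheaf.stalk x : Type u) :=
  ((stF x).mapHomologicalComplex (ComplexShape.up ℤ)).obj F

/-- Stalks computed on an open piece. -/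
theorem nonempty_stalk_back {T : Scheme.{u}} (j : T ⟶ X) [IsOpenImmersion j] (p : T)
    {G : CochainComplex X.Modules ℤ} {H : CochainComplex T.Modules ℤ}
    (e : DCoh.toD T H ≅ DCoh.toD T ((DPerf.resX j).obj G)) :
    Nonempty (DRing.toD ((extCx (inv (j.stalkMap p)).hom).obj (stC p H)) ≅ DRing.toD (stC (j p) G)) := by
  obtain ⟨t⟩ := nonempty_stalk_toD p e
  obtain ⟨t'⟩ := nonempty_ext_iso (inv (j.stalkMap p)).hom (flat_of_isIso _)
    (t ≪≫ DerivedCategory.Q.mapIso ((NatIso.mapHomologicalComplex (stalkRestrictIso j p) (ComplexShape.up ℤ)).app G))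
  exact ⟨t' ≪≫ DerivedCategory.Q.mapIso
    ((NatIso.mapHomologicalComplex (extCancelIso (j.stalkMap p)) (ComplexShape.up ℤ)).app (stC (j p) G))⟩

/-- Stalks of pseudo-coherent complexes have bounded above finite free resolutions. -/
theorem exists_free_stalk (K : CochainComplex X.Modules ℤ)
    (hpc : ∀ m : ℤ, DCoh.IsPseudoCoherentD m (DCoh.toD X K)) (x : X) :
    ∃ (F : DRing.Cx (X.presheaf.stalk x : Type u)) (B : ℤ), F.IsStrictlyLE B ∧ DRing.TermwiseFiniteFree F ∧
      Nonempty (DRing.toD F ≅ DRing.toD (stC x K)) := by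
  obtain ⟨U₀, hU₀, hxU₀, -⟩ := exists_isAffineOpen_mem_and_subset (x := x) (U := ⊤) trivial
  let R := Γ(X, U₀)
  let j : Spec R ⟶ X := hU₀.fromSpec
  obtain ⟨p, hp⟩ : ∃ p : Spec R, j p = x := ⟨hU₀.primeIdealOf ⟨x, hxU₀⟩, hU₀.fromSpec_primeIdealOf _⟩
  subst hp
  obtain ⟨M, ⟨eM⟩⟩ := DQC.exists_iso_of_isQCohD ((DPerf.resD j).obj (DCoh.toD X K))
    (DQC.isQCohD_resD j (RelT.isQCohD_of_pc hpc))
  have hM : DRing.IsPseudoCoherent' R M := (DMod.pc'_iff M).2 fun m => (DPerf.pc_tilde_iff m M).1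
    (DPerf.isPseudoCoherentD_of_approx
      ((RelPCS8.approx_res (DPerf.approx_of_isPseudoCoherentD (hpc m)) j).of_iso eM.symm))
  obtain ⟨F, B, hB, hF, ⟨eF⟩⟩ := hM
  haveI := (DMod.vanishesAbove_iff F B).1 hB
  let σ := (StructureSheaf.toStalk R p).hom
  let τ := (inv (j.stalkMap p)).hom
  obtain ⟨t⟩ := nonempty_stalk_back j p (H := (DPerf.tildeX R).obj F) (G := K)
    (((tilde.functor R).mapDerivedCategoryFactors.app F).symm ≪≫ (DPerf.tildeDD R).mapIso eF ≪≫ eM ≪≫
      (DPerf.resFac j).app K)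
  refine ⟨(extCx τ).obj ((extCx σ).obj F), B, (CochainComplex.isStrictlyLE_iff _ _).2 fun i hi =>
      Functor.map_isZero (ModuleCat.extendScalars.{u, u, u} τ)
        (Functor.map_isZero (ModuleCat.extendScalars.{u, u, u} σ) (F.isZero_of_isStrictlyLE B i hi)),
    termwiseFiniteFree_ext τ (termwiseFiniteFree_ext σ hF), ⟨?_⟩⟩
  exact DerivedCategory.Q.mapIso ((extCx τ).mapIso
    ((NatIso.mapHomologicalComplex (tildeStalkNatIso R p) (ComplexShape.up ℤ)).app F).symm) ≪≫ t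

/-- Flat amplitude bounds the amplitude of the stalks. -/
theorem torAmp_stalk_of_flatAmp {T : Scheme.{u}} (j : T ⟶ X) [IsOpenImmersion j] (p : T)
    {G : CochainComplex X.Modules ℤ} {a b : ℤ}
    (h : DCoh.HasFlatAmplitudeIn a b ((DPerf.resD j).obj (DCoh.toD X G))) :
    DRing.HasTorAmplitudeIn (X.presheaf.stalk (j p) : Type u) a b (DRing.toD (stC (j p) G)) := by
  obtain ⟨E, hv, hf, ⟨e⟩⟩ := h
  obtain ⟨t⟩ := nonempty_stalk_back j p (e ≪≫ (DPerf.resFac j).app G)
  refine ⟨(extCx (inv (j.stalkMap p)).hom).obj (stC p E), fun i hi =>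
    Functor.map_isZero (ModuleCat.extendScalars.{u, u, u} (inv (j.stalkMap p)).hom)
      ((stF p).map_isZero (hv i hi)), fun i => ?_, ⟨t⟩⟩
  haveI : Module.Flat (T.presheaf.stalk p : Type u) ((stC p E).X i) := hf i p
  exact flat_ext_of_flat (inv (j.stalkMap p)).hom ((stC p E).X i)

/-- Extensions of fields detect cohomology. -/
theorem subsingleton_of_ext_field {k k' : Type u} [Field k] [Field k'] (φ : k →+* k') (G : DRing.Cx k) (l : ℤ)
    (h : Subsingleton (((extCx φ).obj G).homology l)) : Subsingleton (G.homology l) := by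
  letI := φ.toAlgebra
  have hφ : φ.Flat := (inferInstance : Module.Flat k k')
  haveI : Subsingleton (TensorProduct k k' (G.homology l)) := subsingleton_tensor_of_ext (S := k') (G.homology l)
    ((homologyExtIso φ hφ G l).toLinearEquiv.toEquiv.subsingleton_congr.1 h)
  exact Module.FaithfullyFlat.lTensor_reflects_triviality k k' (G.homology l)

/-- A perfect pullback bounds the tor amplitude of the stalk at the image point. -/
theorem exists_torAmp_stalk {Z : Scheme.{u}} (i : Z ⟶ X) [DCoh.HasLpull i] (y : Z)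
    (K : CochainComplex X.Modules ℤ) (hK : IsAdapted K)
    (hpc : ∀ m : ℤ, DCoh.IsPseudoCoherentD m (DCoh.toD X K))
    (hi : DCoh.IsPerfect ((DCoh.Lpull i).obj (DCoh.toD X K))) :
    ∃ a b : ℤ, DRing.HasTorAmplitudeIn (X.presheaf.stalk (i y) : Type u) a b (DRing.toD (stC (i y) K)) := by
  obtain ⟨F, B, hB, hF, ⟨eF⟩⟩ := exists_free_stalk K hpc (i y)
  haveI := hB
  have hflat : ∀ n, Module.Flat (X.presheaf.stalk (i y) : Type u) (F.X n) := fun n =>
    have := (hF n).2; inferInstance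
  let ψ := (i.stalkMap y).hom
  let L := ((Scheme.Modules.pullback i).mapHomologicalComplex (ComplexShape.up ℤ)).obj K
  have hLperf : DCoh.IsPerfect (DCoh.toD Z L) := DGen9.isPerfect_of_iso (lpullObjIso i K hK) hi
  obtain ⟨V, a, b, hyV, -, hV⟩ := DPerf.exists_flatAmplitude_of_isPerfect hLperf y
  have hamp : DRing.HasTorAmplitudeIn (Z.presheaf.stalk y : Type u) a b (DRing.toD (stC y L)) :=
    torAmp_stalk_of_flatAmp V.ι ⟨y, hyV⟩ hV
  let Kx := stC (i y) K
  haveI hKflat : ∀ n, Module.Flat (X.presheaf.stalk (i y) : Type u) (Kx.X n) := fun n =>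
    (KFlat.Sch.isFlat_iff _).1 (hK.2.2 n) (i y)
  have hKad : Adapted Kx := ⟨isKFlat_stF hK.1 (i y),
    KFlat.DT.isKFlat_flip ((KFlat.Module.isKFlat_iff _).1 (isKFlat_stF hK.1 (i y))),
    fun n => (KFlat.Module.isFlat_iff _).2 (hKflat n)⟩
  haveI := DQC.hasLBaseChange ψ
  have eψ : DRing.toD ((extCx ψ).obj F) ≅ DRing.toD (stC y L) :=
    (valueIso ψ F (adapted_of_flat F B hflat)).symm ≪≫ (DRing.LBaseChange ψ).mapIso eF ≪≫
      valueIso ψ Kx hKad ≪≫ DerivedCategory.Q.mapIso (stKIso i y K).symm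
  haveI : ((extCx ψ).obj F).IsStrictlyLE B := (CochainComplex.isStrictlyLE_iff _ _).2 fun n hn =>
    Functor.map_isZero (ModuleCat.extendScalars.{u, u, u} ψ) (F.isZero_of_isStrictlyLE B n hn)
  have hψ := subsingleton_homology_ext (IsLocalRing.residue (Z.presheaf.stalk y : Type u)) B
    (G := (extCx ψ).obj F) (fun n => have := hflat n; flat_ext_of_flat ψ (F.X n))
    (hasTorAmplitudeIn_of_iso eψ.symm hamp)
  haveI : IsLocalHom ψ := inferInstanceAs (IsLocalHom (i.stalkMap y).hom)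
  let κ := IsLocalRing.ResidueField.map ψ
  have hκ : κ.comp (IsLocalRing.residue (X.presheaf.stalk (i y) : Type u)) =
      (IsLocalRing.residue (Z.presheaf.stalk y : Type u)).comp ψ := IsLocalRing.ResidueField.map_comp_residue ψ
  refine ⟨a, b, hasTorAmplitudeIn_of_iso eF (torAmp_of_fibre_local F B hF a b fun l hl =>
    fibreExact_of_ext F l ?_)⟩
  let H := ((extCx (IsLocalRing.residue (X.presheaf.stalk (i y) : Type u))).obj F).homology l
  have h1 : Subsingleton (((extCx κ).obj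
      ((extCx (IsLocalRing.residue (X.presheaf.stalk (i y) : Type u))).obj F)).homology l) := by
    have h0 := ((HomologicalComplex.homologyFunctor _ _ l).mapIso
      (extCompIso ψ (IsLocalRing.residue (Z.presheaf.stalk y : Type u)) F)).toLinearEquiv.toEquiv.subsingleton_congr.2
        (hψ l hl)
    rw [← hκ] at h0
    exact ((HomologicalComplex.homologyFunctor _ _ l).mapIso
      (extCompIso (IsLocalRing.residue (X.presheaf.stalk (i y) : Type u)) κ F)).toLinearEquiv.toEquiv.subsingleton_congr.1 h0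
  exact subsingleton_of_ext_field κ _ l h1

variable {S : Scheme.{u}}

/-- Perfection from finite relative tor dimension and perfect fibres. -/
theorem isPerfect_of_fibres (f : X ⟶ S) [∀ s : S, DCoh.HasLpull (f.fiberι s)] (E : DCoh.D X) (b : ℤ) [E.IsLE b]
    (hpc : ∀ m : ℤ, DCoh.IsPseudoCoherentD m E) (hloc : DCoh.LocHasFiniteRelTorDim f E)
    (hfib : ∀ s : S, DCoh.IsPerfect ((DCoh.Lpull (f.fiberι s)).obj E)) : DCoh.IsPerfect E := by
  obtain ⟨K, hK, ⟨eK⟩⟩ := exists_adapted_rep E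
  have hA : ∀ m, DPerf.Approx (Set.Ici m) E := fun m => DPerf.approx_of_isPseudoCoherentD (hpc m)
  have hpcK : ∀ m : ℤ, DCoh.IsPseudoCoherentD m (DCoh.toD X K) := fun m =>
    DPerf.isPseudoCoherentD_of_approx ((hA m).of_iso eK.symm)
  refine PerfPush9.isPerfect_of_cover fun x => ?_
  obtain ⟨V₀, a₀, hxV₀, hGE⟩ := RelT.locGE_of_loc f hloc x
  obtain ⟨a₁, b₁, hamp⟩ : ∃ a₁ b₁ : ℤ,
      DRing.HasTorAmplitudeIn (X.presheaf.stalk x : Type u) a₁ b₁ (DRing.toD (stC x K)) := by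
    have hx : f.fiberι (f x) (f.asFiber x) = x := f.fiberι_asFiber x
    rw [← hx]
    exact exists_torAmp_stalk (f.fiberι (f x)) (f.asFiber x) K hK hpcK
      (DGen9.isPerfect_of_iso ((DCoh.Lpull _).mapIso eK.symm) (hfib _))
  let a := min a₁ a₀
  let bb := max b₁ b
  let T : Scheme.{u} := V₀
  let F := (DCoh.restrictCx V₀).obj K
  let eT : (DPerf.resD V₀.ι).obj E ≅ DCoh.toD T F :=
    (DPerf.resD V₀.ι).mapIso eK.symm ≪≫ (DPerf.resFac V₀.ι).app K
  haveI := hGE
  haveI : (DCoh.toD T F).IsGE a₀ := DerivedCategory.TStructure.t.isGE_of_iso eT a₀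
  haveI : (DCoh.toD T F).IsGE a := DerivedCategory.TStructure.t.isGE_of_ge _ a a₀ (min_le_right _ _)
  haveI : (DCoh.toD T F).IsLE bb := (DerivedCategory.isLE_iff _ bb).2 fun i hi =>
    (((Scheme.Modules.restrictFunctor V₀.ι).map_isZero
      (DerivedCategory.isZero_of_isLE E b i (lt_of_le_of_lt (le_max_right _ _) hi))).of_iso
        ((DerivedCategory.homologyFunctor _ i).mapIso eT.symm ≪≫ DPerf.hdResIso V₀.ι E i))
  have hampW : DerSch.HasTorAmplitudeAt (𝟙 T) a bb F ⟨x, hxV₀⟩ := by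
    refine RelPCS8.PerfPC.torAmp_stalk_of_restrict_iso V₀ ⟨x, hxV₀⟩ ?_
    exact hasTorAmplitudeIn_mono (min_le_left _ _) (le_max_left _ _)
      (RelPCS8.StalkTor.hasTorAmplitudeIn_congr (DerivedCategory.Q.mapIso
        ((NatIso.mapHomologicalComplex (RelPCS8.StalkId.stOverIdIso x).symm (ComplexShape.up ℤ)).app K)) hamp)
  obtain ⟨V, hwV, hVamp, -⟩ := RelPCS8.PerfAt.exists_nhd_of_at (𝟙 T) F a bb
    ((RelPCS8.approx_res (hA (a - 1)) V₀.ι).of_iso eT) ⟨x, hxV₀⟩ hampW
  let F' := (DCoh.restrictCx V).obj F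
  let eV : (DPerf.resD (V.ι ≫ V₀.ι)).obj E ≅ DCoh.toD _ F' :=
    ((DPerf.resDComp V₀.ι V.ι).app E).symm ≪≫ (DPerf.resD V.ι).mapIso eT ≪≫ (DPerf.resFac V.ι).app F
  haveI : (DCoh.toD (V : Scheme.{u}) F').IsLE bb := (DerivedCategory.isLE_iff _ bb).2 fun i hi =>
    (((Scheme.Modules.restrictFunctor V.ι).map_isZero
      (DerivedCategory.isZero_of_isLE (DCoh.toD T F) bb i hi)).of_iso
        ((DerivedCategory.homologyFunctor _ i).mapIso ((DPerf.resFac V.ι).app F).symm ≪≫
          DPerf.hdResIso V.ι (DCoh.toD T F) i))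
  obtain ⟨P, hv, hf, ⟨eP⟩⟩ := (RelPCS8.StalkId.flatAmplitude_iff_torAmp_stalks F' bb a bb).2 fun v =>
    RelPCS8.PerfPC.torAmp_stalk_of_restrict_iso V v (hVamp (V.ι v) v.2)
  exact ⟨(V : Scheme.{u}), V.ι ≫ V₀.ι, inferInstance, ⟨⟨⟨x, hxV₀⟩, hwV⟩, rfl⟩,
    DPerf.isPerfect_iff_approx.2 (DPerf.approx_univ_of_flatAmplitude ⟨P, hv, hf, ⟨eP ≪≫ eV.symm⟩⟩
      (RelPCS8.approx_res (hA (a - 1)) (V.ι ≫ V₀.ι)))⟩

end Groth.Agent.Exact8.PerfFibres
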