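import Mathlib
import Groth.Agent.Lib.Exact8.Sheaf
import Groth.Agent.Lib.DMon9.ProjQC
import Groth.Agent.Lib.DMon9.LpullIso
import Groth.Agent.Lib.RelPCS8.Noeth
import Groth.Agent.Lib.RelPCS8.TorTensor
import Groth.Agent.Lib.DGen9.Basics
import Groth.Agent.Lib.QCoh8.Basic
import Groth.Agent.Lib.ClSub24.Proper

/-!
# The projection formula for `M ↦ R^p f_*(Lf^*M ⊗^L F)`
-/

set_option autoImplicit false
set_option backward.isDefEq.respectTransparency false
set_option backward.isDefEq.respectTransparency.types false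
set_option linter.style.haveILetI false
universe u
open CategoryTheory CategoryTheory.Limits AlgebraicGeometry Pretriangulated MonoidalCategory Opposite
attribute [local instance] HasDerivedCategory.standard

namespace Groth.Agent.Exact8

open Groth.Agent.KFlat Groth.Agent.KFlat.Sch

variable {X Y : Scheme.{u}}

theorem isQCohD_single {M : Y.Modules} (hM : Coh.IsQCoh M) :
    DCoh.IsQCohD ((DerivedCategory.singleFunctor Y.Modules 0).obj M) := fun i => by
  rcases lt_trichotomy i 0 with h | rfl | h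
  · exact (QCohCat.isQCoh Y).prop_of_isZero (DerivedCategory.isZero_of_isGE _ 0 i h)
  · exact M1.isQCoh_of_isIso ((DerivedCategory.singleFunctorCompHomologyFunctorIso Y.Modules 0).app M).symm hM
  · exact (QCohCat.isQCoh Y).prop_of_isZero (DerivedCategory.isZero_of_isLE _ 0 i h)

theorem betti_congr [∀ y : Y, DCoh.HasLpull (Y.fromSpecResidueField y)] {E E' : DCoh.D Y} (e : E ≅ E') (y : Y) (p : ℤ) :
    PerfD.betti E y p = PerfD.betti E' y p := by
  let i := (DerivedCategory.homologyFunctor _ p).mapIso ((DCoh.Lpull (Y.fromSpecResidueField y)).mapIso e)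
  exact (((PresheafOfModules.evaluation _ (op ⊤)).mapIso ((SheafOfModules.forget _).mapIso i)).toLinearEquiv).finrank_eq

/-- On quasi-coherent modules, `Rf_*(Lf^*M ⊗^L F)` is `M ⊗^L K` for a complex `K` representing `Rf_*F`. -/
theorem exists_projection_natIso (f : X ⟶ Y) [QuasiCompact f] [QuasiSeparated f] [DCoh.HasLpull f]
    [DCoh.HasRpush f] (F : CochainComplex X.Modules ℤ) [DCoh.HasLTensorCx F]
    (hF : DCoh.IsQCohD (DCoh.toD X F)) :
    ∃ (K : CochainComplex Y.Modules ℤ) (_ : DCoh.HasLTensorCx K),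
      Nonempty (DCoh.toD Y K ≅ (DCoh.Rpush f).obj (DCoh.toD X F)) ∧
      ∀ p : ℤ, Nonempty ((QCohCat.isQCoh Y).ι ⋙ DerivedCategory.singleFunctor Y.Modules 0 ⋙ DCoh.Lpull f ⋙
        DCoh.LTensorCx F ⋙ DCoh.Rpush f ⋙ DerivedCategory.homologyFunctor Y.Modules p ≅
          (QCohCat.isQCoh Y).ι ⋙ Phi K p) := by
  obtain ⟨F', q, hF', hq⟩ := RHom.exists_kflat_res F
  haveI := hq
  haveI : DCoh.HasLTensorCx (⟨F', hF'⟩ : DMon9.KF X).obj := KFlat.Sch.hasLTensorCx _
  haveI := RHom.isIso_ltMap q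
  obtain ⟨cX⟩ := DMon9.nonempty_commIso (⟨F', hF'⟩ : DMon9.KF X)
  obtain ⟨l⟩ := DMon9.nonempty_lpull_natIso_lP f
  let EM : DMon9.DM X := (DMon9.qM X).obj ⟨F', hF'⟩
  let eF : DCoh.toD X F' ≅ DCoh.toD X F := asIso (DerivedCategory.Q.map q)
  have hE : DCoh.IsQCohD (EM : DCoh.D X) := DQC.isQCohD_of_iso eF.symm hF
  obtain ⟨K, ⟨eK⟩⟩ := DMon9.exists_qM ((DMon9.rM f).obj EM : DCoh.D Y)
  haveI : DCoh.HasLTensorCx K.obj := KFlat.Sch.hasLTensorCx _
  obtain ⟨cY⟩ := DMon9.nonempty_commIso K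
  let eK' : (DMon9.qM Y).obj K ≅ (DMon9.rM f).obj EM := eK
  let a : DMon9.srcF f EM ≅ DCoh.LTensorCx K.obj :=
    (show DMon9.srcF f EM ≅ DMon9.tL K from ((MonoidalCategory.tensoringLeft (DMon9.DM Y)).mapIso eK').symm) ≪≫
      cY ≪≫ DMon9.theta K
  let b : DMon9.midF f EM ≅ DCoh.Lpull f ⋙ DCoh.LTensorCx F :=
    (show DMon9.midF f EM ≅ DMon9.lP f ⋙ DMon9.tL (⟨F', hF'⟩ : DMon9.KF X) from Iso.refl _) ≪≫
      Functor.isoWhiskerRight l.symm _ ≪≫
      Functor.isoWhiskerLeft _ (cX ≪≫ DMon9.theta (⟨F', hF'⟩ : DMon9.KF X) ≪≫ asIso (RHom.ltMap q))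
  let I : QCohCat.QCoh Y ⥤ DCoh.D Y := (QCohCat.isQCoh Y).ι ⋙ DerivedCategory.singleFunctor Y.Modules 0
  haveI : IsIso (Functor.whiskerLeft I (DMon9.projT f EM)) := by
    haveI : ∀ M, IsIso ((Functor.whiskerLeft I (DMon9.projT f EM)).app M) := fun M =>
      DMon9.isIso_projT f EM hE (I.obj M) (isQCohD_single M.property)
    exact NatIso.isIso_of_isIso_app _
  refine ⟨K.obj, inferInstance, ⟨eK ≪≫ (DCoh.Rpush f).mapIso eF⟩, fun p => ?_⟩
  let H := DerivedCategory.homologyFunctor Y.Modules p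
  exact ⟨Functor.isoWhiskerLeft I (Functor.isoWhiskerRight b.symm (DCoh.Rpush f ⋙ H)) ≪≫
    Functor.isoWhiskerRight (asIso (Functor.whiskerLeft I (DMon9.projT f EM))).symm H ≪≫
    Functor.isoWhiskerRight (Functor.isoWhiskerLeft I a) H⟩

/-- The derived direct image of a relatively perfect bounded object over a Noetherian base is perfect. -/
theorem isPerfect_rpush_of_perfectRel [IsNoetherian Y] (f : X ⟶ Y) [IsProper f] [DCoh.HasRpush f]
    (F : CochainComplex X.Modules ℤ) (a b : ℤ) [(DCoh.toD X F).IsGE a] [(DCoh.toD X F).IsLE b]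
    (hF : DerSch.IsPerfectRel f F) :
    DCoh.IsQCohD (DCoh.toD X F) ∧ DCoh.IsPerfect ((DCoh.Rpush f).obj (DCoh.toD X F)) := by
  have hcoh := RelPCS8.Noeth.isCohD_of_relAll f hF.1
  refine ⟨fun i => (hcoh i).1, RelPCS8.TorTensor.isPerfect_rpush_of_support f (DCoh.toD X F) hcoh
    (⋃ i : ↥(Finset.Icc a b), CohB1.support (DCoh.HD (DCoh.toD X F) i.1))
    (ClSub24.isProperOver_iUnion f _ fun i => RelPCS8.Noeth.isProperOver_of_isCoh (hcoh i.1)) ?_ (fun x => ?_) a b⟩
  · intro i x hx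
    by_cases h : i ∈ Finset.Icc a b
    · exact Set.mem_iUnion.2 ⟨⟨i, h⟩, hx⟩
    · exfalso
      rw [Finset.mem_Icc] at h
      have hz : IsZero (DCoh.HD (DCoh.toD X F) i) := by
        rcases lt_or_ge i a with h' | h'
        · exact DerivedCategory.isZero_of_isGE _ a i h'
        · exact DerivedCategory.isZero_of_isLE _ b i (by omega)
      exact hx (show Subsingleton _ from ModuleCat.subsingleton_of_isZero ((DerSch.stalkFunctor X x).map_isZero hz))
  · obtain ⟨V, c, d, hx, ht⟩ := hF.2 x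
    exact ⟨V, c, d, hx, fun x' hx' =>
      RelPCS8.StalkTor.hasTorAmplitudeIn_congr (((DerSch.stalkOver f x').mapDerivedCategoryFactors.app F).symm) (ht x' hx')⟩

end Groth.Agent.Exact8
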