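import Mathlib
import Groth.Agent.Lib.Exact8.Converse
import Groth.Agent.Lib.QCoh8.Basic

/-!
# Exactness gives finite local freeness of `H^p` and constancy of fibre dimensions
-/

set_option autoImplicit false
set_option backward.isDefEq.respectTransparency false
set_option backward.isDefEq.respectTransparency.types false
set_option linter.style.haveILetI false
universe u
open CategoryTheory CategoryTheory.Limits AlgebraicGeometry Pretriangulated HomologicalComplex
attribute [local instance] HasDerivedCategory.standard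

namespace Groth.Agent.Exact8

open Groth.Agent.KFlat Groth.Agent.KFlat.Sch Groth.Agent.FlatCxLib

variable {X : Scheme.{u}}

/-- Exactness on test modules gives flat cokernels on a chart. -/
theorem chart_flat_cok {R : CommRingCat.{u}} (j : Spec R ⟶ X) [IsOpenImmersion j] (P : DRing.Cx R)
    {a b : ℤ} (hP : DRing.VanishesOutside P a b) (hF : DRing.TermwiseFiniteFree P)
    (F F' : CochainComplex X.Modules ℤ) (q : F' ⟶ F) [QuasiIso q] (hF' : IsAdapted F') (p : ℤ)
    (α : DCoh.toD (Spec R) ((DPerf.tildeX R).obj P) ⟶ (DPerf.resD j).obj (DCoh.toD X F))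
    (hα : DPerf.DCond (Set.Ici (p - 1)) α) {G : X.Modules ⥤ X.Modules} (e : G ≅ S F' p)
    (Q : ObjectProperty X.Modules) [Q.IsClosedUnderKernels] [Q.IsClosedUnderCokernels]
    (hQ : ∀ (z : Spec R) N, Q ((spread j z).obj N))
    (hm : ∀ {M N : X.Modules} (g : M ⟶ N), Q M → Q N → Mono g → Mono (G.map g))
    (he : ∀ {M N : X.Modules} (g : M ⟶ N), Q M → Q N → Epi g → Epi (G.map g)) :
    Module.Flat R (Cok (rev P) (-p)) ∧ Module.Flat R (Cok (rev P) (-p - 1)) := by
  haveI := fun i => (hF i).1
  haveI := fun i => (hF i).2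
  haveI : ∀ i, Module.Flat R (P.X i) := fun i => inferInstance
  refine flat_cok_of_stalks R P p fun z => ?_
  obtain ⟨hm', he'⟩ := tfun_preserves_of_test j z e Q (hQ z) hm he
  obtain ⟨t⟩ := nonempty_tfun_stalk_iso j P hP hF F F' q hF' p α hα z
  exact ⟨(preserves_iff_of_iso t).1.2 hm', (preserves_iff_of_iso t).2.2 he'⟩

/-- Flat cokernels on a chart give constant fibre dimension and a projective `H^p`. -/
theorem chart_consequences {R : CommRingCat.{u}} (P : DRing.Cx R) (hF : DRing.TermwiseFiniteFree P) (p : ℤ)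
    (h : Module.Flat R (Cok (rev P) (-p)) ∧ Module.Flat R (Cok (rev P) (-p - 1))) :
    IsLocallyConstant (CohIII.dRank P p) ∧ Module.Finite R (P.homology p) ∧ Module.Projective R (P.homology p) := by
  haveI := fun i => (hF i).1
  haveI := fun i => (hF i).2
  haveI : ∀ i, Module.Finite R ((rev P).X i) := fun i => inferInstanceAs (Module.Finite R (P.X _))
  haveI : ∀ i, Module.Projective R ((rev P).X i) := fun i => inferInstanceAs (Module.Projective R (P.X _))
  haveI := h.1
  haveI := h.2
  obtain ⟨hl, hf, hp⟩ := locallyConstant_and_projective_of_flat_cok (rev P) (sub_add_cancel (-p) 1)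
  let e := P.restrictionHomologyIso ComplexShape.embeddingDownIntUpInt _ _ _ (ChainComplex.prev _ _)
      ((ComplexShape.down ℤ).next_eq' (show (-p - 1) + 1 = -p by omega))
      (i' := p - 1) (j' := p) (k' := p + 1) (by simp; omega) (by simp) (by simp; omega)
      (CochainComplex.prev _ _) (CochainComplex.next _ _)
  refine ⟨?_, Module.Finite.equiv e.toLinearEquiv, Module.Projective.of_equiv e.toLinearEquiv⟩
  rw [show CohIII.dRank P p = CohIII.dRank (rev P) (-p) from (funext (dRank_rev P p)).symm]
  exact hl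

/-- `H^p` on a chart. -/
theorem isFinLocFree_restrict_chart {R : CommRingCat.{u}} (j : Spec R ⟶ X) [IsOpenImmersion j] (P : DRing.Cx R)
    {E : DCoh.D X} (p : ℤ) (α : DCoh.toD (Spec R) ((DPerf.tildeX R).obj P) ⟶ (DPerf.resD j).obj E)
    (hα : DPerf.DCond (Set.Ici (p - 1)) α) [Module.Finite R (P.homology p)] [Module.Projective R (P.homology p)] :
    FlatMod.IsFinLocFree ((DCoh.HD E p).restrict j) := by
  haveI := (hα p (Set.mem_Ici.2 (by omega))).1
  haveI : Mono ((DerivedCategory.homologyFunctor _ p).map α) := by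
    have := (hα (p - 1) (Set.mem_Ici.2 le_rfl)).2
    rwa [sub_add_cancel] at this
  haveI := isIso_of_mono_of_epi ((DerivedCategory.homologyFunctor _ p).map α)
  refine M2.isFinLocFree_of_iso ?_ (DPerf.isFinLocFree_tilde (M := P.homology p))
  exact (DPerf.hdTildeIso (DRing.toD P) p ≪≫ (tilde.functor R).mapIso
      ((DerivedCategory.homologyFunctorFactors _ p).app P)).symm ≪≫
    (DerivedCategory.homologyFunctor _ p).mapIso ((tilde.functor R).mapDerivedCategoryFactors.app P) ≪≫
    asIso ((DerivedCategory.homologyFunctor _ p).map α) ≪≫ DPerf.hdResIso j E p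

/-- Exactness on test modules gives finite local freeness and locally constant fibre dimension. -/
theorem finLocFree_and_betti_of_test [∀ x : X, DCoh.HasLpull (X.fromSpecResidueField x)]
    (F : CochainComplex X.Modules ℤ) [DCoh.HasLTensorCx F] (p : ℤ)
    (hE : DCoh.IsPseudoCoherentD (p - 1) (DCoh.toD X F))
    (Q : ObjectProperty X.Modules) [Q.IsClosedUnderKernels] [Q.IsClosedUnderCokernels]
    (hQ : ∀ {R : CommRingCat.{u}} (j : Spec R ⟶ X) [IsOpenImmersion j] (z : Spec R) N, Q ((spread j z).obj N))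
    (hm : ∀ {M N : X.Modules} (g : M ⟶ N), Q M → Q N → Mono g → Mono ((Phi F p).map g))
    (he : ∀ {M N : X.Modules} (g : M ⟶ N), Q M → Q N → Epi g → Epi ((Phi F p).map g)) :
    FlatMod.IsFinLocFree (DCoh.HD (DCoh.toD X F) p) ∧
      IsLocallyConstant (fun x : X => PerfD.betti (DCoh.toD X F) x p) := by
  haveI : QuasiIso (resπ (cover X) F) := quasiIso_resπ (cover X) F
  obtain ⟨e⟩ := nonempty_phi_iso F _ (resπ (cover X) F) (isAdapted_resObj F).1 p
  have hloc : ∀ x : X, ∃ (R : CommRingCat.{u}) (j : Spec R ⟶ X) (_ : IsOpenImmersion j), x ∈ Set.range j ∧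
      FlatMod.IsFinLocFree ((DCoh.HD (DCoh.toD X F) p).restrict j) ∧
        IsLocallyConstant ((fun x : X => PerfD.betti (DCoh.toD X F) x p) ∘ j) := fun x => by
    obtain ⟨R, j, hj, P, a, b, hx, hP, hF, α, hα⟩ :=
      DPerf.exists_free_chart (DPerf.approx_of_isPseudoCoherentD hE) x
    obtain ⟨hl, hf, hp⟩ := chart_consequences P hF p
      (chart_flat_cok j P hP hF F _ (resπ (cover X) F) (isAdapted_resObj F) p α hα e Q (hQ j) hm he)
    refine ⟨R, j, hj, hx, isFinLocFree_restrict_chart j P p α hα, ?_⟩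
    rw [show (fun x : X => PerfD.betti (DCoh.toD X F) x p) ∘ j = CohIII.dRank P p from
      funext fun z => (dRank_eq_betti j P hP hF α hα z).symm]
    exact hl
  refine ⟨DPerf.isFinLocFree_of_locally fun x => ?_, (IsLocallyConstant.iff_eventually_eq _).2 fun x => ?_⟩
  · obtain ⟨R, j, hj, hx, h, -⟩ := hloc x
    exact ⟨Spec R, j, hj, hx, h⟩
  · obtain ⟨R, j, hj, ⟨z, rfl⟩, -, h⟩ := hloc x
    rw [← j.isOpenEmbedding.map_nhds_eq]
    exact h.eventually_eq z

end Groth.Agent.Exact8
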