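import Groth.Agent.Lib.RelPCS8.TensorAmp
import Groth.Agent.Lib.DBaseChange.ResTensor

/-!
# Cohomological range of a derived tensor product with an object of given tor amplitude
-/

set_option autoImplicit false
set_option backward.isDefEq.respectTransparency false
set_option backward.isDefEq.respectTransparency.types false
set_option linter.style.haveILetI false
set_option maxHeartbeats 800000
universe u
open CategoryTheory CategoryTheory.Limits AlgebraicGeometry MonoidalCategory
attribute [local instance] HasDerivedCategory.standard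

namespace Groth.Agent.Exact8

open KFlat KFlat.Sch RelPCS8

section Ring

variable {B : Type u} [CommRing B] (L : DRing.Cx B) {c d : ℤ}

/-- A bounded flat complex tensored with a complex exact outside an interval. -/
theorem exactAt_tensor (hL : ∀ i, i < c ∨ d < i → L.ExactAt i) (E : DRing.Cx B) (a b : ℤ)
    (hv : DRing.VanishesOutside E a b) (hE : ∀ i, _root_.Module.Flat B (E.X i)) :
    ∀ i, i < a + c ∨ b + d < i → (E ⊗ L).ExactAt i := by
  refine DMod.bounded_induction
    (Q := fun E => ∀ i, i < a + c ∨ b + d < i → (E ⊗ L).ExactAt i)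
    (p := fun n M => _root_.Module.Flat B M ∧ a ≤ n ∧ n ≤ b)
    (fun E hz i _ => ?_) (fun E n hn hp i hi => ?_) (fun E n h₁ h₂ i hi => ?_)
    (fun n M N e h => ⟨(haveI := h.1; _root_.Module.Flat.of_linearEquiv e.symm.toLinearEquiv), h.2⟩)
    E a b hv (fun i ha hb => ⟨hE i, ha, hb⟩)
  · have h0 : IsZero E := by
      rw [IsZero.iff_id_eq_zero]
      ext i : 1
      exact (hz i).eq_of_src _ _
    have h := Functor.map_isZero ((tcx (KFlat.Module.TM B)).flip.obj L) h0
    exact (HomologicalComplex.exactAt_iff _ i).2 (ShortComplex.exact_of_isZero_X₂ _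
      ((HomologicalComplex.eval (ModuleCat.{u} B) (ComplexShape.up ℤ) i).map_isZero h))
  · haveI := ((DMod.vanishesOutside_iff E n n).1 hn).1
    haveI := ((DMod.vanishesOutside_iff E n n).1 hn).2
    obtain ⟨hF, ha, hb⟩ := hp
    obtain ⟨M, ⟨e⟩⟩ := CochainComplex.exists_iso_single E n
    let eX : E.X n ≅ M := (HomologicalComplex.eval _ _ n).mapIso e ≪≫
      HomologicalComplex.singleObjXSelf (ComplexShape.up ℤ) n M
    haveI : _root_.Module.Flat B (E.X n) := hF
    haveI hM : _root_.Module.Flat B M := _root_.Module.Flat.of_linearEquiv eX.toLinearEquiv.symm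
    let S0 : DRing.Cx B := (HomologicalComplex.single _ (ComplexShape.up ℤ) 0).obj M
    let es : E ≅ (shiftFunctor (DRing.Cx B) (-n)).obj S0 :=
      e ≪≫ (((CochainComplex.singleFunctors (ModuleCat.{u} B)).shiftIso (-n) n 0 (neg_add_cancel n)).app M).symm
    let et : E ⊗ L ≅ (shiftFunctor (DRing.Cx B) (-n)).obj ((DBaseChange.tm M).obj L) :=
      (((tcx (KFlat.Module.TM B)).flip.obj L).mapIso es) ≪≫
        CochainComplex.mapBifunctorShift₁Iso S0 L (KFlat.Module.TM B) (-n) ≪≫
        (shiftFunctor (DRing.Cx B) (-n)).mapIso (DBaseChange.singleTensorIso M L)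
    refine HomologicalComplex.ExactAt.of_iso ?_ et.symm
    refine (HomologicalComplex.exactAt_iff_isZero_homology _ i).2 (IsZero.of_iso ?_
      (((HomologicalComplex.homologyFunctor (ModuleCat.{u} B) (ComplexShape.up ℤ) 0).shiftIso (-n) i (-n + i) rfl).app
        ((DBaseChange.tm M).obj L)))
    refine (HomologicalComplex.exactAt_iff_isZero_homology _ _).1 ?_
    refine HomologicalComplex.ExactAt.of_iso ?_
      ((NatIso.mapHomologicalComplex (BraidedCategory.tensorLeftIsoTensorRight M) (ComplexShape.up ℤ)).app L)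
    exact (HomologicalComplex.exactAt_iff _ _).2 ((Module.Flat.iff_lTensor_preserves_shortComplex_exact M).1 hM _
      ((HomologicalComplex.exactAt_iff _ _).1 (hL (-n + i) (by omega))))
  · let T : ShortComplex (DRing.Cx B) := ShortComplex.mk (DMod.subι E (DMod.geSub E n) (DMod.geSub_stable E n))
      (DMod.quotπ E (DMod.geSub E n) (DMod.geSub_stable E n)) (by
        ext i x
        exact (Submodule.Quotient.mk_eq_zero (DMod.geSub E n i)).2 x.2)
    have hT : (T.map ((tcx (KFlat.Module.TM B)).flip.obj L)).ShortExact :=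
      (splitPres_right (KFlat.Module.TM B) L).shortExact T (DBaseChange.geSub_splitting E n)
    refine (HomologicalComplex.exactAt_iff_isZero_homology _ i).2 ?_
    exact (hT.homology_exact₂ i).isZero_of_both_zeros
      (((HomologicalComplex.exactAt_iff_isZero_homology _ i).1 (h₁ i hi)).eq_of_src _ _)
      (((HomologicalComplex.exactAt_iff_isZero_homology _ i).1 (h₂ i hi)).eq_of_tgt _ _)

variable {C : Type u} [CommRing C] (ψ : B →+* C)

theorem exactAt_pull_tensor (hLf : IsKFlat (KFlat.Module.TM B) L) (hL : ∀ i, i < c ∨ d < i → L.ExactAt i)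
    (F : DRing.Cx C) {a b : ℤ} (hF : DRing.HasTorAmplitudeIn B a b (DRing.toD ((DRing.restrictCx ψ).obj F))) {i : ℤ}
    (hi : i < a + c ∨ b + d < i) :
    (((tcx (KFlat.Module.TM C)).obj (((ModuleCat.extendScalars ψ).mapHomologicalComplex (ComplexShape.up ℤ)).obj L)).obj F).ExactAt i := by
  obtain ⟨E, hv, hE, ⟨e⟩⟩ := hF
  haveI := ((DMod.vanishesOutside_iff E a b).1 hv).2
  obtain ⟨t⟩ := TensorAmp.exists_iso_tensor L hLf
    ((KFlat.Module.isKFlat_iff _).2 (DBaseChange.isKFlat_of_boundedAbove E b hE)) e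
  have h0 := exactAt_tensor L hL E a b hv hE i hi
  let u : ((DRing.restrictCx ψ).obj F) ⊗ L ≅ (DRing.restrictCx ψ).obj
      (((tcx (KFlat.Module.TM C)).obj (((ModuleCat.extendScalars ψ).mapHomologicalComplex (ComplexShape.up ℤ)).obj L)).obj F) :=
    (KFlat.Module.projCxIso ψ F L).symm ≪≫ (DRing.restrictCx ψ).mapIso
      (DTen.braidCx F (((ModuleCat.extendScalars ψ).mapHomologicalComplex (ComplexShape.up ℤ)).obj L))
  let w := t ≪≫ DerivedCategory.Q.mapIso u
  refine ((HomologicalComplex.exactAt_iff _ i).2 ?_)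
  refine (ShortComplex.exact_map_iff_of_faithful _ (ModuleCat.restrictScalars.{u} ψ)).1 ?_
  show (((DRing.restrictCx ψ).obj (((tcx (KFlat.Module.TM C)).obj (((ModuleCat.extendScalars ψ).mapHomologicalComplex (ComplexShape.up ℤ)).obj L)).obj F)).sc i).Exact
  refine (HomologicalComplex.exactAt_iff _ i).1 ?_
  refine (HomologicalComplex.exactAt_iff_isZero_homology _ i).2
    (Limits.IsZero.of_iso ((HomologicalComplex.exactAt_iff_isZero_homology _ i).1 h0) ?_)
  exact ((DerivedCategory.homologyFunctorFactors _ i).app _).symm ≪≫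
    (DerivedCategory.homologyFunctor _ i).mapIso w.symm ≪≫ (DerivedCategory.homologyFunctorFactors _ i).app _

end Ring

variable {X Y : Scheme.{u}} (f : X ⟶ Y) [DCoh.HasLpull f]

/-- `Lf^*M ⊗^L F` is concentrated in the sum of the range of `M` and the amplitude of `F`. -/
theorem isZero_HD_lt_lpull (F : CochainComplex X.Modules ℤ) [DCoh.HasLTensorCx F] {a b c d : ℤ}
    (hF : DerSch.HasTorAmplitude f a b F) (M : DCoh.D Y) [M.IsGE c] [M.IsLE d] (i : ℤ)
    (hi : i < a + c ∨ b + d < i) :
    IsZero (DCoh.HD ((DCoh.LTensorCx F).obj ((DCoh.Lpull f).obj M)) i) := by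
  obtain ⟨R, hR, ⟨eR⟩⟩ := exists_adapted_rep M
  obtain ⟨t⟩ := nonempty_lTensorCxObjIso F _ (isKFlat_pullback f hR.1)
  let W := ((tcx (TX X)).obj (((Scheme.Modules.pullback f).mapHomologicalComplex (ComplexShape.up ℤ)).obj R)).obj F
  refine Limits.IsZero.of_iso ?_ ((DerivedCategory.homologyFunctor _ i).mapIso
    ((DCoh.LTensorCx F).mapIso ((DCoh.Lpull f).mapIso eR.symm ≪≫ lpullObjIso f R hR) ≪≫ t) ≪≫
      (DerivedCategory.homologyFunctorFactors _ i).app W)
  refine DPerf.isZero_of_stalks fun x => ?_
  haveI : (stF x).PreservesHomology := ((stF x).exact_tfae.out 0 2).1 fun S hS => DPerf.shortExact_stF hS x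
  have hex : (((stF x).mapHomologicalComplex (ComplexShape.up ℤ)).obj W).ExactAt i → Subsingleton ((W.homology i).presheaf.stalk x) :=
    fun h => ModuleCat.subsingleton_of_isZero (((HomologicalComplex.exactAt_iff_isZero_homology _ i).1 h).of_iso
      ((ShortComplex.mapHomologyIso (W.sc i) (stF x)).symm))
  refine hex ?_
  have hLe : ∀ j, j < c ∨ d < j → (((stF (f x)).mapHomologicalComplex (ComplexShape.up ℤ)).obj R).ExactAt j := by
    intro j hj
    have hz : IsZero (DCoh.HD M j) := hj.elim (fun h => DerivedCategory.isZero_of_isGE M c j h) (fun h => DerivedCategory.isZero_of_isLE M d j h)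
    have hRj : R.ExactAt j := (HomologicalComplex.exactAt_iff_isZero_homology _ j).2
      (hz.of_iso (((DerivedCategory.homologyFunctorFactors _ j).app R).symm ≪≫
        (DerivedCategory.homologyFunctor _ j).mapIso eR))
    haveI : (stF (f x)).PreservesHomology := ((stF (f x)).exact_tfae.out 0 2).1 fun S hS => DPerf.shortExact_stF hS _
    exact (HomologicalComplex.exactAt_iff _ j).2 (((HomologicalComplex.exactAt_iff _ j).1 hRj).map (stF (f x)))
  have h := exactAt_pull_tensor _ (f.stalkMap x).hom (isKFlat_stF hR.1 _) hLe _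
    (StalkTor.hasTorAmplitudeIn_congr (DerivedCategory.Q.mapIso (TensorAmp.stalkOverCxIso f x F)) (hF x)) hi
  exact HomologicalComplex.ExactAt.of_iso h (TensorAmp.stalkPullTensorIso f x R F)

end Groth.Agent.Exact8
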