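import Groth.Agent.Lib.Exact8.StalkBC2
import Groth.Agent.Lib.DMod.Basic
import Groth.Agent.Lib.RelPCS8.PerfAt
import Groth.Agent.Lib.Exact8.RelComp

/-!
# Tor amplitude under base change of schemes flat over a common base
-/

set_option autoImplicit false
set_option backward.isDefEq.respectTransparency false
set_option backward.isDefEq.respectTransparency.types false
set_option linter.style.haveILetI false
set_option maxHeartbeats 800000
universe u
open CategoryTheory CategoryTheory.Limits AlgebraicGeometry TensorProduct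
attribute [local instance] HasDerivedCategory.standard

namespace Groth.Agent.Exact8

open KFlat KFlat.Sch DBaseChange

section Ring

variable {R A A' B B' : Type u} [CommRing R] [CommRing A] [CommRing A'] [CommRing B] [CommRing B']

/-- Flat modules over a flat algebra are flat over the base. -/
theorem flat_res (φ : R →+* A) (hφ : φ.Flat) (M : ModuleCat.{u} A) [Module.Flat A M] :
    Module.Flat R ((ModuleCat.restrictScalars.{u} φ).obj M) := by
  letI := φ.toAlgebra
  haveI : Module.Flat R A := hφ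
  letI : Module R M := Module.compHom M φ
  haveI : IsScalarTower R A M := IsScalarTower.of_compHom R A M
  exact Module.Flat.trans R A M

/-- Preserving acyclicity of bounded above complexes of modules flat over `R`. -/
def RelExact (φR : R →+* A) (σ : A →+* A') : Prop :=
  ∀ (L : DRing.Cx A) (b : ℤ), L.IsStrictlyLE b →
    (∀ i, Module.Flat R ((ModuleCat.restrictScalars.{u} φR).obj (L.X i))) → L.Acyclic → ((extCx σ).obj L).Acyclic

variable {φR : R →+* A} {σ : A →+* A'}

theorem quasiIso_ext_relExact (hσ : RelExact φR σ) {P Q : DRing.Cx A} (q : P ⟶ Q) [QuasiIso q] (b : ℤ)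
    [P.IsStrictlyLE b] [Q.IsStrictlyLE b]
    (hP : ∀ i, Module.Flat R ((ModuleCat.restrictScalars.{u} φR).obj (P.X i)))
    (hQ : ∀ i, Module.Flat R ((ModuleCat.restrictScalars.{u} φR).obj (Q.X i))) :
    QuasiIso ((extCx σ).map q) := by
  refine (splitPres_map (ModuleCat.extendScalars.{u, u, u} σ)).quasiIso_map_of_acyclic q ?_
  refine hσ (cylCoker q) b ((CochainComplex.isStrictlyLE_iff _ b).2 fun i hi => ?_) (fun i => ?_)
    (acyclic_cylCoker q)
  · refine IsZero.of_iso ?_ ((HomologicalComplex.eval _ _ i).mapIso (cylCokerIsoCone q))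
    change IsZero ((CochainComplex.mappingCone q).X i)
    rw [IsZero.iff_id_eq_zero]
    exact CochainComplex.mappingCone.ext_from q (i + 1) i rfl
      ((P.isZero_of_isStrictlyLE b (i + 1) (by omega)).eq_of_src _ _)
      ((Q.isZero_of_isStrictlyLE b i hi).eq_of_src _ _)
  · let F := ModuleCat.restrictScalars.{u} φR
    exact RelPCS8.StalkId.flat_of_iso
      (F.mapIso ((HomologicalComplex.eval _ _ i).mapIso (cylCokerIsoCone q)) ≪≫
        (HomologicalComplex.eval _ _ i).mapIso (CochainComplex.mappingCone.mapHomologicalComplexIso q F)).symm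
      (DBaseChange.flat_cone ((F.mapHomologicalComplex (ComplexShape.up ℤ)).map q) hP hQ i)

theorem nonempty_ext_iso_relExact (hφ : φR.Flat) (hσ : RelExact φR σ) {P Q : DRing.Cx A} (b : ℤ)
    [P.IsStrictlyLE b] [Q.IsStrictlyLE b]
    (hP : ∀ i, Module.Flat R ((ModuleCat.restrictScalars.{u} φR).obj (P.X i)))
    (hQ : ∀ i, Module.Flat R ((ModuleCat.restrictScalars.{u} φR).obj (Q.X i)))
    (e : DRing.toD P ≅ DRing.toD Q) :
    Nonempty (DRing.toD ((extCx σ).obj P) ≅ DRing.toD ((extCx σ).obj Q)) := by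
  haveI : (DRing.toD P).IsLE b := (DerivedCategory.isLE_Q_obj_iff _ _).2 inferInstance
  obtain ⟨F, hFb, hF, ⟨α⟩⟩ := DMod.exists_free_resolution (DRing.toD P) b
  haveI := hFb
  haveI := fun i => hF i
  haveI : F.IsKProjective := DMod.isKProjective b fun i => inferInstance
  have key : ∀ (M : DRing.Cx A) [M.IsStrictlyLE b],
      (∀ i, Module.Flat R ((ModuleCat.restrictScalars.{u} φR).obj (M.X i))) → (DRing.toD F ≅ DRing.toD M) →
      Nonempty (DRing.toD ((extCx σ).obj F) ≅ DRing.toD ((extCx σ).obj M)) := by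
    intro M _ hM β
    obtain ⟨g, hg⟩ := DMod.exists_map_eq β.hom
    haveI : IsIso (DerivedCategory.Q.map g) := hg ▸ inferInstance
    haveI : QuasiIso g := (DerivedCategory.isIso_Q_map_iff_quasiIso (C := ModuleCat.{u} A) g).1 inferInstance
    haveI := quasiIso_ext_relExact hσ g b (fun i => flat_res φR hφ (F.X i)) hM
    exact ⟨asIso (DerivedCategory.Q.map ((extCx σ).map g))⟩
  obtain ⟨u₁⟩ := key P hP α
  obtain ⟨u₂⟩ := key Q hQ (α ≪≫ e)
  exact ⟨u₁.symm ≪≫ u₂⟩

/-- Amplitude after a relatively exact base change. -/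
theorem torAmp_bc_relExact (φ : A →+* B) (hφ : φR.Flat) (hσ : RelExact φR σ) (L : DRing.Cx B) (c : ℤ)
    [L.IsStrictlyLE c]
    (hLf : ∀ i, Module.Flat R ((ModuleCat.restrictScalars.{u} φR).obj ((ModuleCat.restrictScalars.{u} φ).obj (L.X i))))
    {a b : ℤ} (hL : DRing.HasTorAmplitudeIn A a b (DRing.toD ((DRing.restrictCx φ).obj L))) :
    DRing.HasTorAmplitudeIn A' a b (DRing.toD ((DRing.restrictCx (inclL σ φ)).obj ((extCx (inclR σ φ)).obj L))) := by
  obtain ⟨E, hv, hE, ⟨e⟩⟩ := hL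
  let L₀ := (DRing.restrictCx φ).obj L
  haveI : L₀.IsStrictlyLE (max b c) := (CochainComplex.isStrictlyLE_iff L₀ _).2 fun i hi =>
    (ModuleCat.restrictScalars.{u} φ).map_isZero (L.isZero_of_isStrictlyLE c i (lt_of_le_of_lt (le_max_right _ _) hi))
  haveI : E.IsStrictlyLE (max b c) := (CochainComplex.isStrictlyLE_iff E _).2 fun i hi =>
    hv i (Or.inr (lt_of_le_of_lt (le_max_left _ _) hi))
  obtain ⟨e'⟩ := nonempty_ext_iso_relExact hφ hσ (max b c) (fun i => haveI := hE i; flat_res φR hφ (E.X i)) hLf e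
  refine ⟨(extCx σ).obj E,
    fun i hi => (ModuleCat.extendScalars.{u, u, u} σ).map_isZero (hv i hi), fun i => ?_,
    ⟨e' ≪≫ DerivedCategory.Q.mapIso ((NatIso.mapHomologicalComplex (bcIso σ φ) (ComplexShape.up ℤ)).app L).symm⟩⟩
  haveI := hE i
  letI := σ.toAlgebra
  change Module.Flat A' (A' ⊗[A] (E.X i))
  infer_instance

/-- Amplitude after a relatively exact base change and a flat extension. -/
theorem torAmp_relExact (φ : A →+* B) (φ' : A' →+* B') (ψ : B →+* B') (ρ : BC σ φ →+* B') (hρ : ρ.Flat)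
    (h1 : ρ.comp (inclL σ φ) = φ') (h2 : ρ.comp (inclR σ φ) = ψ) (hφ : φR.Flat) (hσ : RelExact φR σ)
    (L : DRing.Cx B) (c : ℤ) [L.IsStrictlyLE c]
    (hLf : ∀ i, Module.Flat R ((ModuleCat.restrictScalars.{u} φR).obj ((ModuleCat.restrictScalars.{u} φ).obj (L.X i))))
    {a b : ℤ} (hL : DRing.HasTorAmplitudeIn A a b (DRing.toD ((DRing.restrictCx φ).obj L))) :
    DRing.HasTorAmplitudeIn A' a b (DRing.toD ((DRing.restrictCx φ').obj ((extCx ψ).obj L))) := by
  haveI : Module.Flat (BC σ φ) (algMod ρ) := flat_algMod ρ hρ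
  have h := (torAmp_res_ext_iff (inclL σ φ) ρ φ' h1.symm ((extCx (inclR σ φ)).obj L) a b).2
    (torAmp_res_flat (inclL σ φ) ((extCx (inclR σ φ)).obj L) (algMod ρ) (torAmp_bc_relExact φ hφ hσ L c hLf hL))
  refine hasTorAmplitudeIn_of_iso ?_ h
  exact DerivedCategory.Q.mapIso ((DRing.restrictCx φ').mapIso
    (((NatIso.mapHomologicalComplex (ModuleCat.extendScalarsComp (inclR σ φ) ρ).symm (ComplexShape.up ℤ)).app L) ≪≫
      (NatIso.mapHomologicalComplex (eqToIso (congrArg ModuleCat.extendScalars.{u, u, u} h2)) (ComplexShape.up ℤ)).app L))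

end Ring

variable {X₁ S₀ X' Y₂ X X₂ : Scheme.{u}} {e : X₁ ⟶ S₀} {q₂ : Y₂ ⟶ S₀} {u₁ : X' ⟶ X₁} {w : X' ⟶ Y₂}
  {f : X₂ ⟶ Y₂} {g : X ⟶ X₂} {f' : X ⟶ X'}

theorem relExact_stalk (H₁ : IsPullback u₁ w e q₂) (x' : X') {y : Y₂} (hy : y = w x') :
    RelExact (q₂.stalkMap y).hom ((Y₂.presheaf.stalkCongr (.of_eq hy)).hom ≫ w.stalkMap x').hom := by
  subst hy
  obtain ⟨ρ, -, h2, hρ⟩ := exists_rho H₁.flip x'
  have h : ((Y₂.presheaf.stalkCongr (.of_eq (rfl : w x' = w x'))).hom ≫ w.stalkMap x') = w.stalkMap x' := by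
    simp
  rw [h]
  intro L b hb hf hL
  haveI := hb
  exact acyclic_bc _ _ ρ hρ (w.stalkMap x').hom h2 L b hf hL

/-- Stalkwise amplitude of the pullback of a complex of modules flat over the common base. -/
theorem torAmplitude_pullback_torIndep [Flat q₂] (H₁ : IsPullback u₁ w e q₂) (H : IsPullback g f' f w)
    (R : CochainComplex X₂.Modules ℤ) (c : ℤ) [R.IsStrictlyLE c] (hf : ∀ i, FlatMod.IsFlatOver (f ≫ q₂) (R.X i))
    {a b : ℤ} (hR : DerSch.HasTorAmplitude f a b R) :
    DerSch.HasTorAmplitude f' a b (((Scheme.Modules.pullback g).mapHomologicalComplex (ComplexShape.up ℤ)).obj R) := by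
  intro x
  let L := ((stF (g x)).mapHomologicalComplex (ComplexShape.up ℤ)).obj R
  have hL : DRing.HasTorAmplitudeIn _ a b (DRing.toD ((DRing.restrictCx (f.stalkMap (g x)).hom).obj L)) :=
    RelPCS8.StalkTor.hasTorAmplitudeIn_congr (DerivedCategory.Q.mapIso (RelPCS8.TensorAmp.stalkOverCxIso f (g x) R)) (hR (g x))
  have hy : f (g x) = w (f' x) := by rw [← Scheme.Hom.comp_apply, ← Scheme.Hom.comp_apply, H.w]
  obtain ⟨ρ, h1, h2, hρ⟩ := exists_rho H x
  have hσ : RelExact (q₂.stalkMap (f (g x))).hom (baseMap H x).hom := relExact_stalk H₁ (f' x) hy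
  haveI : CochainComplex.IsStrictlyLE L c := (CochainComplex.isStrictlyLE_iff L c).2 fun i hi =>
    (stF (g x)).map_isZero (R.isZero_of_isStrictlyLE c i hi)
  have hLf : ∀ i, Module.Flat _ ((ModuleCat.restrictScalars.{u} (q₂.stalkMap (f (g x))).hom).obj
      ((ModuleCat.restrictScalars.{u} (f.stalkMap (g x)).hom).obj (L.X i))) := fun i =>
    RelPCS8.StalkId.flat_of_iso
      ((ModuleCat.restrictScalarsComp'.{u} _ _ ((f ≫ q₂).stalkMap (g x)).hom
        (by rw [← CommRingCat.hom_comp, Scheme.Hom.stalkMap_comp])).app (L.X i))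
      (RelPCS8.StalkId.flat_of_iso ((ModuleCat.restrictScalars.{u} ((f ≫ q₂).stalkMap (g x)).hom).mapIso
        ((RelPCS8.TorTensor.stalkFunctorIso (g x)).app (R.X i))) (hf i (g x)))
  have h := torAmp_relExact (f.stalkMap (g x)).hom (f'.stalkMap x).hom (g.stalkMap x).hom ρ hρ h1 h2
    (Flat.stalkMap q₂ (f (g x))) hσ L c hLf hL
  exact RelPCS8.StalkTor.hasTorAmplitudeIn_congr (DerivedCategory.Q.mapIso
    ((DRing.restrictCx (f'.stalkMap x).hom).mapIso (RelPCS8.TensorAmp.pullStalkCxIso g x R).symm ≪≫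
      (RelPCS8.TensorAmp.stalkOverCxIso f' x _).symm)) h

/-- Tor amplitude is preserved by base change from a common base of flatness. -/
theorem torAmplitudeD_torIndep [Flat q₂] [Flat (f ≫ q₂)] [DCoh.HasLpull g] (H₁ : IsPullback u₁ w e q₂)
    (H : IsPullback g f' f w) (F : CochainComplex X₂.Modules ℤ) {a b : ℤ} (hF : DerSch.HasTorAmplitude f a b F) :
    DerSch.HasTorAmplitudeD f' a b ((DCoh.Lpull g).obj (DCoh.toD X₂ F)) := by
  haveI : (DCoh.toD X₂ F).IsLE b := (DerivedCategory.isLE_iff _ b).2 fun i hi =>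
    RelPCS8.PerfAt.isZero_HD_of_torAmplitude f hF i (Or.inr hi)
  obtain ⟨R, hR, hRb, ⟨eR⟩⟩ := exists_adapted_le (DCoh.toD X₂ F) b
  haveI := hRb
  intro F' ⟨e'⟩ x
  have hR' : DerSch.HasTorAmplitude f a b R := fun y => by
    haveI := (RelPCS8.StalkId.preservesFiniteLimits_stalkOver f y).1
    haveI := (RelPCS8.StalkId.preservesFiniteLimits_stalkOver f y).2
    exact RelPCS8.StalkTor.hasTorAmplitudeIn_congr (RelPCS8.StalkId.stalkToDIso y f eR.symm) (hF y)
  haveI := (RelPCS8.StalkId.preservesFiniteLimits_stalkOver f' x).1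
  haveI := (RelPCS8.StalkId.preservesFiniteLimits_stalkOver f' x).2
  exact RelPCS8.StalkTor.hasTorAmplitudeIn_congr
    (RelPCS8.StalkId.stalkToDIso x f' ((lpullObjIso g R hR).symm ≪≫ (DCoh.Lpull g).mapIso eR ≪≫ e'.symm))
    (torAmplitude_pullback_torIndep H₁ H R b
      (fun i => DPerf.isFlatOver_of_isFlat (f ≫ q₂) ((isFlat_iff _).1 (hR.2.2 i))) hR' x)

end Groth.Agent.Exact8
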