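import Groth.Agent.Lib.Exact8.TorIndBC
import Groth.Agent.Lib.Exact8.TorIndTA
import Groth.Agent.Lib.Exact8.TensorRange
import Groth.Agent.Lib.Exact8.RelComp
import Groth.Agent.Lib.KFlat.LpullComp
import Groth.Agent.Lib.RHom.LeftUnit
import Groth.Agent.Lib.RelPCS4.Comp

/-!
# External derived tensor products
-/

set_option autoImplicit false
set_option backward.isDefEq.respectTransparency false
set_option backward.isDefEq.respectTransparency.types false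
set_option linter.style.haveILetI false
set_option maxHeartbeats 800000
universe u
open CategoryTheory CategoryTheory.Limits AlgebraicGeometry
attribute [local instance] HasDerivedCategory.standard

namespace Groth.Agent.Exact8

open KFlat KFlat.Sch RelPCS8 DMon9

theorem exists_toD {T : Scheme.{u}} (K : DCoh.D T) :
    ∃ G : CochainComplex T.Modules ℤ, Nonempty (DCoh.toD T G ≅ K) := by
  obtain ⟨G, ⟨e⟩⟩ := Functor.EssSurj.mem_essImage (F := (DerivedCategory.Q : CochainComplex T.Modules ℤ ⥤ _)) K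
  exact ⟨G, ⟨e⟩⟩

theorem nonempty_lpull_factor {X Y Z : Scheme.{u}} (f : X ⟶ Y) (g : Y ⟶ Z) (h : X ⟶ Z) (w : f ≫ g = h)
    [DCoh.HasLpull f] [DCoh.HasLpull g] [DCoh.HasLpull h] (E : DCoh.D Z) :
    Nonempty ((DCoh.Lpull f).obj ((DCoh.Lpull g).obj E) ≅ (DCoh.Lpull h).obj E) := by
  subst w
  exact ⟨(lpullCompIso f g).app E⟩

theorem isLE_lpull {X Y : Scheme.{u}} (f : X ⟶ Y) [DCoh.HasLpull f] (E : DCoh.D Y) (b : ℤ) [E.IsLE b] :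
    ((DCoh.Lpull f).obj E).IsLE b :=
  (DerivedCategory.isLE_iff _ b).2 fun l hl =>
    isZero_HD_lpull f E b ((DerivedCategory.isLE_iff E b).1 inferInstance) l hl

theorem isLE_of_torAmplitude {X Y : Scheme.{u}} {f : X ⟶ Y} {a b : ℤ} {F : CochainComplex X.Modules ℤ}
    (h : DerSch.HasTorAmplitude f a b F) : (DCoh.toD X F).IsLE b :=
  (DerivedCategory.isLE_iff _ b).2 fun i hi => PerfAt.isZero_HD_of_torAmplitude f h i (Or.inr hi)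

/-- Symmetry of the derived tensor product of bounded above objects. -/
theorem nonempty_ltensor_symm {X : Scheme.{u}} (K P : CochainComplex X.Modules ℤ) (b b' : ℤ)
    [(DCoh.toD X K).IsLE b] [(DCoh.toD X P).IsLE b'] [DCoh.HasLTensorCx K] [DCoh.HasLTensorCx P] :
    Nonempty ((DCoh.LTensorCx K).obj (DCoh.toD X P) ≅ (DCoh.LTensorCx P).obj (DCoh.toD X K)) := by
  obtain ⟨K', _, -, ⟨eK⟩, ⟨iK⟩⟩ := TwistBC9.exists_ltensor_model K b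
  obtain ⟨P', _, -, ⟨eP⟩, ⟨iP⟩⟩ := TwistBC9.exists_ltensor_model P b'
  let eK' : DCoh.toD X K'.obj ≅ DCoh.toD X K := eK
  let eP' : DCoh.toD X P'.obj ≅ DCoh.toD X P := eP
  obtain ⟨t₁⟩ := nonempty_lTensorCxObjIso K'.obj P'.obj P'.property
  obtain ⟨t₂⟩ := nonempty_lTensorCxObjIso P'.obj K'.obj K'.property
  exact ⟨(iK.app _).symm ≪≫ (DCoh.LTensorCx K'.obj).mapIso eP'.symm ≪≫ t₁ ≪≫
    DerivedCategory.Q.mapIso (RHom.commCx P'.obj K'.obj) ≪≫ t₂.symm ≪≫ (DCoh.LTensorCx P'.obj).mapIso eK' ≪≫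
    iP.app _⟩

variable {S X₁ Y₁ X₂ Y₂ X Y : Scheme.{u}} {f₁ : X₁ ⟶ Y₁} {q₁ : Y₁ ⟶ S} {f₂ : X₂ ⟶ Y₂} {q₂ : Y₂ ⟶ S}
  {pX₁ : X ⟶ X₁} {pX₂ : X ⟶ X₂} {pY₁ : Y ⟶ Y₁} {pY₂ : Y ⟶ Y₂}

/-- The factorisation of a product of morphisms. -/
theorem exists_factor (hX : IsPullback pX₁ pX₂ (f₁ ≫ q₁) (f₂ ≫ q₂)) (hY : IsPullback pY₁ pY₂ q₁ q₂)
    (f : X ⟶ Y) (hf₁ : f ≫ pY₁ = pX₁ ≫ f₁) (hf₂ : f ≫ pY₂ = pX₂ ≫ f₂) :
    ∃ (X' : Scheme.{u}) (u₁ : X' ⟶ X₁) (w : X' ⟶ Y₂) (g₁ : X' ⟶ Y) (h : X ⟶ X'),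
      h ≫ g₁ = f ∧ h ≫ u₁ = pX₁ ∧ IsPullback u₁ g₁ f₁ pY₁ ∧ IsPullback u₁ w (f₁ ≫ q₁) q₂ ∧
        IsPullback pX₂ h f₂ w := by
  let u₁ := pullback.fst (f₁ ≫ q₁) q₂
  let w := pullback.snd (f₁ ≫ q₁) q₂
  have H₁ : IsPullback u₁ w (f₁ ≫ q₁) q₂ := IsPullback.of_hasPullback _ _
  let g₁ := hY.lift (u₁ ≫ f₁) w (by rw [Category.assoc]; exact H₁.w)
  have hg1 : g₁ ≫ pY₁ = u₁ ≫ f₁ := hY.lift_fst _ _ _
  have hg2 : g₁ ≫ pY₂ = w := hY.lift_snd _ _ _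
  let h := H₁.lift pX₁ (pX₂ ≫ f₂) (by rw [Category.assoc]; exact hX.w)
  have hh1 : h ≫ u₁ = pX₁ := H₁.lift_fst _ _ _
  have hh2 : h ≫ w = pX₂ ≫ f₂ := H₁.lift_snd _ _ _
  refine ⟨_, u₁, w, g₁, h, hY.hom_ext ?_ ?_, hh1, ?_, H₁, ?_⟩
  · rw [Category.assoc, hg1, reassoc_of% hh1, hf₁]
  · rw [Category.assoc, hg2, hh2, hf₂]
  · exact IsPullback.of_bot (by rw [hg2]; exact H₁) hg1.symm hY
  · exact IsPullback.of_bot (by rw [hh1]; exact hX.flip) hh2.symm H₁.flip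

variable (hX : IsPullback pX₁ pX₂ (f₁ ≫ q₁) (f₂ ≫ q₂)) (hY : IsPullback pY₁ pY₂ q₁ q₂)
  (f : X ⟶ Y) (hf₁ : f ≫ pY₁ = pX₁ ≫ f₁) (hf₂ : f ≫ pY₂ = pX₂ ≫ f₂)

include hX hY hf₁ hf₂

theorem hasTorDimLE_prod [Flat q₂] [Flat (f₂ ≫ q₂)] (n₁ n₂ : ℕ) (h₁ : DerSch.HasTorDimLE f₁ n₁)
    (h₂ : DerSch.HasTorDimLE f₂ n₂) : DerSch.HasTorDimLE f (n₁ + n₂) := by
  obtain ⟨X', u₁, w, g₁, h, hfg, -, sqA, H₁, sqB⟩ := exists_factor hX hY f hf₁ hf₂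
  haveI : Flat pY₁ := MorphismProperty.of_isPullback (P := @Flat) hY.flip inferInstance
  haveI := KFlat.Sch.hasLpull u₁
  haveI := KFlat.Sch.hasLpull pX₂
  obtain ⟨e₁⟩ := RelPCS4.nonempty_lpull_unit u₁
  obtain ⟨e₂⟩ := RelPCS4.nonempty_lpull_unit pX₂
  have hg : DerSch.HasTorDimLE g₁ n₁ := torAmplitudeD_lpull sqA _ h₁ _
    ⟨singleToInD _ ≪≫ e₁.symm ≪≫ (DCoh.Lpull u₁).mapIso (singleToInD _).symm⟩
  have hh : DerSch.HasTorDimLE h n₂ := torAmplitudeD_torIndep H₁ sqB _ h₂ _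
    ⟨singleToInD _ ≪≫ e₂.symm ≪≫ (DCoh.Lpull pX₂).mapIso (singleToInD _).symm⟩
  have := StalkTor.hasTorAmplitude_comp h g₁ hg hh
  rw [hfg] at this
  rwa [show -((n₂ : ℕ) : ℤ) - (n₁ : ℤ) = -((n₁ + n₂ : ℕ) : ℤ) by push_cast; ring] at this

variable [DCoh.HasLpull pX₁] [DCoh.HasLpull pX₂]
  (E₁ : CochainComplex X₁.Modules ℤ) (E₂ : CochainComplex X₂.Modules ℤ)
  (K₂ : CochainComplex X.Modules ℤ) [DCoh.HasLTensorCx K₂]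
  (eK : DCoh.toD X K₂ ≅ (DCoh.Lpull pX₂).obj (DCoh.toD X₂ E₂))

include eK

theorem torAmplitudeD_external [Flat q₂] [Flat (f₂ ≫ q₂)] {a₁ b₁ a₂ b₂ : ℤ}
    (h₁ : DerSch.HasTorAmplitude f₁ a₁ b₁ E₁) (h₂ : DerSch.HasTorAmplitude f₂ a₂ b₂ E₂) :
    DerSch.HasTorAmplitudeD f (a₁ + a₂) (b₁ + b₂)
      ((DCoh.LTensorCx K₂).obj ((DCoh.Lpull pX₁).obj (DCoh.toD X₁ E₁))) := by
  obtain ⟨X', u₁, w, g₁, h, hfg, hu, sqA, H₁, sqB⟩ := exists_factor hX hY f hf₁ hf₂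
  haveI : Flat pY₁ := MorphismProperty.of_isPullback (P := @Flat) hY.flip inferInstance
  haveI := KFlat.Sch.hasLpull u₁
  haveI := KFlat.Sch.hasLpull h
  obtain ⟨G, ⟨eG⟩⟩ := exists_toD ((DCoh.Lpull u₁).obj (DCoh.toD X₁ E₁))
  have hG := torAmplitudeD_lpull sqA E₁ h₁ G ⟨eG⟩
  have hK := torAmplitudeD_torIndep H₁ sqB E₂ h₂ K₂ ⟨eK⟩
  obtain ⟨e⟩ := nonempty_lpull_factor h u₁ pX₁ hu (DCoh.toD X₁ E₁)
  intro W ⟨eW⟩
  have := TensorAmp.torAmplitude_lt_lpull h g₁ K₂ G hK hG W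
    ⟨eW ≪≫ ((DCoh.LTensorCx K₂).mapIso ((DCoh.Lpull h).mapIso eG ≪≫ e)).symm⟩
  rwa [hfg, add_comm a₂, add_comm b₂] at this

theorem rel_external [Flat q₂] [Flat (f₂ ≫ q₂)] [LocallyOfFiniteType f₁] [LocallyOfFiniteType f₂]
    {a₁ b₁ a₂ b₂ m : ℤ} (hm₁ : a₁ + b₂ ≤ m) (hm₂ : a₂ + b₁ ≤ m)
    (hpc₁ : DerSch.IsPseudoCoherentRel f₁ a₁ (DCoh.toD X₁ E₁)) [(DCoh.toD X₁ E₁).IsLE b₁]
    (hq₂ : DCoh.IsQCohD (DCoh.toD X₂ E₂)) (hpc₂ : DerSch.IsPseudoCoherentRel f₂ a₂ (DCoh.toD X₂ E₂))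
    [(DCoh.toD X₂ E₂).IsLE b₂] :
    DerSch.IsPseudoCoherentRel f m ((DCoh.LTensorCx K₂).obj ((DCoh.Lpull pX₁).obj (DCoh.toD X₁ E₁))) ∧
      ((DCoh.LTensorCx K₂).obj ((DCoh.Lpull pX₁).obj (DCoh.toD X₁ E₁))).IsLE (b₁ + b₂) := by
  obtain ⟨X', u₁, w, g₁, h, hfg, hu, sqA, H₁, sqB⟩ := exists_factor hX hY f hf₁ hf₂
  haveI : Flat pY₁ := MorphismProperty.of_isPullback (P := @Flat) hY.flip inferInstance
  haveI := KFlat.Sch.hasLpull u₁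
  haveI := KFlat.Sch.hasLpull h
  haveI : LocallyOfFiniteType g₁ := MorphismProperty.of_isPullback (P := @LocallyOfFiniteType) sqA inferInstance
  haveI : LocallyOfFiniteType h := MorphismProperty.of_isPullback (P := @LocallyOfFiniteType) sqB inferInstance
  have hF := RelPCS4.rel_baseChange sqA hpc₁
  haveI := isLE_lpull u₁ (DCoh.toD X₁ E₁) b₁
  haveI : ((DCoh.Lpull pX₂).obj (DCoh.toD X₂ E₂)).IsLE b₂ := isLE_lpull pX₂ (DCoh.toD X₂ E₂) b₂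
  haveI : (DCoh.toD X K₂).IsLE b₂ := (DerivedCategory.isLE_iff _ b₂).2 fun i hi =>
    (DerivedCategory.isZero_of_isLE _ b₂ i hi).of_iso ((DerivedCategory.homologyFunctor _ i).mapIso eK)
  have hE := rel_of_iso eK.symm (rel_torIndep H₁ sqB hq₂ hpc₂)
  obtain ⟨e⟩ := nonempty_lpull_factor h u₁ pX₁ hu (DCoh.toD X₁ E₁)
  refine ⟨?_, ?_⟩
  · rw [← hfg]
    exact rel_of_iso ((DCoh.LTensorCx K₂).mapIso e)
      (rel_lt_lpull (f := h) (g := g₁) (a := a₂) (b := b₂) (c := a₁) (d := b₁) (by omega) (by omega) K₂ hE hF)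
  · haveI := isLE_lt_lpull (f := h) b₂ b₁ K₂ ((DCoh.Lpull u₁).obj (DCoh.toD X₁ E₁))
    exact (DerivedCategory.isLE_iff _ _).2 fun i hi => (DerivedCategory.isZero_of_isLE _ (b₂ + b₁) i (by omega)).of_iso
      ((DerivedCategory.homologyFunctor _ i).mapIso ((DCoh.LTensorCx K₂).mapIso e).symm)

theorem perfAmplitude_external [Flat q₂] [Flat (f₂ ≫ q₂)] [LocallyOfFiniteType f₁] [LocallyOfFiniteType f₂]
    {a₁ b₁ a₂ b₂ : ℤ} (h₁ : DerSch.HasPerfAmplitudeRel f₁ a₁ b₁ E₁) (h₂ : DerSch.HasPerfAmplitudeRel f₂ a₂ b₂ E₂)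
    (K : CochainComplex X.Modules ℤ)
    (e : DCoh.toD X K ≅ (DCoh.LTensorCx K₂).obj ((DCoh.Lpull pX₁).obj (DCoh.toD X₁ E₁))) :
    DerSch.HasPerfAmplitudeRel f (a₁ + a₂) (b₁ + b₂) K := by
  haveI := isLE_of_torAmplitude h₁.2
  haveI := isLE_of_torAmplitude h₂.2
  exact ⟨fun m => rel_of_iso e.symm (rel_external hX hY f hf₁ hf₂ E₁ E₂ K₂ eK (m := m) (a₁ := m - b₂) (b₁ := b₁)
      (a₂ := m - b₁) (b₂ := b₂) (by omega) (by omega) (h₁.1 _)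
      (fun i => isQCoh_HD_of_rel (h₂.1 (i - 1)) (show i - 1 < i by omega)) (h₂.1 _)).1,
    torAmplitudeD_external hX hY f hf₁ hf₂ E₁ E₂ K₂ eK h₁.2 h₂.2 K ⟨e⟩⟩

/-- The flat first factor: the range of the product. -/
theorem range_external [Flat q₁] [Flat (f₁ ≫ q₁)] {a₁ b₁ a₂ b₂ : ℤ} (h₁ : DerSch.HasTorAmplitude f₁ a₁ b₁ E₁)
    [(DCoh.toD X₂ E₂).IsGE a₂] [(DCoh.toD X₂ E₂).IsLE b₂] :
    ((DCoh.LTensorCx K₂).obj ((DCoh.Lpull pX₁).obj (DCoh.toD X₁ E₁))).IsGE (a₁ + a₂) ∧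
      ((DCoh.LTensorCx K₂).obj ((DCoh.Lpull pX₁).obj (DCoh.toD X₁ E₁))).IsLE (b₁ + b₂) := by
  obtain ⟨X'', u₂, w, g₂, k, hfg, hu, sqA, H₁, sqB⟩ :=
    exists_factor (f₁ := f₂) (q₁ := q₂) (f₂ := f₁) (q₂ := q₁) hX.flip hY.flip f hf₂ hf₁
  haveI : Flat pY₂ := MorphismProperty.of_isPullback (P := @Flat) hY inferInstance
  haveI : Flat u₂ := MorphismProperty.of_isPullback (P := @Flat) sqA.flip inferInstance
  haveI := KFlat.Sch.hasLpull u₂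
  haveI := KFlat.Sch.hasLpull k
  obtain ⟨K₁, ⟨e₁⟩⟩ := exists_toD ((DCoh.Lpull pX₁).obj (DCoh.toD X₁ E₁))
  haveI := KFlat.Sch.hasLTensorCx K₁
  have hK₁ : DerSch.HasTorAmplitude k a₁ b₁ K₁ := torAmplitudeD_torIndep H₁ sqB E₁ h₁ K₁ ⟨e₁⟩
  haveI := isLE_of_torAmplitude hK₁
  haveI : (DCoh.toD X K₂).IsLE b₂ := by
    haveI : ((DCoh.Lpull pX₂).obj (DCoh.toD X₂ E₂)).IsLE b₂ := isLE_lpull pX₂ (DCoh.toD X₂ E₂) b₂
    exact (DerivedCategory.isLE_iff _ b₂).2 fun i hi =>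
      (DerivedCategory.isZero_of_isLE _ b₂ i hi).of_iso ((DerivedCategory.homologyFunctor _ i).mapIso eK)
  obtain ⟨es⟩ := nonempty_ltensor_symm K₂ K₁ b₂ b₁
  obtain ⟨e⟩ := nonempty_lpull_factor k u₂ pX₂ hu (DCoh.toD X₂ E₂)
  haveI : ((DCoh.Lpull u₂).obj (DCoh.toD X₂ E₂)).IsLE b₂ := isLE_lpull u₂ (DCoh.toD X₂ E₂) b₂
  haveI : ((DCoh.Lpull u₂).obj (DCoh.toD X₂ E₂)).IsGE a₂ := by
    obtain ⟨ep⟩ := RelPCS4.nonempty_lpull_iso_pullD u₂ (DCoh.toD X₂ E₂)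
    refine (DerivedCategory.isGE_iff _ a₂).2 fun i hi => ?_
    have h0 : IsZero ((E₂.sc i).homology) := (DerivedCategory.isZero_of_isGE (DCoh.toD X₂ E₂) a₂ i hi).of_iso
      ((DerivedCategory.homologyFunctorFactors X₂.Modules i).app E₂).symm
    exact ((Scheme.Modules.pullback u₂).map_isZero h0).of_iso
      ((DerivedCategory.homologyFunctor _ i).mapIso (ep ≪≫ (RelPCS4.pullFac u₂).app E₂) ≪≫
        (DerivedCategory.homologyFunctorFactors X''.Modules i).app _ ≪≫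
        (E₂.sc i).mapHomologyIso (Scheme.Modules.pullback u₂))
  let eT : (DCoh.LTensorCx K₂).obj ((DCoh.Lpull pX₁).obj (DCoh.toD X₁ E₁)) ≅
      (DCoh.LTensorCx K₁).obj ((DCoh.Lpull k).obj ((DCoh.Lpull u₂).obj (DCoh.toD X₂ E₂))) :=
    (DCoh.LTensorCx K₂).mapIso e₁.symm ≪≫ es ≪≫ (DCoh.LTensorCx K₁).mapIso (eK ≪≫ e.symm)
  have hz := fun i hi => (isZero_HD_lt_lpull k K₁ hK₁ ((DCoh.Lpull u₂).obj (DCoh.toD X₂ E₂)) (c := a₂) (d := b₂) i hi).of_iso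
    ((DerivedCategory.homologyFunctor _ i).mapIso eT)
  exact ⟨(DerivedCategory.isGE_iff _ _).2 fun i hi => hz i (Or.inl hi),
    (DerivedCategory.isLE_iff _ _).2 fun i hi => hz i (Or.inr hi)⟩

/-- The flat first factor: pseudo-coherence of the product. -/
theorem relAll_external' [Flat q₁] [Flat (f₁ ≫ q₁)] [LocallyOfFiniteType f₁] [LocallyOfFiniteType f₂]
    {a₁ b₁ a₂ b₂ : ℤ} (h₁ : DerSch.HasPerfAmplitudeRel f₁ a₁ b₁ E₁)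
    (h₂ : DerSch.IsPseudoCoherentRelAll f₂ (DCoh.toD X₂ E₂)) [(DCoh.toD X₂ E₂).IsGE a₂] [(DCoh.toD X₂ E₂).IsLE b₂] :
    DerSch.IsPseudoCoherentRelAll f ((DCoh.LTensorCx K₂).obj ((DCoh.Lpull pX₁).obj (DCoh.toD X₁ E₁))) := fun m => by
  haveI := isLE_of_torAmplitude h₁.2
  obtain ⟨K₁, ⟨e₁⟩⟩ := exists_toD ((DCoh.Lpull pX₁).obj (DCoh.toD X₁ E₁))
  haveI := KFlat.Sch.hasLTensorCx K₁
  haveI : (DCoh.toD X K₁).IsLE b₁ := by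
    haveI : ((DCoh.Lpull pX₁).obj (DCoh.toD X₁ E₁)).IsLE b₁ := isLE_lpull pX₁ (DCoh.toD X₁ E₁) b₁
    exact (DerivedCategory.isLE_iff _ b₁).2 fun i hi =>
      (DerivedCategory.isZero_of_isLE _ b₁ i hi).of_iso ((DerivedCategory.homologyFunctor _ i).mapIso e₁)
  haveI : (DCoh.toD X K₂).IsLE b₂ := by
    haveI : ((DCoh.Lpull pX₂).obj (DCoh.toD X₂ E₂)).IsLE b₂ := isLE_lpull pX₂ (DCoh.toD X₂ E₂) b₂
    exact (DerivedCategory.isLE_iff _ b₂).2 fun i hi =>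
      (DerivedCategory.isZero_of_isLE _ b₂ i hi).of_iso ((DerivedCategory.homologyFunctor _ i).mapIso eK)
  obtain ⟨es⟩ := nonempty_ltensor_symm K₂ K₁ b₂ b₁
  refine rel_of_iso ((DCoh.LTensorCx K₁).mapIso eK.symm ≪≫ es.symm ≪≫ (DCoh.LTensorCx K₂).mapIso e₁) ?_
  exact (rel_external hX.flip hY.flip f hf₂ hf₁ E₂ E₁ K₁ e₁ (m := m) (a₁ := m - b₁) (b₁ := b₂) (a₂ := m - b₂)
    (b₂ := b₁) (by omega) (by omega) (h₂ _)
    (fun i => isQCoh_HD_of_rel (h₁.1 (i - 1)) (show i - 1 < i by omega)) (h₁.1 _)).1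

end Groth.Agent.Exact8
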