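import Groth.Agent.Lib.DMon9.LPExtra
import Groth.Agent.Lib.DMV.GammaUnit
import Groth.Agent.Lib.DGen9.Affine
import Groth.Prelude.Def_DualFM

/-! Exchanging the two sides of an integral transform. -/

set_option autoImplicit false
set_option linter.style.haveILetI false
set_option backward.isDefEq.respectTransparency false
set_option backward.isDefEq.respectTransparency.types false

universe u

open CategoryTheory CategoryTheory.Limits MonoidalCategory AlgebraicGeometry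

attribute [local instance] HasDerivedCategory.standard

namespace Groth.Agent.Exact8.FMSwap

open DMon9 KFlat KFlat.Sch

variable {X Y Z : Scheme.{u}}

/-- One side, computed upstairs. -/
theorem nonempty_side (p : Z ⟶ X) (q : Z ⟶ Y) [DCoh.HasRpush p] [DCoh.HasLpull q] [DCoh.HasRΓ X] [DCoh.HasRΓ Z]
    (P : CochainComplex Z.Modules ℤ) [DCoh.HasLTensorCx P] (P' : KF Z) (F' : KF Y) (E' : KF X)
    (hP : ∀ A : DCoh.D Z, Nonempty ((DCoh.LTensorCx P).obj A ≅ (tR P').obj A))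
    (hE : DCoh.IsPerfect ((qK X).obj E')) :
    Nonempty ((DCoh.RΓ X).obj ((tR E').obj ((DCoh.Rpush p).obj ((DCoh.LTensorCx P).obj
        ((DCoh.Lpull q).obj ((qK Y).obj F'))))) ≅
      (DCoh.RΓ Z).obj (((qM Z).obj ((kfPull q).obj F') ⊗ (qM Z).obj P') ⊗ (qM Z).obj ((kfPull p).obj E') : DM Z)) := by
  haveI := KFlat.Sch.hasLTensorCx E'.obj
  haveI := KFlat.Sch.hasLTensorCx ((pullCx p).obj E'.obj)
  haveI : DCoh.HasLTensorCx ((kfPull p).obj E').obj := KFlat.Sch.hasLTensorCx _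
  obtain ⟨l⟩ := nonempty_lpull_iso_lP q ((qK Y).obj F')
  obtain ⟨h⟩ := hP ((DCoh.Lpull q).obj ((qK Y).obj F'))
  let G := (DCoh.LTensorCx P).obj ((DCoh.Lpull q).obj ((qK Y).obj F'))
  obtain ⟨j⟩ := DMon9.nonempty_projection p E'.obj E'.property hE G
  obtain ⟨r⟩ := DMV.nonempty_rGamma_rpush p
  let g : G ≅ (((qM Z).obj ((kfPull q).obj F') ⊗ (qM Z).obj P' : DM Z) : DCoh.D Z) :=
    h ≪≫ (tR P').mapIso (l ≪≫ (lPFac q).app F')
  exact ⟨(DCoh.RΓ X).mapIso ((theta E').app _ ≪≫ j ≪≫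
    (DCoh.Rpush p).mapIso (((theta ((kfPull p).obj E')).app G).symm ≪≫ (tR ((kfPull p).obj E')).mapIso g)) ≪≫
      r.app _⟩

/-- The exchange. -/
theorem nonempty_swap (p : Z ⟶ X) (q : Z ⟶ Y) [DCoh.HasRpush p] [DCoh.HasRpush q] [DCoh.HasLpull p]
    [DCoh.HasLpull q] [DCoh.HasRΓ X] [DCoh.HasRΓ Y] (P : CochainComplex Z.Modules ℤ) [DCoh.HasLTensorCx P]
    (E : CochainComplex X.Modules ℤ) (hE : DCoh.IsPerfect (DCoh.toD X E)) [DCoh.HasLTensorCx E]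
    (F : CochainComplex Y.Modules ℤ) (hF : DCoh.IsPerfect (DCoh.toD Y F)) [DCoh.HasLTensorCx F] :
    Nonempty ((DCoh.RΓ X).obj ((DCoh.LTensorCx E).obj ((DCoh.Rpush p).obj ((DCoh.LTensorCx P).obj
        ((DCoh.Lpull q).obj (DCoh.toD Y F))))) ≅
      (DCoh.RΓ Y).obj ((DCoh.LTensorCx F).obj ((DCoh.Rpush q).obj ((DCoh.LTensorCx P).obj
        ((DCoh.Lpull p).obj (DCoh.toD X E)))))) := by
  haveI : DCoh.HasRΓ Z := KInjLib.hasRightDerivedFunctor KInjLib.enoughKInj_of_grothendieck _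
  obtain ⟨P', -, hP'⟩ := DMon9.nonempty_ltensor_iso P
  obtain ⟨E', ⟨eE⟩, hE'⟩ := DMon9.nonempty_ltensor_iso E
  obtain ⟨F', ⟨eF⟩, hF'⟩ := DMon9.nonempty_ltensor_iso F
  obtain ⟨s⟩ := nonempty_side p q P P' F' E' hP' (DGen9.isPerfect_of_iso eE.symm hE)
  obtain ⟨t⟩ := nonempty_side q p P P' E' F' hP' (DGen9.isPerfect_of_iso eF.symm hF)
  let Ez := (kfPull p).obj E'
  let Fz := (kfPull q).obj F'
  haveI := KFlat.Sch.hasLTensorCx Fz.obj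
  haveI := KFlat.Sch.hasLTensorCx P'.obj
  obtain ⟨cF⟩ := DMon9.nonempty_commIso Fz
  obtain ⟨cP⟩ := DMon9.nonempty_commIso P'
  let w₁ : ((qM Z).obj Fz ⊗ ((qM Z).obj P' ⊗ (qM Z).obj Ez) : DM Z) ≅
      (((qM Z).obj P' ⊗ (qM Z).obj Ez) ⊗ (qM Z).obj Fz : DM Z) := cF.app _
  let w₂ : ((qM Z).obj P' ⊗ (qM Z).obj Ez : DM Z) ≅ ((qM Z).obj Ez ⊗ (qM Z).obj P' : DM Z) := cP.app _
  let w : (((qM Z).obj Fz ⊗ (qM Z).obj P') ⊗ (qM Z).obj Ez : DM Z) ≅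
      (((qM Z).obj Ez ⊗ (qM Z).obj P') ⊗ (qM Z).obj Fz : DM Z) := α_ _ _ _ ≪≫ w₁ ≪≫ whiskerRightIso w₂ _
  obtain ⟨a⟩ := hE' ((DCoh.Rpush p).obj ((DCoh.LTensorCx P).obj ((DCoh.Lpull q).obj (DCoh.toD Y F))))
  obtain ⟨b⟩ := hF' ((DCoh.Rpush q).obj ((DCoh.LTensorCx P).obj ((DCoh.Lpull p).obj (DCoh.toD X E))))
  exact ⟨(DCoh.RΓ X).mapIso (a ≪≫ (DCoh.Lpull q ⋙ DCoh.LTensorCx P ⋙ DCoh.Rpush p ⋙ tR E').mapIso eF.symm) ≪≫ s ≪≫
    (DCoh.RΓ Z).mapIso w ≪≫ t.symm ≪≫ (DCoh.RΓ Y).mapIso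
      ((DCoh.Lpull p ⋙ DCoh.LTensorCx P ⋙ DCoh.Rpush q ⋙ tR F').mapIso eE ≪≫ b.symm)⟩

end Groth.Agent.Exact8.FMSwap
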