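import Groth.Agent.Lib.RelPCS4.TensorPC
import Groth.Agent.Lib.RelPCS8.TensorPerf
import Groth.Agent.Lib.RelPCS8.ClosedPush
import Groth.Agent.Lib.TwistBC9.LTTri
import Groth.Agent.Lib.RHom.Vanish
import Groth.Agent.Lib.RHom.TensorRes
import Groth.Agent.Lib.DPerf.Amp

/-!
# Direct images of tensor products with pseudo-coherent objects
-/

set_option autoImplicit false
set_option backward.isDefEq.respectTransparency false
set_option backward.isDefEq.respectTransparency.types false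
set_option linter.style.haveILetI false
set_option maxHeartbeats 1000000
universe u
open CategoryTheory CategoryTheory.Limits AlgebraicGeometry Pretriangulated
attribute [local instance] HasDerivedCategory.standard

namespace Groth.Agent.Exact8

open KFlat KFlat.Sch RelPCS4

variable {Z T : Scheme.{u}}

/-- A complex of flat modules, strictly bounded above, whose direct image has the wanted approximations. -/
structure FlatPush (i : Z ⟶ T) [IsClosedImmersion i] (R : CochainComplex Z.Modules ℤ) (c : ℤ) : Prop where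
  flat : ∀ n, IsFlat (TX Z) (R.X n)
  bdd : ∃ d : ℤ, R.IsStrictlyLE d
  approx : DPerf.Approx (Set.Ici c) ((RelPCS8.pushD i).obj (DCoh.toD Z R))

theorem FlatPush.adapted {i : Z ⟶ T} [IsClosedImmersion i] {R : CochainComplex Z.Modules ℤ} {c : ℤ}
    (h : FlatPush i R c) : IsAdapted R := by
  obtain ⟨d, hd⟩ := h.bdd
  exact isAdapted_of_boundedAbove R d h.flat

theorem flat_resX {V : Z.Opens} {R : CochainComplex Z.Modules ℤ} (h : ∀ n, IsFlat (TX Z) (R.X n)) (n : ℤ) :
    IsFlat (TX (V : Scheme.{u})) (((DPerf.resX V.ι).obj R).X n) :=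
  (isFlat_iff _).2 (DPerf.isFlat_res V.ι ((isFlat_iff _).1 (h n)))

theorem FlatPush.res {i : Z ⟶ T} [IsClosedImmersion i] {R : CochainComplex Z.Modules ℤ} {c : ℤ}
    (h : FlatPush i R c) (V : T.Opens) : FlatPush (i ∣_ V) ((DPerf.resX (i ⁻¹ᵁ V).ι).obj R) c := by
  obtain ⟨d, hd⟩ := h.bdd
  refine ⟨flat_resX h.flat, ⟨d, (CochainComplex.isStrictlyLE_iff _ d).2 fun n hn =>
    (Scheme.Modules.restrictFunctor _).map_isZero (R.isZero_of_isStrictlyLE d n hn)⟩, ?_⟩
  exact ((h.approx.res V).of_iso ((RelPCS8.pushBC (RelPCS8.isPullback_open i V)).app _ ≪≫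
    (RelPCS8.pushD (i ∣_ V)).mapIso ((DPerf.resFac (i ⁻¹ᵁ V).ι).app R)))

/-- Restriction of `R ⊗ M`, termwise. -/
noncomputable def rtenResIso (U : Z.Opens) (M : Z.Modules) :
    rten M ⋙ Scheme.Modules.restrictFunctor U.ι ≅
      Scheme.Modules.restrictFunctor U.ι ⋙ rten ((Scheme.Modules.restrictFunctor U.ι).obj M) :=
  NatIso.ofComponents (fun N => M2.restrictTensorIso U.ι N M)
    fun f => (RHom.natural_restrictTensorIso U).left f M

theorem pushTen_isFinLocFree {i : Z ⟶ T} [IsClosedImmersion i] {R : CochainComplex Z.Modules ℤ} {c : ℤ}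
    (h : FlatPush i R c) {P : Z.Modules} (hP : FlatMod.IsFinLocFree P) : PushTen i R P c := by
  refine DPerf.Approx.of_locally fun x => ?_
  by_cases hx : x ∈ Set.range i
  · obtain ⟨z, rfl⟩ := hx
    obtain ⟨U, n, hzU, ⟨e⟩⟩ := hP z
    obtain ⟨V, rfl⟩ := RelPCS8.exists_open_eq i U
    have hV := h.res V
    refine ⟨V, hzU, (pushTen_freeMod (i ∣_ V) c hV.adapted hV.approx n).of_iso ?_⟩
    exact (RelPCS8.pushD (i ∣_ V)).mapIso (DerivedCategory.Q.mapIso
        ((NatIso.mapHomologicalComplex ((TX _).flip.mapIso e.symm) (ComplexShape.up ℤ)).app _ ≪≫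
          ((NatIso.mapHomologicalComplex (rtenResIso (i ⁻¹ᵁ V) P) (ComplexShape.up ℤ)).app R).symm) ≪≫
        ((DPerf.resFac (i ⁻¹ᵁ V).ι).app ((rtenX P).obj R)).symm) ≪≫
      ((RelPCS8.pushBC (RelPCS8.isPullback_open i V)).app (DCoh.toD Z ((rtenX P).obj R))).symm
  · let V : T.Opens := ⟨(Set.range i)ᶜ, i.isClosedEmbedding.isClosed_range.isOpen_compl⟩
    haveI := RelPCS8.isEmpty_compl i
    exact ⟨V, hx, (RelPCS8.approx_pushD_of_isEmpty (i ∣_ V) c _).of_iso
      ((RelPCS8.pushBC (RelPCS8.isPullback_open i V)).app _).symm⟩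

/-- Tensor products with a strictly perfect complex in degrees `≤ b`. -/
theorem pushTen_strictlyPerfect {i : Z ⟶ T} [IsClosedImmersion i] {R : CochainComplex Z.Modules ℤ} {c : ℤ}
    (h : FlatPush i R c) [DCoh.HasLTensorCx R] {E : CochainComplex Z.Modules ℤ} (hE : DCoh.IsStrictlyPerfect E)
    (b m : ℤ) (hb : ∀ k, b < k → IsZero (E.X k)) (hm : b + c ≤ m) :
    DPerf.Approx (Set.Ici m) ((RelPCS8.pushD i).obj ((DCoh.LTensorCx R).obj (DCoh.toD Z E))) := by
  obtain ⟨⟨a, b', hv⟩, hf⟩ := hE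
  refine Groth.Agent.PCoh.termwise_induction
    (fun K => DPerf.Approx (Set.Ici m) ((RelPCS8.pushD i).obj ((DCoh.LTensorCx R).obj K))) E a b hb
    (fun T hT h₁ h₃ => ?_) (fun K hK hK' => ?_) fun k M _ hk ⟨eM⟩ => ?_
  · obtain ⟨T', hT', ⟨e₁⟩, ⟨e₂⟩, ⟨e₃⟩⟩ :=
      TwistBC9.exists_triangle_LT (⟨R, h.adapted.1⟩ : DMon9.KF Z) T hT
    exact (DPerf.approx_Ici₂ m _ ((RelPCS8.pushD i).map_distinguished T' hT')
      (h₁.of_iso ((RelPCS8.pushD i).mapIso e₁.symm)) (h₃.of_iso ((RelPCS8.pushD i).mapIso e₃.symm))).of_iso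
        ((RelPCS8.pushD i).mapIso e₂)
  · obtain ⟨d, hd⟩ := h.bdd
    have hz : ∀ k, IsZero (K.X k) := fun k => by
      rcases lt_or_ge k a with hk | hk
      · exact (hv k (Or.inl hk)).of_iso (hK' k hk).some
      · exact hK k hk
    haveI : (DCoh.toD Z K).IsLE (m - 1 - d) := (DerivedCategory.isLE_iff _ _).2 fun k _ =>
      (isZero_HD_toD_iff K k).2 (by rw [HomologicalComplex.exactAt_iff]; exact ShortComplex.exact_of_isZero_X₂ _ (hz k))
    haveI := RHom.isLE_LT R d (DCoh.toD Z K) (m - 1 - d)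
    exact DPerf.approx_of_isZero_HD fun k hk => (RelPCS8.isZero_HD_push_iff i _ k).2
      (DerivedCategory.isZero_of_isLE ((DCoh.LTensorCx R).obj (DCoh.toD Z K)) (m - 1 - d + d) k (by omega))
  · obtain ⟨e⟩ := RelPCS8.TensorPerf.nonempty_lt_obj R h.adapted.1 (RHom.sg k M)
    have hP := (pushTen_isFinLocFree h (M2.isFinLocFree_of_iso eM.symm (hf k))).shift_Ici (-k) (c + k) (by omega)
    refine (hP.mono_set (Set.Ici_subset_Ici.2 (by omega))).of_iso ?_
    exact ((RelPCS8.pushD i).commShiftIso (-k)).symm.app _ ≪≫ (RelPCS8.pushD i).mapIso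
      (((DerivedCategory.Q.commShiftIso (-k)).app _).symm ≪≫
        DerivedCategory.Q.mapIso (RHom.singleTensorIso (TX Z) k M R).symm ≪≫
        e.symm ≪≫ (DCoh.LTensorCx R).mapIso ((DerivedCategory.singleFunctorIsoCompQ _ k).app M).symm)

/-- Tensor products of complexes, one flat with pseudo-coherent direct image, one pseudo-coherent. -/
theorem pushTen_approx {i : Z ⟶ T} [IsClosedImmersion i] {R : CochainComplex Z.Modules ℤ} {c : ℤ}
    (h : FlatPush i R c) (d : ℤ) [R.IsStrictlyLE d] (L : CochainComplex Z.Modules ℤ) (a b m : ℤ)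
    [(DCoh.toD Z L).IsLE b] (hL : DPerf.Approx (Set.Ici a) (DCoh.toD Z L)) (had : a + d ≤ m) (hbc : b + c ≤ m) :
    DPerf.Approx (Set.Ici m) ((RelPCS8.pushD i).obj (DCoh.toD Z (((tcx (TX Z)).obj R).obj L))) := by
  haveI := KFlat.Sch.hasLTensorCx R
  by_cases hba : b < a
  · haveI := RHom.isLE_LT R d (DCoh.toD Z L) b
    obtain ⟨e⟩ := RelPCS8.TensorPerf.nonempty_lt_obj R h.adapted.1 L
    exact DPerf.approx_of_isZero_HD fun k hk => (RelPCS8.isZero_HD_push_iff i _ k).2
      ((DerivedCategory.isZero_of_isLE _ (b + d) k (by omega)).of_iso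
        ((DerivedCategory.homologyFunctor _ k).mapIso e.symm))
  refine DPerf.Approx.of_locally fun x => ?_
  by_cases hx : x ∈ Set.range i
  · obtain ⟨z, rfl⟩ := hx
    obtain ⟨U, hzU, hU⟩ := hL.exists_opens z
    obtain ⟨V, rfl⟩ := RelPCS8.exists_open_eq i U
    obtain ⟨E, hE, α, hα⟩ := hU _ le_rfl
    have hV := h.res V
    let W := i ⁻¹ᵁ V
    let R' := (DPerf.resX W.ι).obj R
    haveI := KFlat.Sch.hasLTensorCx R'
    haveI : R'.IsStrictlyLE d := (CochainComplex.isStrictlyLE_iff _ d).2 fun n hn =>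
      (Scheme.Modules.restrictFunctor _).map_isZero (R.isZero_of_isStrictlyLE d n hn)
    haveI hK : ((DPerf.resD W.ι).obj (DCoh.toD Z L)).IsLE b := (DerivedCategory.isLE_iff _ b).2 fun k hk =>
      ((Scheme.Modules.restrictFunctor W.ι).map_isZero (DerivedCategory.isZero_of_isLE (DCoh.toD Z L) b k hk)).of_iso
        (DPerf.hdResIso W.ι _ k)
    have hexE : ∀ k, b < k → E.ExactAt k := fun k hk => by
      refine (isZero_HD_toD_iff E k).1 ?_
      haveI := DPerf.isIso_of_dcond hα (show a < k by omega)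
      exact (DerivedCategory.isZero_of_isLE _ b k hk).of_iso
        (asIso ((DerivedCategory.homologyFunctor _ k).map α))
    haveI : E.IsLE b := (CochainComplex.isLE_iff E b).2 hexE
    let E₁ := E.truncLE b
    have hE₁ : DCoh.IsStrictlyPerfect E₁ := by
      obtain ⟨a₀, b₀, hv⟩ := hE.1
      refine ⟨⟨a₀, b, fun k hk => ?_⟩, fun k => ?_⟩
      · rcases hk with hk | hk
        · rcases lt_trichotomy k b with h1 | h1 | h1
          · exact (hv k (Or.inl hk)).of_iso (CochainComplex.truncLEXIso E b k h1)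
          · subst h1
            exact (IsZero.of_mono (E.iCycles k) (hv k (Or.inl hk))).of_iso (CochainComplex.truncLEXIsoCycles E k)
          · exact E₁.isZero_of_isStrictlyLE b k h1
        · exact E₁.isZero_of_isStrictlyLE b k hk
      · rcases lt_trichotomy k b with hi | hi | hi
        · exact M2.isFinLocFree_of_iso (CochainComplex.truncLEXIso E b k hi).symm (hE.2 k)
        · subst hi
          exact M2.isFinLocFree_of_iso (CochainComplex.truncLEXIsoCycles E k).symm
            (DPerf.isFinLocFree_cycles hE k hexE)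
        · exact KFlat.Sch.isFinLocFree_of_isZero (E₁.isZero_of_isStrictlyLE b k hi)
    let e₁ : DCoh.toD _ E₁ ≅ DCoh.toD _ E := asIso (DerivedCategory.Q.map (E.ιTruncLE b))
    obtain ⟨C, g, t, hT⟩ := distinguished_cocone_triangle α
    haveI : C.IsLE (a - 1) := (DerivedCategory.isLE_iff _ _).2 fun k hk =>
      DPerf.isZero_homology_of_dcond hT hα (show a ≤ k by omega)
    obtain ⟨T', hT', ⟨a₁⟩, ⟨a₂⟩, ⟨a₃⟩⟩ :=
      TwistBC9.exists_triangle_LT (⟨R', hV.adapted.1⟩ : DMon9.KF (W : Scheme.{u})) _ hT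
    have hC : DPerf.Approx (Set.Ici m) ((RelPCS8.pushD (i ∣_ V)).obj T'.obj₃) := by
      haveI := RHom.isLE_LT R' d C (a - 1)
      exact DPerf.approx_of_isZero_HD fun k hk => (RelPCS8.isZero_HD_push_iff _ _ k).2
        ((DerivedCategory.isZero_of_isLE ((DCoh.LTensorCx R').obj C) (a - 1 + d) k (by omega)).of_iso
          ((DerivedCategory.homologyFunctor _ k).mapIso a₃))
    have hP := (pushTen_strictlyPerfect hV hE₁ b m (fun k hk => E₁.isZero_of_isStrictlyLE b k hk) hbc).of_iso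
      ((RelPCS8.pushD (i ∣_ V)).mapIso ((DCoh.LTensorCx R').mapIso e₁ ≪≫ a₁.symm))
    obtain ⟨eR⟩ := RelPCS8.TensorPerf.nonempty_lt_obj R' hV.adapted.1 ((DPerf.resX W.ι).obj L)
    refine ⟨V, hzU, (DPerf.approx_Ici₂ m _ ((RelPCS8.pushD (i ∣_ V)).map_distinguished T' hT') hP hC).of_iso
      ((RelPCS8.pushD (i ∣_ V)).mapIso (a₂ ≪≫ (DCoh.LTensorCx R').mapIso ((DPerf.resFac W.ι).app L) ≪≫ eR ≪≫
        DerivedCategory.Q.mapIso (RHom.tensorResIso W R L).symm ≪≫ ((DPerf.resFac W.ι).app _).symm) ≪≫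
        ((RelPCS8.pushBC (RelPCS8.isPullback_open i V)).app _).symm)⟩
  · let V : T.Opens := ⟨(Set.range i)ᶜ, i.isClosedEmbedding.isClosed_range.isOpen_compl⟩
    haveI := RelPCS8.isEmpty_compl i
    exact ⟨V, hx, (RelPCS8.approx_pushD_of_isEmpty (i ∣_ V) m _).of_iso
      ((RelPCS8.pushBC (RelPCS8.isPullback_open i V)).app _).symm⟩

end Groth.Agent.Exact8
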