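import Groth.Agent.Lib.Exact8.FMSwap
import Groth.Agent.Lib.Exact8.RelTen
import Groth.Agent.Lib.CohFound.RelVan
import Groth.Agent.Lib.CohFound.ModFlasque
import Groth.Agent.Lib.RelAmple18.Generation
import Groth.Agent.Lib.DPush9.Coh
import Groth.Agent.Lib.DPerf.Noeth
import Groth.Agent.Lib.DGen9.Basics
import Groth.Agent.Lib.DGen9.ResCluster
import Groth.Agent.Lib.LimH13.SuppProper
import Groth.Agent.Lib.TensorMod.Dual
import Groth.Agent.Lib.DPerf.Single

/-!
# Hypercohomology of large twists of bounded coherent objects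
-/

set_option autoImplicit false
set_option backward.isDefEq.respectTransparency false
set_option backward.isDefEq.respectTransparency.types false
set_option linter.style.haveILetI false
universe u
open CategoryTheory CategoryTheory.Limits AlgebraicGeometry TopologicalSpace Opposite
attribute [local instance] HasDerivedCategory.standard

namespace Groth.Agent.Exact8.FMVanish

open CohFound KFlat KFlat.Sch RelPCS4

variable {X : Scheme.{u}}

/-- No higher cohomology. -/
def Ac (M : X.Modules) : Prop := ∀ p : ℕ, Subsingleton (Hc ((abF X).obj M) (p + 1) ⊤)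

theorem ac_injective (I : X.Modules) [Injective I] : Ac I := fun p => by
  haveI := isFlasque_abF_injective I
  exact subsingleton_hc_of_isFlasque _ p ⊤

theorem ac_of_isZero {M : X.Modules} (h : IsZero M) : Ac M := by
  haveI : Injective M := h.injective
  exact ac_injective M

theorem ac_of_iso {M N : X.Modules} (e : M ≅ N) (h : Ac M) : Ac N := fun p => subsingleton_hc_of_iso e (p + 1) ⊤ (h p)

theorem ac₂ {S : ShortComplex X.Modules} (hS : S.ShortExact) (h₁ : Ac S.X₁) (h₃ : Ac S.X₃) : Ac S.X₂ := fun p => by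
  have hS' := shortExact_abF hS
  refine subsingleton_of_forall_eq 0 fun x => ?_
  haveI : Subsingleton (Hc (S.map (abF X)).X₁ (p + 1) ⊤) := h₁ p
  haveI : Subsingleton (Hc (S.map (abF X)).X₃ (p + 1) ⊤) := h₃ p
  obtain ⟨y, rfl⟩ := exact₂ hS' (p + 1) ⊤ x (Subsingleton.elim _ _)
  rw [Subsingleton.elim y 0, map_zero]

theorem ac₃ {S : ShortComplex X.Modules} (hS : S.ShortExact) (h₁ : Ac S.X₁) (h₂ : Ac S.X₂) : Ac S.X₃ := fun p => by
  have hS' := shortExact_abF hS
  refine subsingleton_of_forall_eq 0 fun x => ?_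
  haveI : Subsingleton (Hc (S.map (abF X)).X₁ (p + 1 + 1) ⊤) := h₁ (p + 1)
  haveI : Subsingleton (Hc (S.map (abF X)).X₂ (p + 1) ⊤) := h₂ p
  obtain ⟨y, rfl⟩ := exact₃ hS' (p + 1) ⊤ x (Subsingleton.elim _ _)
  rw [Subsingleton.elim y 0, map_zero]

instance : PreservesFiniteLimits (DCoh.gammaAb X) :=
  inferInstanceAs (PreservesFiniteLimits
    (abF X ⋙ sheafToPresheaf _ _ ⋙ (evaluation _ AddCommGrpCat.{u}).obj (op ⊤)))

/-- Global sections are exact at the end when the kernel has no higher cohomology. -/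
theorem epi_gamma {S : ShortComplex X.Modules} (hS : S.ShortExact) (h₁ : Ac S.X₁) :
    Epi ((DCoh.gammaAb X).map S.g) := by
  have hS' := shortExact_abF hS
  refine (AddCommGrpCat.epi_iff_surjective _).2 fun z => ?_
  haveI : Subsingleton (Hc (S.map (abF X)).X₁ (0 + 1) ⊤) := h₁ 0
  obtain ⟨y, hy⟩ := exact₃ hS' 0 ⊤ ((hc0 _ ⊤).symm z) (Subsingleton.elim _ _)
  refine ⟨hc0 _ ⊤ y, ?_⟩
  have := hc0_mp (S.map (abF X)).g ⊤ y
  rw [hy, AddEquiv.apply_symm_apply] at this
  exact this.symm

section Cycles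

variable (K : CochainComplex X.Modules ℤ) (i j : ℤ)

/-- Boundaries inside cycles. -/
noncomputable abbrev bd : X.Modules := kernel (K.homologyπ j)

theorem shortExact_bd :
    (ShortComplex.mk (kernel.ι (K.homologyπ j)) (K.homologyπ j) (kernel.condition _)).ShortExact where
  exact := ShortComplex.exact_of_f_is_kernel _ (kernelIsKernel _)

/-- The differential onto the boundaries. -/
noncomputable abbrev toBd : K.X i ⟶ bd K j := kernel.lift _ (K.toCycles i j) (K.toCycles_comp_homologyπ i j)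

theorem shortExact_toBd (hi : i + 1 = j) :
    (ShortComplex.mk (K.iCycles i) (toBd K i j)
      (by rw [← cancel_mono (kernel.ι (K.homologyπ j)), Category.assoc, kernel.lift_ι, zero_comp,
        ← cancel_mono (K.iCycles j), Category.assoc, K.toCycles_i, zero_comp, K.iCycles_d])).ShortExact := by
  have he : (ShortComplex.mk (K.toCycles i j) (K.homologyπ j) (K.toCycles_comp_homologyπ i j)).Exact :=
    ShortComplex.exact_of_g_is_cokernel _ (K.homologyIsCokernel i j (by simp [← hi]))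
  haveI : Epi (toBd K i j) := he.epi_kernelLift
  refine { exact := ShortComplex.exact_of_f_is_kernel _ ?_ }
  refine KernelFork.IsLimit.ofι' (K.iCycles i) _ fun {A} k hk => ?_
  have hk' : k ≫ K.d i j = 0 := by
    rw [← K.toCycles_i i j, ← kernel.lift_ι (K.homologyπ j) (K.toCycles i j) (K.toCycles_comp_homologyπ i j)]
    simp only [Category.assoc]
    rw [reassoc_of% hk, zero_comp]
  exact ⟨K.liftCycles k j ((ComplexShape.up ℤ).next_eq' hi) hk', K.liftCycles_i _ _ _ _⟩

end Cycles

/-- A bounded below complex of acyclic modules with acyclic homology. -/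
theorem ac_cycles (K : CochainComplex X.Modules ℤ) (a : ℤ) [K.IsStrictlyGE a] (hX : ∀ n, Ac (K.X n))
    (hH : ∀ n, Ac (K.homology n)) (n : ℤ) : Ac (K.cycles n) := by
  suffices h : ∀ k : ℕ, Ac (K.cycles (a - 1 + k)) by
    rcases lt_or_ge n (a - 1) with hn | hn
    · exact ac_of_isZero (IsZero.of_mono (K.iCycles n) (K.isZero_of_isStrictlyGE a n (by omega)))
    · obtain ⟨k, rfl⟩ : ∃ k : ℕ, n = a - 1 + k := ⟨(n - (a - 1)).toNat, by omega⟩
      exact h k
  intro k
  induction k with
  | zero => exact ac_of_isZero (IsZero.of_mono (K.iCycles _) (K.isZero_of_isStrictlyGE a _ (by simp)))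
  | succ k ih =>
    have hB : Ac (bd K (a - 1 + (k + 1 : ℕ))) :=
      ac₃ (shortExact_toBd K (a - 1 + k) (a - 1 + (k + 1 : ℕ)) (by push_cast; ring)) ih (hX _)
    exact ac₂ (shortExact_bd K _) hB (hH _)

theorem ac_bd (K : CochainComplex X.Modules ℤ) (a : ℤ) [K.IsStrictlyGE a] (hX : ∀ n, Ac (K.X n))
    (hH : ∀ n, Ac (K.homology n)) (n : ℤ) : Ac (bd K n) :=
  ac₃ (shortExact_toBd K (n - 1) n (by ring)) (ac_cycles K a hX hH _) (hX _)

/-- Global sections commute with homology. -/
theorem nonempty_gamma_homology (K : CochainComplex X.Modules ℤ) (a : ℤ) [K.IsStrictlyGE a]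
    (hX : ∀ n, Ac (K.X n)) (hH : ∀ n, Ac (K.homology n)) (i : ℤ) :
    Nonempty ((((DCoh.gammaAb X).mapHomologicalComplex (ComplexShape.up ℤ)).obj K).homology i ≅
      (DCoh.gammaAb X).obj (K.homology i)) := by
  let F := DCoh.gammaAb X
  let FK := (F.mapHomologicalComplex (ComplexShape.up ℤ)).obj K
  let T := FK.sc' (i - 1) i (i + 1)
  have hp : (ComplexShape.up ℤ).prev i = i - 1 := (ComplexShape.up ℤ).prev_eq' (by simp)
  have hn : (ComplexShape.up ℤ).next i = i + 1 := (ComplexShape.up ℤ).next_eq' (by simp)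
  have wi : F.map (K.iCycles i) ≫ T.g = 0 :=
    (F.map_comp _ _).symm.trans ((congrArg F.map (K.iCycles_d i (i + 1))).trans (F.map_zero _ _))
  let hi : IsLimit (KernelFork.ofι (F.map (K.iCycles i)) wi) :=
    KernelFork.mapIsLimit _ (K.cyclesIsKernel i (i + 1) hn) F
  have wf : T.f ≫ T.g = 0 := T.zero
  have hl : hi.lift (KernelFork.ofι T.f wf) = F.map (K.toCycles (i - 1) i) := by
    refine Fork.IsLimit.hom_ext hi ((Fork.IsLimit.lift_ι hi).trans ?_)
    exact ((congrArg F.map (K.toCycles_i (i - 1) i)).symm.trans (F.map_comp _ _))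
  have wπ : hi.lift (KernelFork.ofι T.f wf) ≫ F.map (K.homologyπ i) = 0 := by
    rw [hl, ← F.map_comp, K.toCycles_comp_homologyπ, F.map_zero]
  have hepi : Epi (F.map (K.homologyπ i)) := epi_gamma (shortExact_bd K i) (ac_bd K a hX hH i)
  have hepi' : Epi (F.map (toBd K (i - 1) i)) :=
    epi_gamma (shortExact_toBd K (i - 1) i (by ring)) (ac_cycles K a hX hH _)
  have hex : (ShortComplex.mk _ _ wπ).Exact := by
    rw [ShortComplex.ab_exact_iff]
    intro x hx
    haveI := (shortExact_bd K i).mono_f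
    have he := (ShortComplex.ab_exact_iff _).1 ((shortExact_bd K i).exact.map_of_mono_of_preservesKernel F
      inferInstance inferInstance) x hx
    obtain ⟨y, hy⟩ := he
    obtain ⟨z, hz⟩ := (AddCommGrpCat.epi_iff_surjective _).1 hepi' y
    refine ⟨z, ?_⟩
    change hi.lift (KernelFork.ofι T.f wf) z = x
    rw [hl]
    refine Eq.trans ?_ hy
    change _ = F.map (kernel.ι (K.homologyπ i)) y
    rw [← hz]
    exact ((congrArg (fun t => F.map t z) (kernel.lift_ι (K.homologyπ i) (K.toCycles (i - 1) i) _)).symm.trans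
      (by rw [F.map_comp]; rfl))
  haveI := hepi
  let D : T.LeftHomologyData :=
    { K := F.obj (K.cycles i), H := F.obj (K.homology i), i := F.map (K.iCycles i), π := F.map (K.homologyπ i),
      wi := wi, hi := hi, wπ := wπ, hπ := hex.gIsCokernel }
  exact ⟨ShortComplex.homologyMapIso (FK.isoSc' (i - 1) i (i + 1) hp hn) ≪≫ D.homologyIso⟩

/-- Hypercohomology of an object with acyclic cohomology sheaves. -/
theorem nonempty_rGamma_homology [DCoh.HasRΓ X] (G : DCoh.D X) (a : ℤ) [G.IsGE a]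
    (hH : ∀ n, Ac (DCoh.HD G n)) (i : ℤ) :
    Nonempty ((DerivedCategory.homologyFunctor AddCommGrpCat.{u} i).obj ((DCoh.RΓ X).obj G) ≅
      (DCoh.gammaAb X).obj (DCoh.HD G i)) := by
  obtain ⟨K, hK, ⟨eK⟩⟩ := DerivedCategory.exists_iso_Q_obj_of_isGE G a
  haveI := hK
  obtain ⟨I, φ, _, _, _⟩ := CochainComplex.Plus.modelCategoryQuillen.exists_quasiIso_injective K a
  haveI : I.IsKInjective := CochainComplex.isKInjective_of_injective I a
  let e : G ≅ DerivedCategory.Q.obj I := eK ≪≫ asIso (DerivedCategory.Q.map φ)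
  let h : ∀ n, DCoh.HD G n ≅ I.homology n := fun n => (DerivedCategory.homologyFunctor X.Modules n).mapIso e ≪≫
    (DerivedCategory.homologyFunctorFactors X.Modules n).app I
  obtain ⟨c⟩ := nonempty_gamma_homology I a (fun n => ac_injective _) (fun n => ac_of_iso (h n) (hH n)) i
  exact ⟨(DerivedCategory.homologyFunctor AddCommGrpCat.{u} i).mapIso
      ((DCoh.RΓ X).mapIso e ≪≫ (DMV.gammaIso X I).symm) ≪≫
    (DerivedCategory.homologyFunctorFactors AddCommGrpCat.{u} i).app _ ≪≫ c ≪≫ (DCoh.gammaAb X).mapIso (h i).symm⟩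

section Twist

/-- The one-term complex. -/
noncomputable abbrev sgl (M : X.Modules) : CochainComplex X.Modules ℤ :=
  (CochainComplex.singleFunctor X.Modules 0).obj M

theorem preservesHomology_rten {M : X.Modules} (hM : FlatMod.IsFinLocFree M) : (rten M).PreservesHomology := by
  haveI : (rten M).PreservesMonomorphisms := ((isFlat_iff _).2 (isFlat_of_isFinLocFree hM)).right
  haveI : PreservesFiniteColimits (rten M) := PreservesColimitsOfSize.preservesFiniteColimits _
  exact Functor.preservesHomology_of_preservesMonos_and_cokernels _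

/-- Cohomology of the tensor product with a locally free module. -/
theorem nonempty_HD_tensor {M : X.Modules} (hM : FlatMod.IsFinLocFree M) [DCoh.HasLTensorCx (sgl M)]
    (G : DCoh.D X) (i : ℤ) :
    Nonempty (DCoh.HD ((DCoh.LTensorCx (sgl M)).obj G) i ≅ CohB1.tensorMod (DCoh.HD G i) M) := by
  let K := DerivedCategory.Q.objPreimage G
  let eK : DCoh.toD X K ≅ G := DerivedCategory.Q.objObjPreimageIso G
  have hA : IsKFlat (TX X) (sgl M) := (isAdapted_of_isStrictlyPerfect (DPerf.isStrictlyPerfect_single hM)).1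
  obtain ⟨e⟩ := RelPCS8.TensorPerf.nonempty_lt_obj (sgl M) hA K
  haveI := preservesHomology_rten hM
  let L := (rtenX M).obj K
  let t : ((tcx (TX X)).obj (sgl M)).obj K ≅ L :=
    (RHom.commCx K (sgl M)).symm ≪≫ RHom.singleTensorIso (TX X) 0 M K ≪≫
      (shiftFunctorZero' (CochainComplex X.Modules ℤ) (-0 : ℤ) neg_zero).app L
  exact ⟨(DerivedCategory.homologyFunctor X.Modules i).mapIso
      ((DCoh.LTensorCx (sgl M)).mapIso eK.symm ≪≫ e ≪≫ DerivedCategory.Q.mapIso t) ≪≫
    (DerivedCategory.homologyFunctorFactors X.Modules i).app L ≪≫ ShortComplex.mapHomologyIso (K.sc i) (rten M) ≪≫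
    (rten M).mapIso (((DerivedCategory.homologyFunctorFactors X.Modules i).app K).symm ≪≫
      (DerivedCategory.homologyFunctor X.Modules i).mapIso eK)⟩

theorem isZero_of_isZero_tensor {M L : X.Modules} (hL : PicF.IsInvertible L)
    (h : IsZero (CohB1.tensorMod M L)) : IsZero M := by
  obtain ⟨D, -, ⟨e⟩⟩ := M2.exists_inverse hL
  exact ((rten D).map_isZero h).of_iso
    ((M2.tensorRUnit M).symm ≪≫ M2.tensorIso (Iso.refl M) e.symm ≪≫
      (M2.tensorAssoc M L D).symm)

theorem isZero_of_gamma {M : X.Modules} (hg : Curv2.IsGloballyGenerated M)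
    (h : IsZero ((DCoh.gammaAb X).obj M)) : IsZero M := by
  obtain ⟨ι, p, hp⟩ := hg
  haveI := hp
  haveI : Subsingleton ((DCoh.gammaAb X).obj M) := AddCommGrpCat.subsingleton_of_isZero h
  have hp0 : p = 0 := M1.free_hom_ext fun i => @Subsingleton.elim _ this _ _
  rw [IsZero.iff_id_eq_zero, ← cancel_epi p, hp0, zero_comp, zero_comp]

end Twist

/-- Large twists of a bounded coherent object detect its cohomology sheaves. -/
theorem exists_twist {R : Type u} [CommRing R] [IsNoetherianRing R] (q : X ⟶ Spec (CommRingCat.of R)) [IsProper q]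
    [DCoh.HasRΓ X] {L : X.Modules} (hL : CohB1.IsAmple L) (G : DCoh.D X) (a b : ℤ) [G.IsGE a] [G.IsLE b]
    (hc : DCoh.IsCohD G) :
    ∃ n₀ : ℕ, ∀ (n : ℕ) (_ : n₀ ≤ n) (_ : DCoh.HasLTensorCx (sgl (CohB1.tensorPow L n))) (i : ℤ),
      (IsZero ((DerivedCategory.homologyFunctor AddCommGrpCat.{u} i).obj
          ((DCoh.RΓ X).obj ((DCoh.LTensorCx (sgl (CohB1.tensorPow L n))).obj G))) ↔ IsZero (DCoh.HD G i)) := by
  classical
  choose nv hnv using fun j : ↥(Finset.Icc a b) => exists_vanishing_all q hL (hc j.1)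
  choose ng hng using fun j : ↥(Finset.Icc a b) =>
    RA.exists_globallyGenerated hL (DCoh.HD G j.1) (hc j.1).1 (hc j.1).2
  refine ⟨Finset.univ.sup nv ⊔ Finset.univ.sup ng, fun n hn _ i => ?_⟩
  have hinv := Amp.isInvertible_tensorPow hL.1 n
  have hlf := M2.isFinLocFree_of_isInvertible hinv
  let T := (DCoh.LTensorCx (sgl (CohB1.tensorPow L n))).obj G
  have eT : ∀ j, Nonempty (DCoh.HD T j ≅ CohB1.tensorMod (DCoh.HD G j) (CohB1.tensorPow L n)) := fun j =>
    nonempty_HD_tensor hlf G j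
  have hz : ∀ j, j ∉ Finset.Icc a b → IsZero (DCoh.HD G j) := fun j hj => by
    rw [Finset.mem_Icc, not_and_or] at hj
    rcases hj with hj | hj
    · exact DerivedCategory.isZero_of_isGE G a j (by omega)
    · exact DerivedCategory.isZero_of_isLE G b j (by omega)
  have hz' : ∀ j, IsZero (DCoh.HD G j) → IsZero (DCoh.HD T j) := fun j hj =>
    ((rten (CohB1.tensorPow L n)).map_isZero hj).of_iso (eT j).some
  haveI : T.IsGE a := (DerivedCategory.isGE_iff _ _).2 fun j hj => hz' j (DerivedCategory.isZero_of_isGE G a j hj)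
  have hac : ∀ j, Ac (DCoh.HD T j) := fun j => by
    by_cases hj : j ∈ Finset.Icc a b
    · refine ac_of_iso (eT j).some.symm fun p => hnv ⟨j, hj⟩ n ?_ (p + 1) p.succ_pos
      exact (Finset.le_sup (Finset.mem_univ _)).trans (le_sup_left.trans hn)
    · exact ac_of_isZero (hz' j (hz j hj))
  obtain ⟨e⟩ := nonempty_rGamma_homology T a hac i
  refine ⟨fun h => ?_, fun h => ((DCoh.gammaAb X).map_isZero (hz' i h)).of_iso e⟩
  by_cases hi : i ∈ Finset.Icc a b
  · refine isZero_of_isZero_tensor hinv (isZero_of_gamma (hng ⟨i, hi⟩ n ?_)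
      ((h.of_iso e.symm).of_iso ((DCoh.gammaAb X).mapIso (eT i).some.symm)))
    exact (Finset.le_sup (Finset.mem_univ _)).trans (le_sup_right.trans hn)
  · exact hz i hi

/-- The form for an integral transform. -/
theorem exists_transform (k : Type u) [Field k] (X Y : Scheme.{u}) (a₀ : X ⟶ Spec (CommRingCat.of k))
    (b₀ : Y ⟶ Spec (CommRingCat.of k)) [IsProper a₀] [IsProper b₀]
    (P : CochainComplex (pullback a₀ b₀).Modules ℤ) (hP : DCoh.IsPerfect (DCoh.toD (pullback a₀ b₀) P))
    [DCoh.HasLpull (pullback.fst a₀ b₀)] [DCoh.HasLpull (pullback.snd a₀ b₀)] [DCoh.HasLTensorCx P]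
    [DCoh.HasRpush (pullback.fst a₀ b₀)] [DCoh.HasRpush (pullback.snd a₀ b₀)] [DCoh.HasRΓ X]
    (L : Y.Modules) (hL : CohB1.IsAmple L)
    (F : CochainComplex X.Modules ℤ) (hF : DCoh.IsPerfect (DCoh.toD X F)) [DCoh.HasLTensorCx F] :
    ∃ n₀ : ℕ, ∀ n : ℕ, n₀ ≤ n → ∀ i : ℤ,
      (IsZero (DCoh.HD ((FMK.phi a₀ b₀ P).obj (DCoh.toD X F)) i) ↔
        IsZero ((DerivedCategory.homologyFunctor AddCommGrpCat.{u} i).obj ((DCoh.RΓ X).obj
          ((DCoh.LTensorCx F).obj ((DCoh.Lpull (pullback.snd a₀ b₀) ⋙ DCoh.LTensorCx P ⋙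
            DCoh.Rpush (pullback.fst a₀ b₀)).obj (DCoh.inD Y (CohB1.tensorPow L n))))))) := by
  haveI : IsLocallyNoetherian X := LocallyOfFiniteType.isLocallyNoetherian a₀
  haveI : IsLocallyNoetherian Y := LocallyOfFiniteType.isLocallyNoetherian b₀
  haveI : CompactSpace X := QuasiCompact.compactSpace_of_compactSpace a₀
  haveI : CompactSpace Y := QuasiCompact.compactSpace_of_compactSpace b₀
  let Z := pullback a₀ b₀
  let p := pullback.snd a₀ b₀
  haveI : IsLocallyNoetherian Z := LocallyOfFiniteType.isLocallyNoetherian p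
  haveI : CompactSpace Z := QuasiCompact.compactSpace_of_compactSpace p
  haveI : QuasiSeparatedSpace Z := inferInstance
  let E := (DCoh.LTensorCx P).obj ((DCoh.Lpull (pullback.fst a₀ b₀)).obj (DCoh.toD X F))
  have hEp : DCoh.IsPerfect E := by
    obtain ⟨P', ⟨eP⟩, hP'⟩ := DMon9.nonempty_ltensor_iso P
    obtain ⟨t⟩ := hP' ((DCoh.Lpull (pullback.fst a₀ b₀)).obj (DCoh.toD X F))
    haveI := KFlat.Sch.hasLTensorCx P'.obj
    exact DGen9.isPerfect_of_iso (t ≪≫ (DMon9.theta P').app _).symm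
      (isPerfect_lTensor P'.obj P'.property (DGen9.isPerfect_of_iso eP.symm hP) _ (isPerfect_lpull _ hF))
  obtain ⟨c, hc'⟩ := DPerf.exists_isGE_of_perfect hEp
  obtain ⟨d, hd'⟩ := DPerf.exists_isLE_of_pseudoCoherent (DGen9.isPseudoCoherentD_of_isPerfect hEp 0)
  haveI := hc'
  haveI := hd'
  have hEc : DCoh.IsCohD E := fun i => DPerf.isCoh_HD_of_pseudoCoherent (DGen9.isPseudoCoherentD_of_isPerfect hEp i)
    (DGen9.isQCohD_of_isPerfect hEp i) le_rfl
  have hs : ∀ i : ℤ, ClSub.IsProperOver p (CohB1.support (DCoh.HD E i)) := fun i => by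
    let T : Set Z := CohB1.support (DCoh.HD E i)
    let I := Scheme.IdealSheafData.vanishingIdeal (⟨T, M1.isClosed_support (hEc i).2⟩ : TopologicalSpace.Closeds Z)
    haveI : IsProper (I.subschemeι ≫ p) := inferInstance
    refine LimH13.isProperOver_of_isProper p I.subschemeι ?_
    rw [Scheme.IdealSheafData.range_subschemeι, Scheme.IdealSheafData.coe_support_vanishingIdeal]
    rfl
  let G := (DCoh.Rpush p).obj E
  have hGc : DCoh.IsCohD G := DPush9.isCohD_rpush p E c inferInstance hEc hs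
  haveI : G.IsGE c := DPush.isGE_rpush p E c inferInstance
  obtain ⟨b', hb'⟩ := DPush9.exists_isLE_rpush p E c d inferInstance inferInstance hEc hs
  haveI := hb'
  haveI : DCoh.HasRΓ Y := KInjLib.hasRightDerivedFunctor KInjLib.enoughKInj_of_grothendieck _
  obtain ⟨n₀, hn₀⟩ := exists_twist b₀ hL G c b' hGc
  refine ⟨n₀, fun n hn i => ?_⟩
  haveI := KFlat.Sch.hasLTensorCx (sgl (CohB1.tensorPow L n))
  let eL : DCoh.inD Y (CohB1.tensorPow L n) ≅ DCoh.toD Y (sgl (CohB1.tensorPow L n)) :=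
    (DerivedCategory.singleFunctorIsoCompQ _ 0).app _
  have hLp : DCoh.IsPerfect (DCoh.toD Y (sgl (CohB1.tensorPow L n))) := DGen9.ResP.isPerfect_toD
    (DPerf.isStrictlyPerfect_single (M2.isFinLocFree_of_isInvertible (Amp.isInvertible_tensorPow hL.1 n)))
  obtain ⟨e⟩ := FMSwap.nonempty_swap (pullback.fst a₀ b₀) (pullback.snd a₀ b₀) P F hF _ hLp
  refine (hn₀ n hn inferInstance i).symm.trans ?_
  exact Iff.symm ((DerivedCategory.homologyFunctor AddCommGrpCat.{u} i).mapIso
    ((DCoh.RΓ X).mapIso ((DCoh.LTensorCx F).mapIso ((DCoh.Lpull (pullback.snd a₀ b₀) ⋙ DCoh.LTensorCx P ⋙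
      DCoh.Rpush (pullback.fst a₀ b₀)).mapIso eL)) ≪≫ e)).isZero_iff

end Groth.Agent.Exact8.FMVanish
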