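import Groth.Agent.Lib.Exact8.TorIndTA
import Groth.Agent.Lib.RelPCS8.PerfAtIff
import Groth.Agent.Lib.RelPCS8.CompPC
import Groth.Agent.Lib.RelPCS8.LocPerf
import Groth.Agent.Lib.DQC.Affine
import Groth.Agent.S1483

/-! Relative perfection by fibres. -/

set_option autoImplicit false
set_option linter.style.haveILetI false
set_option linter.unusedSectionVars false
set_option backward.isDefEq.respectTransparency false
set_option maxHeartbeats 1000000

universe u

open CategoryTheory CategoryTheory.Limits AlgebraicGeometry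
open scoped TensorProduct

attribute [local instance] HasDerivedCategory.standard

namespace Groth.Agent.Exact8.FibreAmp

open DBaseChange RelPCS8

section Ring

variable {R A : Type u} [CommRing R] [CommRing A]

theorem torAmp_restrict_flat (φ : R →+* A) (hφ : φ.Flat) {K : Dual.D A} {a b : ℤ}
    (h : DRing.HasTorAmplitudeIn A a b K) : DRing.HasTorAmplitudeIn R a b ((DRing.restrictD φ).obj K) := by
  obtain ⟨E, hv, hf, ⟨e⟩⟩ := h
  exact ⟨(DRing.restrictCx φ).obj E, fun i hi => (ModuleCat.restrictScalars.{u} φ).map_isZero (hv i hi),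
    fun i => haveI := hf i; flat_res φ hφ (E.X i),
    ⟨((ModuleCat.restrictScalars.{u} φ).mapDerivedCategoryFactors.app E).symm ≪≫ (DRing.restrictD φ).mapIso e⟩⟩

theorem torAmp_lBase {B : Type u} [CommRing B] (φ : A →+* B) [DRing.HasLBaseChange φ] {K : Dual.D A} {a b : ℤ}
    (h : DRing.HasTorAmplitudeIn A a b K) : DRing.HasTorAmplitudeIn B a b ((DRing.LBaseChange φ).obj K) := by
  obtain ⟨E, hv, hf, ⟨e⟩⟩ := h
  haveI := ((DMod.vanishesOutside_iff E a b).1 hv).2
  exact ⟨(extCx φ).obj E, fun i hi => (ModuleCat.extendScalars.{u, u, u} φ).map_isZero (hv i hi),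
    fun i => haveI := hf i; flat_ext_of_flat φ (E.X i),
    ⟨(valueIso φ E (adapted_of_flat E b hf)).symm ≪≫ (DRing.LBaseChange φ).mapIso e⟩⟩

/-- Base change to the fibre over `R` preserves acyclicity of `R`-flat complexes. -/
theorem relExact_fibre (φ : R →+* A) (J : Ideal R) : RelExact φ (Ideal.Quotient.mk (J.map φ)) := by
  intro L b hb hf hL
  haveI := hb
  let σ : R →+* R ⧸ J := Ideal.Quotient.mk J
  let π : A →+* A ⧸ J.map φ := Ideal.Quotient.mk (J.map φ)
  let τ : R ⧸ J →+* A ⧸ J.map φ := Ideal.quotientMap (J.map φ) φ Ideal.le_comap_map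
  letI := σ.toAlgebra
  letI := φ.toAlgebra
  letI : Algebra R (A ⧸ J.map φ) := (π.comp φ).toAlgebra
  let τA : (R ⧸ J) →ₐ[R] (A ⧸ J.map φ) := { τ with commutes' := fun _ => rfl }
  let πA : A →ₐ[R] (A ⧸ J.map φ) := { π with commutes' := fun _ => rfl }
  let ρA := Algebra.TensorProduct.lift τA πA fun _ _ => Commute.all _ _
  let ρ : BC σ φ →+* A ⧸ J.map φ := ρA.toRingHom
  have h2 : ρ.comp (inclR σ φ) = π := RingHom.ext fun r => by
    change ρA (1 ⊗ₜ r) = π r
    rw [Algebra.TensorProduct.lift_tmul, map_one, one_mul]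
    rfl
  have hker : ∀ r ∈ J.map φ, inclR σ φ r = 0 := by
    show J.map φ ≤ RingHom.ker (inclR σ φ)
    rw [Ideal.map_le_iff_le_comap]
    intro r hr
    show ((1 : R ⧸ J) ⊗ₜ[R] (algebraMap R A r)) = 0
    rw [Algebra.algebraMap_eq_smul_one, TensorProduct.tmul_smul, TensorProduct.smul_tmul',
      ← Algebra.algebraMap_eq_smul_one, show algebraMap R (R ⧸ J) r = 0 from
        Ideal.Quotient.eq_zero_iff_mem.2 hr, TensorProduct.zero_tmul]
  have hbij : Function.Bijective ρ := by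
    have hinv : (Ideal.Quotient.lift (J.map φ) (inclR σ φ) hker).comp ρ = RingHom.id _ := by
      refine RingHom.ext fun z => ?_
      induction z using TensorProduct.induction_on with
      | zero => simp
      | tmul s x =>
        obtain ⟨r, rfl⟩ := Ideal.Quotient.mk_surjective s
        show Ideal.Quotient.lift (J.map φ) (inclR σ φ) hker (ρA (Ideal.Quotient.mk J r ⊗ₜ x)) = _
        rw [Algebra.TensorProduct.lift_tmul]
        show Ideal.Quotient.lift (J.map φ) (inclR σ φ) hker (π (φ r) * π x) = _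
        rw [← map_mul, Ideal.Quotient.lift_mk]
        show ((1 : R ⧸ J) ⊗ₜ[R] (algebraMap R A r * x)) = (algebraMap R (R ⧸ J) r) ⊗ₜ[R] x
        rw [← Algebra.smul_def, TensorProduct.tmul_smul, TensorProduct.smul_tmul',
          ← Algebra.algebraMap_eq_smul_one]
      | add x y hx hy => simp only [map_add, hx, hy]
    refine ⟨Function.LeftInverse.injective (RingHom.congr_fun hinv), fun z => ?_⟩
    obtain ⟨x, rfl⟩ := Ideal.Quotient.mk_surjective z
    exact ⟨inclR σ φ x, RingHom.congr_fun h2 x⟩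
  exact acyclic_bc σ φ ρ (RingHom.Flat.of_bijective hbij) π h2 L b hf hL

/-- The bottom term is flat over the base and on the fibre. -/
theorem flat_bottom_fibre (φ : R →+* A) (hφ : φ.Flat) (J : Ideal R) [DRing.HasLBaseChange (Ideal.Quotient.mk (J.map φ))]
    (G : DRing.Cx A) {a b B : ℤ} [G.IsStrictlyGE a] [G.IsStrictlyLE B]
    (hflat : ∀ i, a < i → Module.Flat A (G.X i))
    (hR : DRing.HasTorAmplitudeIn R a b (DRing.toD ((DRing.restrictCx φ).obj G)))
    (hfib : DRing.HasTorAmplitudeIn (A ⧸ J.map φ) a b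
      ((DRing.LBaseChange (Ideal.Quotient.mk (J.map φ))).obj (DRing.toD G))) :
    Module.Flat R ((ModuleCat.restrictScalars.{u} φ).obj (G.X a)) ∧
      Module.Flat (A ⧸ J.map φ) ((ModuleCat.extendScalars.{u, u, u} (Ideal.Quotient.mk (J.map φ))).obj (G.X a)) := by
  let π := Ideal.Quotient.mk (J.map φ)
  let G₀ := (DRing.restrictCx φ).obj G
  haveI : CochainComplex.IsStrictlyGE G₀ a := (CochainComplex.isStrictlyGE_iff _ a).2 fun i hi =>
    (ModuleCat.restrictScalars.{u} φ).map_isZero (G.isZero_of_isStrictlyGE a i hi)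
  haveI : CochainComplex.IsStrictlyLE G₀ B := (CochainComplex.isStrictlyLE_iff _ B).2 fun i hi =>
    (ModuleCat.restrictScalars.{u} φ).map_isZero (G.isZero_of_isStrictlyLE B i hi)
  have hbot : Module.Flat R (G₀.X a) :=
    PerfPC.flat_bottom (B := B) G₀ (fun i hi => haveI := hflat i hi; flat_res φ hφ (G.X i)) le_rfl hR
  refine ⟨hbot, ?_⟩
  have hGR : ∀ i, Module.Flat R ((ModuleCat.restrictScalars.{u} φ).obj (G.X i)) := fun i => by
    rcases lt_trichotomy i a with hi | hi | hi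
    · haveI := ModuleCat.subsingleton_of_isZero (G₀.isZero_of_isStrictlyGE a i hi)
      exact (inferInstance : Module.Flat R (G₀.X i))
    · subst hi; exact hbot
    · haveI := hflat i hi; exact flat_res φ hφ (G.X i)
  haveI : (DRing.toD G).IsLE B := (DerivedCategory.isLE_Q_obj_iff _ _).2 inferInstance
  obtain ⟨F, hFb, hF, ⟨α⟩⟩ := DMod.exists_free_resolution (DRing.toD G) B
  haveI := hFb
  haveI := fun i => hF i
  obtain ⟨u⟩ := nonempty_ext_iso_relExact hφ (relExact_fibre φ J) B (fun i => flat_res φ hφ (F.X i)) hGR α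
  have hG' : DRing.HasTorAmplitudeIn (A ⧸ J.map φ) a b (DRing.toD ((extCx π).obj G)) :=
    hasTorAmplitudeIn_of_iso ((DRing.LBaseChange π).mapIso α.symm ≪≫
      valueIso π F (adapted_of_flat F B (flat_of_free hF)) ≪≫ u) hfib
  haveI : CochainComplex.IsStrictlyGE ((extCx π).obj G) a := (CochainComplex.isStrictlyGE_iff _ a).2 fun i hi =>
    (ModuleCat.extendScalars.{u, u, u} π).map_isZero (G.isZero_of_isStrictlyGE a i hi)
  haveI : CochainComplex.IsStrictlyLE ((extCx π).obj G) B := (CochainComplex.isStrictlyLE_iff _ B).2 fun i hi =>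
    (ModuleCat.extendScalars.{u, u, u} π).map_isZero (G.isZero_of_isStrictlyLE B i hi)
  exact PerfPC.flat_bottom (B := B) ((extCx π).obj G)
    (fun i hi => haveI := hflat i hi; flat_ext_of_flat π (G.X i)) le_rfl hG'

theorem flat_quot_of_ext (I : Ideal A) (M : ModuleCat.{u} A)
    (h : Module.Flat (A ⧸ I) ((ModuleCat.extendScalars.{u, u, u} (Ideal.Quotient.mk I)).obj M)) :
    Module.Flat (A ⧸ I) (M ⧸ I • (⊤ : Submodule A M)) := by
  have h' : Module.Flat (A ⧸ I) ((A ⧸ I) ⊗[A] M) := h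
  haveI := h'
  let e : ((A ⧸ I) ⊗[A] M) ≃ₗ[A ⧸ I] M ⧸ I • (⊤ : Submodule A M) :=
    { TensorProduct.quotTensorEquivQuotSMul M I with
      map_smul' := fun r x => by
        obtain ⟨r, rfl⟩ := Ideal.Quotient.mk_surjective r
        show TensorProduct.quotTensorEquivQuotSMul M I (Ideal.Quotient.mk I r • x) =
          Ideal.Quotient.mk I r • TensorProduct.quotTensorEquivQuotSMul M I x
        rw [← Ideal.Quotient.algebraMap_eq, algebraMap_smul, algebraMap_smul, map_smul] }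
  exact Module.Flat.of_linearEquiv e.symm

end Ring

variable {X Y S : Scheme.{u}}

/-- The ideal of the fibre at a point. -/
noncomputable abbrev mI (g : Y ⟶ S) (y : Y) : Ideal (Y.presheaf.stalk y) :=
  Ideal.map (g.stalkMap y).hom (IsLocalRing.maximalIdeal (S.presheaf.stalk (g.base y)))

/-- The amplitude on the fibre at a point. -/
def FibreAmpAt (q : X ⟶ Y) (g : Y ⟶ S) (a b : ℤ) (F : CochainComplex X.Modules ℤ) (x : X) : Prop :=
  haveI := DQC.hasLBaseChange (Ideal.Quotient.mk (mI g (q.base x)))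
  DRing.HasTorAmplitudeIn (Y.presheaf.stalk (q.base x) ⧸ mI g (q.base x)) a b
    ((DRing.LBaseChange (Ideal.Quotient.mk (mI g (q.base x)))).obj (DRing.toD ((DerSch.stalkCxOver q x).obj F)))

theorem fibreAmpAt_restrict_iff (q : X ⟶ Y) (g : Y ⟶ S) (U : X.Opens) (z : (U : Scheme.{u})) (a b : ℤ)
    (F : CochainComplex X.Modules ℤ) :
    FibreAmpAt (U.ι ≫ q) g a b ((DCoh.restrictCx U).obj F) z ↔ FibreAmpAt q g a b F (U.ι.base z) := by
  let r := ModuleCat.restrictScalars.{u} (q.stalkMap (U.ι.base z)).hom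
  haveI := DQC.hasLBaseChange (Ideal.Quotient.mk (mI g (q.base (U.ι.base z))))
  have i : (DerSch.stalkCxOver (U.ι ≫ q) z).obj ((DCoh.restrictCx U).obj F) ≅ (DerSch.stalkCxOver q (U.ι.base z)).obj F :=
    (NatIso.mapHomologicalComplex (Functor.isoWhiskerLeft (Scheme.Modules.restrictFunctor U.ι) (StalkTor.stalkCompIso U.ι q z) ≪≫
      (Functor.associator _ _ r).symm ≪≫ Functor.isoWhiskerRight (RestrictStalk.restrictStalkOverIso U z) r) (ComplexShape.up ℤ)).app F
  exact ⟨hasTorAmplitudeIn_of_iso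
      ((DRing.LBaseChange (Ideal.Quotient.mk (mI g (q.base (U.ι.base z))))).mapIso (DerivedCategory.Q.mapIso i)),
    hasTorAmplitudeIn_of_iso
      ((DRing.LBaseChange (Ideal.Quotient.mk (mI g (q.base (U.ι.base z))))).mapIso (DerivedCategory.Q.mapIso i).symm)⟩

theorem fibreAmpAt_push_iff {T : Scheme.{u}} (i : X ⟶ T) [IsClosedImmersion i] (q : T ⟶ Y) (g : Y ⟶ S) (z : X) (a b : ℤ)
    (F : CochainComplex X.Modules ℤ) :
    FibreAmpAt q g a b (((Scheme.Modules.pushforward i).mapHomologicalComplex (ComplexShape.up ℤ)).obj F) (i.base z) ↔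
      FibreAmpAt (i ≫ q) g a b F z := by
  let r := ModuleCat.restrictScalars.{u} (q.stalkMap (i.base z)).hom
  haveI := DQC.hasLBaseChange (Ideal.Quotient.mk (mI g (q.base (i.base z))))
  have e : (DerSch.stalkCxOver q (i.base z)).obj
      (((Scheme.Modules.pushforward i).mapHomologicalComplex (ComplexShape.up ℤ)).obj F) ≅ (DerSch.stalkCxOver (i ≫ q) z).obj F :=
    (NatIso.mapHomologicalComplex (Functor.isoWhiskerRight (ClosedPerf.stalkPushOverIso i z) r ≪≫
      (StalkTor.stalkCompIso i q z).symm) (ComplexShape.up ℤ)).app F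
  exact ⟨hasTorAmplitudeIn_of_iso
      ((DRing.LBaseChange (Ideal.Quotient.mk (mI g (q.base (i.base z))))).mapIso (DerivedCategory.Q.mapIso e)),
    hasTorAmplitudeIn_of_iso
      ((DRing.LBaseChange (Ideal.Quotient.mk (mI g (q.base (i.base z))))).mapIso (DerivedCategory.Q.mapIso e).symm)⟩

open DPerf RelPCS8.PerfAt in
/-- The criterion over a flat base of finite presentation. -/
theorem torAmpAt_of_fibre {T : Scheme.{u}} (q : T ⟶ Y) [Flat q] [LocallyOfFinitePresentation q]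
    (g : Y ⟶ S) [Flat g] [LocallyOfFinitePresentation g] (F : CochainComplex T.Modules ℤ) (a b : ℤ)
    [(DCoh.toD T F).IsGE a] [(DCoh.toD T F).IsLE b]
    (hpc : Approx (Set.Ici (a - 1)) (DCoh.toD T F)) (x : T)
    (hS : DerSch.HasTorAmplitudeAt (q ≫ g) a b F x) (hfib : FibreAmpAt q g a b F x) :
    DerSch.HasTorAmplitudeAt q a b F x := by
  obtain ⟨W, hxW, P, hP, ⟨e⟩⟩ := exists_trunc_model F a hpc x
  obtain ⟨⟨p₀, p₁, hv⟩, hf⟩ := hP
  let EW := P.truncGE a
  let w : (W : Scheme.{u}) := ⟨x, hxW⟩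
  let q' := W.ι ≫ q
  haveI : Flat q' := inferInstance
  haveI : LocallyOfFinitePresentation q' := inferInstance
  haveI : LocallyOfFinitePresentation (q' ≫ g) := inferInstance
  let φR := (g.stalkMap (q'.base w)).hom
  have hφR : φR.Flat := Flat.stalkMap g (q'.base w)
  have htop : ∀ i, max a p₁ < i → IsZero (EW.X i) := fun i hi =>
    (hv i (Or.inr (by omega))).of_iso (CochainComplex.truncGEXIso P a i (by omega))
  have hXi : ∀ i, a < i → FlatMod.IsFinLocFree (EW.X i) := fun i hi =>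
    M2.isFinLocFree_of_iso (CochainComplex.truncGEXIso P a i hi).symm (hf i)
  let eb : EW.X a ≅ cokernel (P.d (a - 1) a) := CochainComplex.truncGEXIsoOpcycles P a ≪≫
    (P.opcyclesIsCokernel (a - 1) a (by simp)).coconePointUniqueUpToIso (colimit.isColimit _)
  have h1 := M1.isFP_of_isFinLocFree (hf (a - 1))
  have hFP : CohB1.IsFP (cokernel (P.d (a - 1) a)) :=
    isFP_cokernel (M1.isFP_isQCoh h1) (M1.isFP_isFT h1) (M1.isFP_of_isFinLocFree (hf a)) _
  let C := cokernel (P.d (a - 1) a)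
  have hflatAbove : ∀ i, a < i → FlatMod.IsFlatOver q' (EW.X i) := fun i hi =>
    isFlatOver_of_isFlat q' (KFlat.Sch.isFlat_of_isFinLocFree (hXi i hi))
  let G := (DerSch.stalkCxOver q' w).obj EW
  haveI := (StalkId.preservesFiniteLimits_stalkOver q' w).1
  haveI := (StalkId.preservesFiniteLimits_stalkOver q' w).2
  let eG : DRing.toD G ≅ DRing.toD ((DerSch.stalkCxOver q' w).obj ((DCoh.restrictCx W).obj F)) :=
    StalkId.stalkToDIso w q' e
  haveI : CochainComplex.IsStrictlyGE G a := (CochainComplex.isStrictlyGE_iff _ a).2 fun i hi =>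
    (DerSch.stalkOver q' w).map_isZero (EW.isZero_of_isStrictlyGE a i hi)
  haveI : CochainComplex.IsStrictlyLE G (max a p₁) := (CochainComplex.isStrictlyLE_iff _ _).2 fun i hi =>
    (DerSch.stalkOver q' w).map_isZero (htop i hi)
  have hR : DRing.HasTorAmplitudeIn _ a b (DRing.toD ((DRing.restrictCx φR).obj G)) := by
    have h2 := (RestrictStalk.torAmplitudeAt_restrict_iff (q ≫ g) W w a b F).2 hS
    rw [← Category.assoc] at h2
    exact hasTorAmplitudeIn_of_iso (DerivedCategory.Q.mapIso ((StalkTor.stalkCxCompIso q' g w).app _) ≪≫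
      ((ModuleCat.restrictScalars.{u} φR).mapDerivedCategoryFactors.app _).symm ≪≫
      (DRing.restrictD φR).mapIso eG.symm ≪≫ (ModuleCat.restrictScalars.{u} φR).mapDerivedCategoryFactors.app G) h2
  haveI := DQC.hasLBaseChange (Ideal.Quotient.mk (mI g (q'.base w)))
  have hF' : DRing.HasTorAmplitudeIn _ a b
      ((DRing.LBaseChange (Ideal.Quotient.mk (mI g (q'.base w)))).obj (DRing.toD G)) :=
    hasTorAmplitudeIn_of_iso ((DRing.LBaseChange (Ideal.Quotient.mk (mI g (q'.base w)))).mapIso eG.symm)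
      ((fibreAmpAt_restrict_iff q g W w a b F).2 hfib)
  obtain ⟨hCR, hCI⟩ := flat_bottom_fibre φR hφR (IsLocalRing.maximalIdeal _) (B := max a p₁) G
    (fun i hi => hflatAbove i hi w) hR hF'
  haveI : Coh.IsQCoh C := M1.isFP_isQCoh hFP
  let Cw := (DerSch.stalkOver q' w).obj C
  let ec : G.X a ≅ Cw := (DerSch.stalkOver q' w).mapIso eb
  have hC : FlatMod.IsFlatOverAt q' C w := by
    rcases subsingleton_or_nontrivial ↑(C.presheaf.stalk w) with hs | hn
    · haveI : Subsingleton Cw := hs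
      exact (inferInstance : Module.Flat (Y.presheaf.stalk (q'.base w)) Cw)
    · have hRC : FlatMod.IsFlatOverAt (q' ≫ g) C w :=
        StalkId.flat_of_iso ((ModuleCat.restrictScalars.{u} φR).mapIso ec ≪≫
          ((StalkTor.stalkCompIso q' g w).app C).symm) hCR
      have hIC := flat_quot_of_ext (mI g (q'.base w)) Cw
        (StalkId.flat_of_iso ((ModuleCat.extendScalars.{u, u, u} (Ideal.Quotient.mk (mI g (q'.base w)))).mapIso ec) hCI)
      exact ((Groth.Agent.S1483.result q' g C inferInstance hFP w hn).1 ⟨hRC, hIC⟩).2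
  haveI := isLE_stalk (f := q) (F := F) (b := b) x
  refine TorBal.amplitude_shrink b ((RestrictStalk.torAmplitudeAt_restrict_iff q W w a (max a p₁) F).1
    (StalkTor.hasTorAmplitudeIn_congr eG ⟨G, fun i hi => ?_, fun i => ?_, ⟨Iso.refl _⟩⟩))
  · rcases hi with hi | hi
    · exact G.isZero_of_isStrictlyGE a i hi
    · exact G.isZero_of_isStrictlyLE (max a p₁) i hi
  · rcases lt_trichotomy i a with hi | hi | hi
    · haveI := ModuleCat.subsingleton_of_isZero (G.isZero_of_isStrictlyGE a i hi)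
      exact (inferInstance : Module.Flat (Y.presheaf.stalk (q'.base w)) (G.X i))
    · subst hi; exact StalkId.flat_of_iso ec.symm hC
    · exact hflatAbove i hi w

open DPerf RelPCS8.PerfAt in
/-- Amplitude relative to the factor from amplitude over the base and on the fibre. -/
theorem torAmpAt_factor (f : X ⟶ Y) (g : Y ⟶ S) [LocallyOfFiniteType f] [Flat g] [LocallyOfFinitePresentation g]
    (F : CochainComplex X.Modules ℤ) (a b : ℤ) (x : X) (U₀ : X.Opens) (hxU₀ : x ∈ U₀)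
    (hpc : DerSch.IsPseudoCoherentRel (U₀.ι ≫ f) (a - 1) (DCoh.toD (U₀ : Scheme.{u}) ((DCoh.restrictCx U₀).obj F)))
    (hz : ∀ i : ℤ, i < a ∨ b < i → IsZero (DCoh.HD (DCoh.toD (U₀ : Scheme.{u}) ((DCoh.restrictCx U₀).obj F)) i))
    (hS : DerSch.HasTorAmplitudeAt (f ≫ g) a b F x) (hfib : FibreAmpAt f g a b F x) :
    DerSch.HasTorAmplitudeAt f a b F x := by
  obtain ⟨_, ⟨V, hV, rfl⟩, hxV, -⟩ :=
    Y.isBasis_affineOpens.exists_subset_of_mem_open (Set.mem_univ (f x)) isOpen_univ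
  obtain ⟨U₁, hU₁, hxU₁, hU₁le⟩ : ∃ U₁ : X.Opens, IsAffineOpen U₁ ∧ x ∈ U₁ ∧ U₁ ≤ U₀ ⊓ f ⁻¹ᵁ V :=
    TopologicalSpace.Opens.isBasis_iff_nbhd.1 X.isBasis_affineOpens
      (show x ∈ U₀ ⊓ f ⁻¹ᵁ V from ⟨hxU₀, hxV⟩)
  have hU₁0 : U₁ ≤ U₀ := hU₁le.trans inf_le_left
  have hle : U₁ ≤ f ⁻¹ᵁ V := hU₁le.trans inf_le_right
  obtain ⟨n, φ, hφ⟩ := exists_chart_of_lft (f := f) hU₁ hV hle
  let i := imm U₁ φ
  haveI : IsClosedImmersion i := isClosedImmersion_imm hU₁ φ hφ.1
  let c : CommRingCat.of Γ(Y, V) ⟶ CommRingCat.of (MvPolynomial (Fin n) Γ(Y, V)) := CommRingCat.ofHom MvPolynomial.C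
  let q : Spec (CommRingCat.of (MvPolynomial (Fin n) Γ(Y, V))) ⟶ Y := Spec.map c ≫ hV.fromSpec
  haveI : Flat (Spec.map c) := by
    rw [HasRingHomProperty.Spec_iff (P := @Flat)]
    exact RingHom.flat_algebraMap_iff.2 (inferInstance : Module.Flat Γ(Y, V) (MvPolynomial (Fin n) Γ(Y, V)))
  haveI : LocallyOfFinitePresentation (Spec.map c) := by
    rw [HasRingHomProperty.Spec_iff (P := @LocallyOfFinitePresentation)]
    exact RingHom.finitePresentation_algebraMap.2 inferInstance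
  haveI : Flat q := inferInstance
  haveI : LocallyOfFinitePresentation q := inferInstance
  have hiq : i ≫ q = U₁.ι ≫ f := by
    show (U₁.toSpecΓ ≫ Spec.map (CommRingCat.ofHom φ)) ≫ Spec.map c ≫ hV.fromSpec = _
    rw [Category.assoc, ← Spec.map_comp_assoc]
    have hc : c ≫ CommRingCat.ofHom φ = f.appLE V U₁ hle := CommRingCat.hom_ext hφ.2
    rw [hc, IsAffineOpen.SpecMap_appLE_fromSpec f hV hU₁ hle, ← Category.assoc, IsAffineOpen.toSpecΓ_fromSpec]
  let F₁ := (DCoh.restrictCx U₁).obj F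
  let j := X.homOfLE hU₁0
  let e₁ : DCoh.toD (U₁ : Scheme.{u}) F₁ ≅ (resD j).obj (DCoh.toD (U₀ : Scheme.{u}) ((DCoh.restrictCx U₀).obj F)) :=
    ((resFac U₁.ι).app F).symm ≪≫ (resDCongr (X.homOfLE_ι hU₁0).symm).app _ ≪≫
      ((resDComp U₀.ι j).app _).symm ≪≫ (resD j).mapIso ((resFac U₀.ι).app F)
  have hpc₁ : DerSch.IsPseudoCoherentRel (i ≫ q) (a - 1) (DCoh.toD (U₁ : Scheme.{u}) F₁) := by
    have h := rel_res j hpc
    rw [← Category.assoc, X.homOfLE_ι hU₁0] at h
    rw [hiq]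
    exact rel_of_iso e₁.symm h
  let E₀ := ((Scheme.Modules.pushforward i).mapHomologicalComplex (ComplexShape.up ℤ)).obj F₁
  let e₀ : (pushD i).obj (DCoh.toD (U₁ : Scheme.{u}) F₁) ≅ DCoh.toD _ E₀ := (pushFac i).app F₁
  have hz₀ : ∀ k : ℤ, k < a ∨ b < k → IsZero (DCoh.HD (DCoh.toD _ E₀) k) := fun k hk =>
    (KFlat.Sch.isZero_HD_iff_of_iso e₀ k).1 ((isZero_HD_push_iff i _ k).2 ((KFlat.Sch.isZero_HD_iff_of_iso e₁ k).2
      (((Scheme.Modules.restrictFunctor j).map_isZero (hz k hk)).of_iso (hdResIso j _ k))))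
  haveI : (DCoh.toD _ E₀).IsGE a := (DerivedCategory.isGE_iff _ a).2 fun k hk => hz₀ k (Or.inl hk)
  haveI : (DCoh.toD _ E₀).IsLE b := (DerivedCategory.isLE_iff _ b).2 fun k hk => hz₀ k (Or.inr hk)
  have hpc₀ : Approx (Set.Ici (a - 1)) (DCoh.toD _ E₀) :=
    approx_of_isPseudoCoherentD ((rel_iff_pc (fun m => nPseudoCoherent_of_flat m) (a - 1) _).1
      (rel_of_iso e₀ ((rel_closed_iff (i := i) (q := q) (a - 1) _).1 hpc₁)))
  let z : (U₁ : Scheme.{u}) := ⟨x, hxU₁⟩
  have hS₀ : DerSch.HasTorAmplitudeAt (q ≫ g) a b E₀ (i.base z) := by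
    refine (LocPerf.torAmplitudeAt_push_iff i (q ≫ g) z a b F₁).2 ?_
    rw [← Category.assoc, hiq, Category.assoc]
    exact (RestrictStalk.torAmplitudeAt_restrict_iff (f ≫ g) U₁ z a b F).2 hS
  have hF₀ : FibreAmpAt q g a b E₀ (i.base z) := by
    refine (fibreAmpAt_push_iff i q g z a b F₁).2 ?_
    rw [hiq]
    exact (fibreAmpAt_restrict_iff f g U₁ z a b F).2 hfib
  have h := (LocPerf.torAmplitudeAt_push_iff i q z a b F₁).1 (torAmpAt_of_fibre q g E₀ a b hpc₀ (i.base z) hS₀ hF₀)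
  rw [hiq] at h
  exact (RestrictStalk.torAmplitudeAt_restrict_iff f U₁ z a b F).1 h

/-- Relative perfection near a point by the fibre. -/
theorem perfAmplitudeRel_nhd_iff_fibre {h : X ⟶ S} (f : X ⟶ Y) (g : Y ⟶ S) (w : f ≫ g = h) [LocallyOfFiniteType f]
    [Flat g] [LocallyOfFinitePresentation g] (F : CochainComplex X.Modules ℤ) (a b : ℤ) (x : X) :
    ((∃ U : X.Opens, x ∈ U ∧ DerSch.HasPerfAmplitudeRel (U.ι ≫ h) a b ((DCoh.restrictCx U).obj F)) ∧
        FibreAmpAt f g a b F x) ↔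
      ∃ U : X.Opens, x ∈ U ∧ DerSch.HasPerfAmplitudeRel (U.ι ≫ f) a b ((DCoh.restrictCx U).obj F) := by
  subst w
  haveI : LocallyOfFiniteType (f ≫ g) := inferInstance
  have hrel : ∀ (U : X.Opens) (m : ℤ) (K : DCoh.D (U : Scheme.{u})),
      DerSch.IsPseudoCoherentRel (U.ι ≫ f ≫ g) m K ↔ DerSch.IsPseudoCoherentRel (U.ι ≫ f) m K := fun U m K => by
    rw [← Category.assoc]
    exact CompPC.rel_comp_iff (U.ι ≫ f) g (fun n => nPseudoCoherent_of_flat n) m K
  constructor
  · rintro ⟨hU, hfib⟩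
    obtain ⟨⟨U, hxU, hpc, hz⟩, hamp⟩ := (PerfAt.perfAmplitudeRel_nhd_iff (f ≫ g) F a b x).1 hU
    exact (PerfAt.perfAmplitudeRel_nhd_iff f F a b x).2 ⟨⟨U, hxU, (hrel U _ _).1 hpc, hz⟩,
      torAmpAt_factor f g F a b x U hxU ((hrel U _ _).1 hpc) hz hamp hfib⟩
  · intro hU
    obtain ⟨⟨U, hxU, hpc, hz⟩, hamp⟩ := (PerfAt.perfAmplitudeRel_nhd_iff f F a b x).1 hU
    refine ⟨(PerfAt.perfAmplitudeRel_nhd_iff (f ≫ g) F a b x).2 ⟨⟨U, hxU, (hrel U _ _).2 hpc, hz⟩, ?_⟩, ?_⟩
    · exact hasTorAmplitudeIn_of_iso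
        (((ModuleCat.restrictScalars.{u} (g.stalkMap (f.base x)).hom).mapDerivedCategoryFactors.app _) ≪≫
          DerivedCategory.Q.mapIso ((StalkTor.stalkCxCompIso f g x).app F).symm)
        (torAmp_restrict_flat _ (Flat.stalkMap g (f.base x)) hamp)
    · haveI := DQC.hasLBaseChange (Ideal.Quotient.mk (mI g (f.base x)))
      exact torAmp_lBase _ hamp

end Groth.Agent.Exact8.FibreAmp
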