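import Mathlib
import Groth.Agent.Lib.DPush.QCoh
import Groth.Agent.Lib.RelPCS8.TorRpush
import Groth.Agent.Lib.ProjSpace.Basic

/-!
# Cohomological dimension of projective space over an affine base
-/

set_option autoImplicit false
set_option backward.isDefEq.respectTransparency false
set_option backward.isDefEq.respectTransparency.types false
set_option linter.style.haveILetI false
universe u
open CategoryTheory CategoryTheory.Limits AlgebraicGeometry TopologicalSpace Pretriangulated ZeroObject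
attribute [local instance] HasDerivedCategory.standard

namespace Groth.Agent.Exact8

variable {X S : Scheme.{u}}

/-- A higher direct image of a module vanishes when its cohomology over the preimages of basic opens does. -/
theorem isZero_hd_rpush_inD_of_hc [IsAffine S] (f : X ⟶ S) [DCoh.HasRpush f] (M : X.Modules) (p : ℕ)
    (h : ∀ g : Γ(S, (⊤ : S.Opens)), Subsingleton (CohFound.Hc ((CohFound.abF X).obj M) p (f ⁻¹ᵁ S.basicOpen g))) :
    IsZero (DCoh.HD ((DCoh.Rpush f).obj (DCoh.inD X M)) (p : ℤ)) := by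
  refine DPerf.isZero_of_cover (fun _ : Unit => (⊤ : S.Opens)) (fun _ => ⟨(), trivial⟩) fun _ => ?_
  haveI := DPush.isIso_restrict_homology (B := Set.range fun g : Γ(S, (⊤ : S.Opens)) => S.basicOpen g)
    (DPush.basis_basicOpen (isAffineOpen_top S)) (0 : (DCoh.Rpush f).obj (DCoh.inD X M) ⟶ 0) (p : ℤ) (by
      rintro _ ⟨g, rfl⟩
      let adj := Scheme.Modules.pullbackPushforwardAdjunction f
      have he : Subsingleton (Abelian.Ext.{u} ((DQC.gen X).obj (f ⁻¹ᵁ S.basicOpen g)) M p) :=
        SiteRlim.subsingleton_ext_freeOn X.sheaf _ M p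
          ((CohFound.huExt ((CohFound.abF X).obj M) p _).toEquiv.subsingleton_congr.2 (h g))
      have h1 : Subsingleton ((DerivedCategory.singleFunctor X.Modules (p : ℤ)).obj
          ((DQC.gen X).obj (f ⁻¹ᵁ S.basicOpen g)) ⟶ DCoh.inD X M) :=
        SiteRlim.subsingleton_hom_single (p : ℤ) 0 p (zero_add _) he
      have h2 := (((DerivedCategory.singleFunctor X.Modules (p : ℤ)).mapIso (DPush.pullGenIso f _)).homCongr
        (Iso.refl (DCoh.inD X M))).subsingleton_congr.1 h1
      have h3 := (SitePAdj.bijective_transpose adj (DPush.unit f) KInjLib.enoughKInj_of_grothendieck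
        (DPush.isQuasiLiftable_adapted f) (DPush.adapted_gen f (S.basicOpen g)) (p : ℤ) (DCoh.inD X M)).2.subsingleton
      exact ⟨fun x y _ => h3.elim x y, fun y => ⟨0, (isZero_zero _).eq_of_tgt _ _⟩⟩)
  exact ((Scheme.Modules.restrictFunctor (⊤ : S.Opens).ι).map_isZero
    ((DerivedCategory.homologyFunctor S.Modules (p : ℤ)).map_isZero (isZero_zero _))).of_iso
      (asIso ((Scheme.Modules.restrictFunctor (⊤ : S.Opens).ι).map ((DerivedCategory.homologyFunctor S.Modules (p : ℤ)).map
        (0 : (DCoh.Rpush f).obj (DCoh.inD X M) ⟶ 0))))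

/-- Cohomology of quasi-coherent modules over preimages of basic opens in `P^r` vanishes above `r`. -/
theorem subsingleton_hc_projSpace (Y : Scheme.{u}) [IsAffine Y] (r : ℕ) (M : (CohB1.ProjSpaceOver r Y).Modules)
    (hM : Coh.IsQCoh M) (p : ℕ) (hp : r + 1 ≤ p) (g : Γ(Y, (⊤ : Y.Opens))) :
    Subsingleton (CohFound.Hc ((CohFound.abF _).obj M) p (CohB1.ProjSpaceOver.toBase r Y ⁻¹ᵁ Y.basicOpen g)) := by
  let a := pullback.fst (CohB1.ProjSpace.toSpec r (ULift.{u} ℤ)) (specULiftZIsTerminal.from Y)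
  haveI : IsAffineHom a := MorphismProperty.pullback_fst _ _ inferInstance
  haveI : IsSeparated (CohB1.ProjSpaceOver.toBase r Y) :=
    MorphismProperty.pullback_snd _ _ inferInstance
  haveI : (CohB1.ProjSpaceOver r Y).IsSeparated :=
    ⟨by rw [← terminal.comp_from (CohB1.ProjSpaceOver.toBase r Y)]; infer_instance⟩
  haveI : M.IsQuasicoherent := hM
  let f := CohB1.ProjSpaceOver.toBase r Y
  let U : Fin (r + 1) → (CohB1.ProjSpaceOver r Y).Opens := fun i =>
    a ⁻¹ᵁ Proj.basicOpen (CohB1.polyGrading r (ULift.{u} ℤ)) (MvPolynomial.X i)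
  have hU : ∀ i, IsAffineOpen (U i) := fun i =>
    (Proj.isAffineOpen_basicOpen _ (MvPolynomial.X i)
      (m := 1) (MvPolynomial.isHomogeneous_X _ i) one_pos).preimage a
  have hU' : ∀ i, IsAffineOpen (U i ⊓ f ⁻¹ᵁ Y.basicOpen g) := fun i => by
    have h1 := (hU i).basicOpen ((CohB1.ProjSpaceOver r Y).presheaf.map (homOfLE le_top).op (f.app ⊤ g))
    rw [Scheme.basicOpen_res, ← Scheme.preimage_basicOpen] at h1
    exact h1
  have htop : (⨆ i, U i ⊓ f ⁻¹ᵁ Y.basicOpen g) = f ⁻¹ᵁ Y.basicOpen g := by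
    rw [← iSup_inf_eq, show (⨆ i, U i) = ⊤ by
      rw [← Scheme.Hom.preimage_iSup, ProjSpace.iSup_basicOpen]; rfl, top_inf_eq]
  rw [← htop]
  exact CohFound.subsingleton_hc_iSup_affine M (fun V W hV hW => hV.inf hW) (r + 1) _ hU' p hp

/-- Higher direct images from projective space over an affine base vanish above `r`. -/
theorem isZero_hd_rpush_projSpace (Y : Scheme.{u}) [IsAffine Y] (r : ℕ)
    [DCoh.HasRpush (CohB1.ProjSpaceOver.toBase r Y)] (M : (CohB1.ProjSpaceOver r Y).Modules)
    (hM : Coh.IsQCoh M) (j : ℤ) (hj : (r : ℤ) < j) :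
    IsZero (DCoh.HD ((DCoh.Rpush (CohB1.ProjSpaceOver.toBase r Y)).obj (DCoh.inD _ M)) j) := by
  obtain ⟨p, rfl⟩ : ∃ p : ℕ, j = p := ⟨j.toNat, by omega⟩
  exact isZero_hd_rpush_inD_of_hc _ M p fun g => subsingleton_hc_projSpace Y r M hM p (by omega) g

end Groth.Agent.Exact8
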