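import Mathlib
import Groth.Agent.Lib.RelPCS8.LocPerf
import Groth.Agent.Lib.RelPCS8.Cohom
import Groth.Agent.Lib.RHom.ProjClosed
import Groth.Agent.Lib.DPush.Comp
import Groth.Agent.Lib.DGen9.PCPush
import Groth.Agent.Lib.DGen9.Affine
import Groth.Agent.Lib.DPerf.RelAmp
import Groth.Agent.Lib.ProjSpace.Basic

/-!
# Direct images from closed subschemes of projective space
-/

set_option autoImplicit false
set_option backward.isDefEq.respectTransparency false
set_option backward.isDefEq.respectTransparency.types false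
set_option linter.style.haveILetI false
universe u
open CategoryTheory CategoryTheory.Limits AlgebraicGeometry Pretriangulated
attribute [local instance] HasDerivedCategory.standard

namespace Groth.Agent.Exact8

variable {X Y : Scheme.{u}} (r : ℕ)

theorem isQCohD_of_relAll {S : Scheme.{u}} (f : X ⟶ S) {E : DCoh.D X} (h : DerSch.IsPseudoCoherentRelAll f E) :
    DCoh.IsQCohD E := fun i => RelPCS8.isQCoh_HD_of_rel (h (i - 1)) (show i - 1 < i by omega)

/-- The direct image of a perfect object through a closed subscheme of projective space. -/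
theorem isPerfect_rpush_of_push_perfect (i : X ⟶ CohB1.ProjSpaceOver r Y) [IsClosedImmersion i]
    [DCoh.HasRpush (i ≫ CohB1.ProjSpaceOver.toBase r Y)] (E : DCoh.D X)
    (h : DCoh.IsPerfect ((Scheme.Modules.pushforward i).mapDerivedCategory.obj E)) :
    DCoh.IsPerfect ((DCoh.Rpush (i ≫ CohB1.ProjSpaceOver.toBase r Y)).obj E) := by
  haveI : DCoh.HasRpush i := DBC9.hasRpush i
  haveI : DCoh.HasRpush (CohB1.ProjSpaceOver.toBase r Y) := DBC9.hasRpush _
  obtain ⟨e⟩ := RHom.nonempty_rpushIso i
  exact DGen9.isPerfect_of_iso ((DCoh.Rpush (CohB1.ProjSpaceOver.toBase r Y)).mapIso (e.app E).symm ≪≫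
      (DPush.compIso i (CohB1.ProjSpaceOver.toBase r Y)).app E)
    (PerfPush9.isPerfect_rpush_relPerf (CohB1.ProjSpaceOver.toBase r Y) _
      (fun m => DGen9.isPseudoCoherentD_of_isPerfect h m)
      (DPerf.locHasFiniteRelTorDim_of_isPerfect _ h))

/-- The direct image of a relatively perfect object through a closed subscheme of projective space. -/
theorem isPerfect_rpush_proj_of_perfectRel (i : X ⟶ CohB1.ProjSpaceOver r Y) [IsClosedImmersion i]
    [DCoh.HasRpush (i ≫ CohB1.ProjSpaceOver.toBase r Y)] (F : CochainComplex X.Modules ℤ)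
    (hF : DerSch.IsPerfectRel (i ≫ CohB1.ProjSpaceOver.toBase r Y) F) :
    DCoh.IsQCohD (DCoh.toD X F) ∧
      DCoh.IsPerfect ((DCoh.Rpush (i ≫ CohB1.ProjSpaceOver.toBase r Y)).obj (DCoh.toD X F)) :=
  ⟨isQCohD_of_relAll _ hF.1, isPerfect_rpush_of_push_perfect r i _
    (DGen9.isPerfect_of_iso ((Scheme.Modules.pushforward i).mapDerivedCategoryFactors.app F).symm
      ((RelPCS8.LocPerf.isPerfectRel_iff i (CohB1.ProjSpaceOver.toBase r Y) F).1 hF))⟩

end Groth.Agent.Exact8
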