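import Mathlib
import Groth.Agent.Lib.Exact8.ProjPush
import Groth.Agent.Lib.RelPCS8.TorRpush

/-!
# Pseudo-coherent and perfect morphisms from closed subschemes of projective space
-/

set_option autoImplicit false
set_option backward.isDefEq.respectTransparency false
set_option backward.isDefEq.respectTransparency.types false
set_option linter.style.haveILetI false
universe u
open CategoryTheory CategoryTheory.Limits AlgebraicGeometry Pretriangulated
attribute [local instance] HasDerivedCategory.standard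

namespace Groth.Agent.Exact8

variable {X Y : Scheme.{u}}

/-- A perfect morphism is pseudo-coherent. -/
theorem nPseudoCoherent_of_isPerfectMor (f : X ⟶ Y) [LocallyOfFiniteType f] (hf : MoreMor.IsPerfectMor f) (m : ℤ) :
    DerSch.IsNPseudoCoherent f m := by
  refine RelPCS8.nPseudoCoherent_of_pcMor ((affineLocally_iff_forall_isAffineOpen (P := @PCMor4.PCH) f).2 ?_) m
  intro V hV U hU hle
  letI := (f.appLE V U hle).hom.toAlgebra
  exact PCMor4.isPseudoCoherentHom_iff.1 (hf U V hU hV hle).1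

/-- Perfect objects are relatively perfect along perfect morphisms. -/
theorem isPerfectRel_of_isPerfectMor (f : X ⟶ Y) [LocallyOfFiniteType f] (hf : MoreMor.IsPerfectMor f)
    (F : CochainComplex X.Modules ℤ) (hF : DCoh.IsPerfect (DCoh.toD X F)) : DerSch.IsPerfectRel f F := by
  refine ⟨fun m => (RelPCS8.rel_iff_pc (nPseudoCoherent_of_isPerfectMor f hf) m _).2
    (DGen9.isPseudoCoherentD_of_isPerfect hF m), fun x => ?_⟩
  obtain ⟨U, a, b, hx, h⟩ := RelPCS8.TorRpush.locTA_of_flatAmplitude f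
    (RelPCS8.TorRpush.locFiniteTorDim_of_isPerfectMor f hf) (fun x => by
      obtain ⟨V, a, b, hx, -, h⟩ := DPerf.exists_flatAmplitude_of_isPerfect hF x
      exact ⟨V, a, b, hx, h⟩) x
  exact ⟨U, a, b, hx, fun x' hx' =>
    RelPCS8.StalkTor.hasTorAmplitudeIn_congr ((DerSch.stalkOver f x').mapDerivedCategoryFactors.app F) (h x' hx')⟩

/-- Pseudo-coherent objects pushed along a pseudo-coherent morphism through projective space. -/
theorem pc_rpush_of_push_pc (r : ℕ) (i : X ⟶ CohB1.ProjSpaceOver r Y) [IsClosedImmersion i]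
    [DCoh.HasRpush (i ≫ CohB1.ProjSpaceOver.toBase r Y)] (E : DCoh.D X)
    (h : ∀ m : ℤ, DCoh.IsPseudoCoherentD m ((Scheme.Modules.pushforward i).mapDerivedCategory.obj E)) (m : ℤ) :
    DCoh.IsPseudoCoherentD m ((DCoh.Rpush (i ≫ CohB1.ProjSpaceOver.toBase r Y)).obj E) := by
  haveI : DCoh.HasRpush i := DBC9.hasRpush i
  haveI : DCoh.HasRpush (CohB1.ProjSpaceOver.toBase r Y) := DBC9.hasRpush _
  obtain ⟨e⟩ := RHom.nonempty_rpushIso i
  exact RelPCS8.pc_of_iso ((DCoh.Rpush (CohB1.ProjSpaceOver.toBase r Y)).mapIso (e.app E).symm ≪≫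
      (DPush.compIso i (CohB1.ProjSpaceOver.toBase r Y)).app E)
    (PerfPush9.pc_rpush_flat (CohB1.ProjSpaceOver.toBase r Y) _ h m)

theorem push_pc_of_pc (r : ℕ) (i : X ⟶ CohB1.ProjSpaceOver r Y) [IsClosedImmersion i]
    (hf : ∀ n : ℤ, DerSch.IsNPseudoCoherent (i ≫ CohB1.ProjSpaceOver.toBase r Y) n) (E : DCoh.D X) (m : ℤ)
    (hE : DCoh.IsPseudoCoherentD m E) :
    DCoh.IsPseudoCoherentD m ((Scheme.Modules.pushforward i).mapDerivedCategory.obj E) :=
  (RelPCS8.rel_iff_pc (fun k => RelPCS8.nPseudoCoherent_of_flat k) m _).1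
    ((RelPCS8.rel_closed_iff m E).1 ((RelPCS8.rel_iff_pc hf m E).2 hE))

end Groth.Agent.Exact8
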