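import Mathlib
import Groth.Agent.Lib.Exact8.ProjPush2

/-!
# Direct images from closed subschemes of projective space over a base, relatively to a base scheme
-/

set_option autoImplicit false
set_option backward.isDefEq.respectTransparency false
set_option backward.isDefEq.respectTransparency.types false
set_option linter.style.haveILetI false
universe u
open CategoryTheory CategoryTheory.Limits AlgebraicGeometry Pretriangulated
attribute [local instance] HasDerivedCategory.standard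

namespace Groth.Agent.Exact8

open RelPCS8

variable {X Y S : Scheme.{u}}

theorem relAll_res (g : X ⟶ S) (O : X.Opens) {E : DCoh.D X} (h : DerSch.IsPseudoCoherentRelAll g E) :
    DerSch.IsPseudoCoherentRelAll (O.ι ≫ g) ((DPerf.resD O.ι).obj E) := fun m => by
  haveI := (h m).1
  haveI : LocallyOfFiniteType (O.ι ≫ g) := inferInstance
  refine rel_iff.2 ⟨inferInstance, fun W V hW hV hle => ?_⟩
  refine good_image O.ι hW ((rel_iff.1 (h m)).2 _ V (hW.image_of_isOpenImmersion O.ι) hV ?_)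
  rintro _ ⟨w, hw, rfl⟩
  exact hle hw

/-- A closed subscheme of projective space over an affine scheme that is smooth over an open of the base. -/
theorem pc_rpush_smooth {A : Scheme.{u}} (r : ℕ) (i : X ⟶ CohB1.ProjSpaceOver r A) [IsClosedImmersion i]
    (g : A ⟶ S) [Flat g] [LocallyOfFinitePresentation g]
    [DCoh.HasRpush (i ≫ CohB1.ProjSpaceOver.toBase r A)] (E : DCoh.D X)
    (h : DerSch.IsPseudoCoherentRelAll (i ≫ CohB1.ProjSpaceOver.toBase r A ≫ g) E) (m : ℤ) :
    DCoh.IsPseudoCoherentD m ((DCoh.Rpush (i ≫ CohB1.ProjSpaceOver.toBase r A)).obj E) :=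
  pc_rpush_of_push_pc r i E (fun k => (rel_iff_pc (fun n => nPseudoCoherent_of_flat
    (f := CohB1.ProjSpaceOver.toBase r A ≫ g) n) k _).1 ((rel_closed_iff k E).1 (h k))) m

/-- Relative pseudo-coherence of the direct image from a closed subscheme of projective space. -/
theorem relAll_rpush_proj (q : Y ⟶ S) [LocallyOfFiniteType q] (r : ℕ) (i : X ⟶ CohB1.ProjSpaceOver r Y)
    [IsClosedImmersion i] [DCoh.HasRpush (i ≫ CohB1.ProjSpaceOver.toBase r Y)] (E : DCoh.D X)
    (hE : DerSch.IsPseudoCoherentRelAll ((i ≫ CohB1.ProjSpaceOver.toBase r Y) ≫ q) E) :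
    DerSch.IsPseudoCoherentRelAll q ((DCoh.Rpush (i ≫ CohB1.ProjSpaceOver.toBase r Y)).obj E) := by
  intro m
  refine rel_of_locally fun y => ?_
  obtain ⟨U, V, hyU, hU, hV, hle⟩ := exists_affine_pair q y
  obtain ⟨n, φ, hφ⟩ := exists_chart_of_lft (f := q) hU hV hle
  refine ⟨U, V, hyU, hU, hV, hle, n, φ, hφ, fun hcl => ?_⟩
  haveI := hcl
  let f := i ≫ CohB1.ProjSpaceOver.toBase r Y
  let O := f ⁻¹ᵁ U
  let A := Spec (CommRingCat.of (MvPolynomial (Fin n) Γ(S, V)))
  let g : A ⟶ S := Spec.map (CommRingCat.ofHom (MvPolynomial.C : Γ(S, V) →+* _)) ≫ hV.fromSpec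
  haveI : Flat g := by
    haveI : Flat (Spec.map (CommRingCat.ofHom (MvPolynomial.C : Γ(S, V) →+* MvPolynomial (Fin n) Γ(S, V)))) :=
      (HasRingHomProperty.Spec_iff (P := @Flat)).2 (show RingHom.Flat _ from by
        rw [CommRingCat.hom_ofHom, ← MvPolynomial.algebraMap_eq, RingHom.flat_algebraMap_iff]
        infer_instance)
    infer_instance
  haveI : LocallyOfFinitePresentation g := by
    haveI : LocallyOfFinitePresentation
        (Spec.map (CommRingCat.ofHom (MvPolynomial.C : Γ(S, V) →+* MvPolynomial (Fin n) Γ(S, V)))) :=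
      (HasRingHomProperty.Spec_iff (P := @LocallyOfFinitePresentation)).2
        (show RingHom.FinitePresentation _ from by
          rw [CommRingCat.hom_ofHom, ← MvPolynomial.algebraMap_eq, RingHom.finitePresentation_algebraMap]
          infer_instance)
    infer_instance
  let j := imm U φ
  have hjg : j ≫ g = U.ι ≫ q := by
    simp only [j, g, imm, Category.assoc, ← Spec.map_comp_assoc, ← CommRingCat.ofHom_comp, hφ.2]
    rw [CommRingCat.ofHom_hom, IsAffineOpen.SpecMap_appLE_fromSpec q hV hU hle, ← Category.assoc]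
    congr 1
    exact hU.toSpecΓ_fromSpec
  have hP := ProjSpace.isPullback_overMap r U.ι
  have hF : IsPullback (f ∣_ U) O.ι U.ι f := isPullback_morphismRestrict f U
  let iU : (O : Scheme.{u}) ⟶ CohB1.ProjSpaceOver r U :=
    hP.lift (O.ι ≫ i) (f ∣_ U) (by simp only [O, f, Category.assoc]; exact hF.w.symm)
  have hiU1 : iU ≫ ProjSpace.overMap r U.ι = O.ι ≫ i := hP.lift_fst _ _ _
  have hiU2 : iU ≫ CohB1.ProjSpaceOver.toBase r _ = f ∣_ U := hP.lift_snd _ _ _
  haveI : IsClosedImmersion iU := MorphismProperty.of_isPullback (P := @IsClosedImmersion)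
    (IsPullback.of_bot (v₂₁ := CohB1.ProjSpaceOver.toBase r _) (h₃₁ := U.ι) (by rw [hiU2]; exact hF.flip)
      hiU1.symm hP) inferInstance
  have hPj := ProjSpace.isPullback_overMap r j
  haveI : IsClosedImmersion j := hcl
  haveI : IsClosedImmersion (ProjSpace.overMap r j) :=
    MorphismProperty.of_isPullback (P := @IsClosedImmersion) hPj.flip inferInstance
  let i' := iU ≫ ProjSpace.overMap r j
  have hi' : i' ≫ CohB1.ProjSpaceOver.toBase r A = (f ∣_ U) ≫ j :=
    (Category.assoc _ _ _).trans ((congrArg (iU ≫ ·) hPj.w).trans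
      ((Category.assoc _ _ _).symm.trans (congrArg (· ≫ j) hiU2)))
  haveI : DCoh.HasRpush (f ∣_ U) := DBC9.hasRpush _
  haveI : DCoh.HasRpush j := DBC9.hasRpush _
  haveI : DCoh.HasRpush ((f ∣_ U) ≫ j) := DBC9.hasRpush _
  haveI : DCoh.HasRpush (i' ≫ CohB1.ProjSpaceOver.toBase r A) := DBC9.hasRpush _
  have hrel : DerSch.IsPseudoCoherentRelAll (i' ≫ CohB1.ProjSpaceOver.toBase r A ≫ g) ((DPerf.resD O.ι).obj E) := by
    have h1 : i' ≫ CohB1.ProjSpaceOver.toBase r A ≫ g = O.ι ≫ f ≫ q := by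
      rw [reassoc_of% hi', hjg, ← Category.assoc, hF.w]
      simp only [Category.assoc]
    rw [h1]
    exact relAll_res _ O hE
  have key : DCoh.IsPseudoCoherentD m ((DCoh.Rpush ((f ∣_ U) ≫ j)).obj ((DPerf.resD O.ι).obj E)) := by
    have h := pc_rpush_smooth r i' g _ hrel m
    convert h using 3
    exact hi'.symm
  obtain ⟨eb⟩ := DBC9.nonempty_res_rpush f (f ∣_ U) U.ι O.ι hF
  obtain ⟨ej⟩ := RHom.nonempty_rpushIso j
  exact (DPerf.isPseudoCoherentD_iff_approx.1 key).of_iso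
    (((pushD j).mapIso (eb.app E) ≪≫ (ej.app _).symm ≪≫ (DPush.compIso (f ∣_ U) j).app _).symm)

/-- The relatively perfect version. -/
theorem isPerfectRel_rpush_proj (q : Y ⟶ S) [LocallyOfFiniteType q] (r : ℕ) (i : X ⟶ CohB1.ProjSpaceOver r Y)
    [IsClosedImmersion i] [DCoh.HasRpush (i ≫ CohB1.ProjSpaceOver.toBase r Y)] (F : CochainComplex X.Modules ℤ)
    (hF : DerSch.IsPerfectRel ((i ≫ CohB1.ProjSpaceOver.toBase r Y) ≫ q) F) (F' : CochainComplex Y.Modules ℤ)
    (e : DCoh.toD Y F' ≅ (DCoh.Rpush (i ≫ CohB1.ProjSpaceOver.toBase r Y)).obj (DCoh.toD X F)) :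
    DerSch.IsPerfectRel q F' :=
  ⟨fun m => rel_of_iso e.symm (relAll_rpush_proj q r i _ hF.1 m),
    TorRpush.locFiniteTorAmplitudeD_of_locTA q (TorRpush.locTA_rpush _ q (i ≫ CohB1.ProjSpaceOver.toBase r Y) rfl
      (isQCohD_of_relAll _ hF.1) (TorRpush.locTA_of_toD _ hF.2)) F' ⟨e⟩⟩

/-- The perfect amplitude version. -/
theorem hasPerfAmplitudeRel_rpush_proj (q : Y ⟶ S) [LocallyOfFiniteType q] (r : ℕ)
    (i : X ⟶ CohB1.ProjSpaceOver r Y) [IsClosedImmersion i] [DCoh.HasRpush (i ≫ CohB1.ProjSpaceOver.toBase r Y)]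
    (N : ℕ) (hN : ∀ M : X.Modules, Coh.IsQCoh M → ∀ j : ℤ, (N : ℤ) < j →
      IsZero (DCoh.HD ((DCoh.Rpush (i ≫ CohB1.ProjSpaceOver.toBase r Y)).obj (DCoh.inD X M)) j))
    (F : CochainComplex X.Modules ℤ) (c : ℤ) [(DCoh.toD X F).IsGE c]
    (a b : ℤ) (hF : DerSch.HasPerfAmplitudeRel ((i ≫ CohB1.ProjSpaceOver.toBase r Y) ≫ q) a b F)
    (F' : CochainComplex Y.Modules ℤ)
    (e : DCoh.toD Y F' ≅ (DCoh.Rpush (i ≫ CohB1.ProjSpaceOver.toBase r Y)).obj (DCoh.toD X F)) :
    DerSch.HasPerfAmplitudeRel q a (b + N) F' :=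
  ⟨fun m => rel_of_iso e.symm (relAll_rpush_proj q r i _ hF.1 m),
    TorMV.hasTorAmplitudeD_of_ta q (TorRpush.ta_rpush _ q (i ≫ CohB1.ProjSpaceOver.toBase r Y) rfl N hN
      (isQCohD_of_relAll _ hF.1) c ((TorMV.ta_toD_iff _ a b F).2 hF.2)) F' ⟨e⟩⟩

end Groth.Agent.Exact8
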