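import Groth.Agent.Lib.RelPCS4.BaseDescent

/-!
# Relative pseudo-coherence descends along quasi-compact faithfully flat base changes
-/

set_option autoImplicit false
set_option linter.style.haveILetI false
set_option backward.isDefEq.respectTransparency false

universe u

open CategoryTheory Limits AlgebraicGeometry Opposite TopologicalSpace MvPolynomial

attribute [local instance] HasDerivedCategory.standard

namespace Groth.Agent.Exact8

open RelPCS8 RelPCS4

/-- An affine open is covered by the images of finitely many affines over it. -/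
theorem exists_finite_lift_qc {S S' : Scheme.{u}} (h : S' ⟶ S) [QuasiCompact h] [Surjective h] {V : S.Opens}
    (hV : IsCompact (V : Set S)) :
    ∃ (J : Type u) (_ : Finite J) (V' : J → S'.Opens),
      (∀ j, IsAffineOpen (V' j)) ∧ (∀ j, V' j ≤ h ⁻¹ᵁ V) ∧ ∀ s ∈ V, ∃ j, ∃ t ∈ V' j, h t = s := by
  have hK : IsCompact (h ⁻¹ᵁ V : Set S') := QuasiCompact.isCompact_preimage (f := h) _ V.2 hV
  have hW : ∀ t : (h ⁻¹ᵁ V : S'.Opens), ∃ W : S'.Opens, IsAffineOpen W ∧ t.1 ∈ W ∧ W ≤ h ⁻¹ᵁ V := fun t => by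
    obtain ⟨W, hW, htW, hle⟩ := exists_isAffineOpen_mem_and_subset (U := h ⁻¹ᵁ V) (x := t.1) t.2
    exact ⟨W, hW, htW, hle⟩
  choose W hWa htW hWle using hW
  obtain ⟨F, hF⟩ := hK.elim_finite_subcover (fun t => (W t : Set S')) (fun t => (W t).2)
    fun t ht => Set.mem_iUnion.2 ⟨⟨t, ht⟩, htW _⟩
  refine ⟨F, inferInstance, fun j => W j, fun j => hWa j, fun j => hWle j, fun s hs => ?_⟩
  obtain ⟨t, rfl⟩ := h.surjective s
  obtain ⟨j, hj, htj⟩ := Set.mem_iUnion₂.1 (hF (show t ∈ h ⁻¹ᵁ V from hs))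
  exact ⟨⟨j, hj⟩, t, htj, rfl⟩

/-- Descent along a quasi-compact faithfully flat base change. -/
theorem rel_of_qc_base {X S X' S' : Scheme.{u}} {f : X ⟶ S} [LocallyOfFiniteType f] {h : S' ⟶ S} [Flat h]
    [Surjective h] [QuasiCompact h] {g : X' ⟶ X} {f' : X' ⟶ S'} (H : IsPullback g f' f h) [DCoh.HasLpull g]
    {m : ℤ} {E : DCoh.D X} (hE : DCoh.IsQCohD E) (hi : DerSch.IsPseudoCoherentRel f' m ((DCoh.Lpull g).obj E)) :
    DerSch.IsPseudoCoherentRel f m E := by
  refine rel_iff.2 ⟨inferInstance, fun U V hU hV hle => ?_⟩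
  obtain ⟨n, φ, hφ⟩ := exists_chart_of_lft (f := f) hU hV hle
  haveI := isClosedImmersion_imm hU φ hφ.1
  refine ⟨hU, hV, hle, n, φ, hφ, fun _ => ?_⟩
  obtain ⟨J, _, V', hV', hV'le, hJ⟩ := exists_finite_lift_qc h hV.isCompact
  choose hU' hle' φ' hφ' hflat hci e using fun j =>
    exists_baseChange_chart H E hU hV hφ (hV' j) (hV'le j)
  have hqc : DCoh.IsQCohD ((pushD (imm U φ)).obj ((DPerf.resD U.ι).obj E)) := fun k =>
    M1.isQCoh_of_isIso (hdPushDIso (imm U φ) _ k).symm (M1.isQCoh_push _ (DQC.isQCohD_resD U.ι hE k))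
  haveI : ∀ j, Flat (Spec.map (CommRingCat.ofHom
      (MvPolynomial.map (σ := Fin n) (h.appLE V (V' j) (hV'le j)).hom))) := hflat
  refine approx_descend (fun j => CommRingCat.ofHom
    (MvPolynomial.map (σ := Fin n) (h.appLE V (V' j) (hV'le j)).hom)) (fun p => ?_) _ hqc m fun j => ?_
  · let s := Spec.map (CommRingCat.ofHom (C : Γ(S, V) →+* MvPolynomial (Fin n) Γ(S, V))) p
    obtain ⟨j, t, ht, hts⟩ := hJ (hV.fromSpec s) (hV.range_fromSpec.le ⟨s, rfl⟩)
    refine ⟨j, exists_mem_range_poly _ n p ((hV' j).primeIdealOf ⟨t, ht⟩) ?_⟩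
    apply hV.fromSpec.isOpenEmbedding.injective
    change (Spec.map (h.appLE V (V' j) (hV'le j)) ≫ hV.fromSpec) _ = hV.fromSpec s
    rw [hV.SpecMap_appLE_fromSpec _ (hV' j) (hV'le j), Scheme.Hom.comp_apply, (hV' j).fromSpec_primeIdealOf, hts]
  · haveI := hci j
    exact ((((rel_iff.1 hi).2 _ _ (hU' j) (hV' j) (hle' j)).test (hφ' j)) inferInstance).of_iso (e j).some.symm

end Groth.Agent.Exact8
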