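import Mathlib
import Groth.Agent.Lib.Exact8.Spread
import Groth.Agent.Lib.KFlat.LpullPC

/-!
# One-sided exactness on a neighbourhood
-/

set_option autoImplicit false
set_option backward.isDefEq.respectTransparency false
set_option backward.isDefEq.respectTransparency.types false
set_option linter.style.haveILetI false
universe u
open CategoryTheory CategoryTheory.Limits AlgebraicGeometry Pretriangulated HomologicalComplex
attribute [local instance] HasDerivedCategory.standard

namespace Groth.Agent.Exact8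

open Groth.Agent.KFlat Groth.Agent.KFlat.Sch

variable {X : Scheme.{u}}

/-- Injectivity on stalks from the stalk criterion. -/
theorem injective_of_flatAt {F : CochainComplex X.Modules ℤ} (hF : IsAdapted F) {p : ℤ}
    {G : X.Modules ⥤ X.Modules} (e : G ≅ S F p) (y : X) (h : FlatAt (stX y F) p)
    {M N : X.Modules} (g : M ⟶ N) (hg : Mono g) : Function.Injective ((stF y).map (G.map g)) := by
  have hK := flatAt_stK (𝟙 X) y hF h
  haveI : ∀ i, Module.Flat (X.presheaf.stalk y) ((stK (𝟙 X) y F).X i) := fun i =>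
    flat_stX (isAdapted_pullback (𝟙 X) hF) y i
  have hm := (mono_iff (stK (𝟙 X) y F) p).2 hK
  obtain ⟨u⟩ := nonempty_S_stalk_iso (𝟙 X) y F p
  let t : G ⋙ stJ (𝟙 X) y ≅ stJ (𝟙 X) y ⋙ CohIII.TFun (stK (𝟙 X) y F) p :=
    Functor.isoWhiskerRight e (stJ (𝟙 X) y) ≪≫ u
  have h1 : Mono ((stJ (𝟙 X) y).map g) := by
    haveI := (preservesFinite_stJ (𝟙 X) y).1
    haveI : (stJ (𝟙 X) y).PreservesMonomorphisms := preservesMonomorphisms_of_preservesLimitsOfShape _
    exact Functor.map_mono _ g
  have h2 : Mono ((stJ (𝟙 X) y ⋙ CohIII.TFun (stK (𝟙 X) y F) p).map g) := hm.preserves _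
  have h3 : Mono ((G ⋙ stJ (𝟙 X) y).map g) := mono_map_of_natIso t.symm g h2
  exact (injective_stJ_iff (𝟙 X) (G.map g) y).1.1 ((ModuleCat.mono_iff_injective _).1 h3)

/-- Surjectivity on stalks from the stalk criterion. -/
theorem surjective_of_flatAt {F : CochainComplex X.Modules ℤ} (hF : IsAdapted F) {p : ℤ}
    {G : X.Modules ⥤ X.Modules} (e : G ≅ S F p) (y : X) (h : FlatAt (stX y F) (p + 1))
    {M N : X.Modules} (g : M ⟶ N) (hg : Epi g) : Function.Surjective ((stF y).map (G.map g)) := by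
  have hK := flatAt_stK (𝟙 X) y hF h
  haveI : ∀ i, Module.Flat (X.presheaf.stalk y) ((stK (𝟙 X) y F).X i) := fun i =>
    flat_stX (isAdapted_pullback (𝟙 X) hF) y i
  have hm := (epi_iff (stK (𝟙 X) y F) p).2 hK
  obtain ⟨u⟩ := nonempty_S_stalk_iso (𝟙 X) y F p
  let t : G ⋙ stJ (𝟙 X) y ≅ stJ (𝟙 X) y ⋙ CohIII.TFun (stK (𝟙 X) y F) p :=
    Functor.isoWhiskerRight e (stJ (𝟙 X) y) ≪≫ u
  have h1 : Epi ((stJ (𝟙 X) y).map g) := by
    haveI := (preservesFinite_stJ (𝟙 X) y).2
    haveI : (stJ (𝟙 X) y).PreservesEpimorphisms := preservesEpimorphisms_of_preservesColimitsOfShape _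
    exact Functor.map_epi _ g
  have h2 : Epi ((stJ (𝟙 X) y ⋙ CohIII.TFun (stK (𝟙 X) y F) p).map g) := hm.preserves _
  have h3 : Epi ((G ⋙ stJ (𝟙 X) y).map g) := epi_map_of_natIso t.symm g h2
  exact (injective_stJ_iff (𝟙 X) (G.map g) y).2.1 ((ModuleCat.epi_iff_surjective _).1 h3)

/-- The resolution restricted to an open. -/
theorem exists_phi_restrict_iso (F F' : CochainComplex X.Modules ℤ) (q : F' ⟶ F) [QuasiIso q] (hF' : IsAdapted F')
    (U : X.Opens) [DCoh.HasLTensorCx ((DCoh.restrictCx U).obj F)] (p : ℤ) :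
    Nonempty (Phi ((DCoh.restrictCx U).obj F) p ≅
      S (((Scheme.Modules.pullback U.ι).mapHomologicalComplex (ComplexShape.up ℤ)).obj F') p) := by
  haveI : PreservesFiniteLimits (Scheme.Modules.pullback U.ι) :=
    preservesFiniteLimits_of_natIso (Scheme.Modules.restrictFunctorIsoPullback U.ι)
  haveI : PreservesFiniteColimits (Scheme.Modules.pullback U.ι) :=
    preservesFiniteColimits_of_natIso (Scheme.Modules.restrictFunctorIsoPullback U.ι)
  haveI : (Scheme.Modules.pullback U.ι).PreservesHomology := inferInstance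
  let q' := ((Scheme.Modules.pullback U.ι).mapHomologicalComplex (ComplexShape.up ℤ)).map q ≫
    (NatIso.mapHomologicalComplex (Scheme.Modules.restrictFunctorIsoPullback U.ι).symm (ComplexShape.up ℤ)).hom.app F
  haveI : QuasiIso q' := inferInstance
  exact nonempty_phi_iso _ _ q' (isKFlat_pullback U.ι hF'.1) p

theorem preservesFiniteLimits_restrict (F F' : CochainComplex X.Modules ℤ) (q : F' ⟶ F) [QuasiIso q]
    (hF' : IsAdapted F') (U : X.Opens) [DCoh.HasLTensorCx ((DCoh.restrictCx U).obj F)] (p : ℤ)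
    (h : ∀ y ∈ U, FlatAt (stX y F') p) :
    PreservesFiniteLimits (Phi ((DCoh.restrictCx U).obj F) p) := by
  obtain ⟨e⟩ := exists_phi_restrict_iso F F' q hF' U p
  refine (Functor.preservesFiniteLimits_iff_forall_exact_map_and_mono _).2 fun T hT =>
    ⟨exact_phi _ p T hT, (KFlat.Sch.mono_iff_stalk _).2 fun u => ?_⟩
  exact injective_of_flatAt (isAdapted_pullback U.ι hF') e u
    (flatAt_stK U.ι u hF' (h (U.ι u) u.2)) T.f hT.mono_f

theorem preservesFiniteColimits_restrict (F F' : CochainComplex X.Modules ℤ) (q : F' ⟶ F) [QuasiIso q]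
    (hF' : IsAdapted F') (U : X.Opens) [DCoh.HasLTensorCx ((DCoh.restrictCx U).obj F)] (p : ℤ)
    (h : ∀ y ∈ U, FlatAt (stX y F') (p + 1)) :
    PreservesFiniteColimits (Phi ((DCoh.restrictCx U).obj F) p) := by
  obtain ⟨e⟩ := exists_phi_restrict_iso F F' q hF' U p
  refine (Functor.preservesFiniteColimits_iff_forall_exact_map_and_epi _).2 fun T hT =>
    ⟨exact_phi _ p T hT, (M1.epi_iff_stalk _).2 fun u => ?_⟩
  exact surjective_of_flatAt (isAdapted_pullback U.ι hF') e u
    (flatAt_stK U.ι u hF' (h (U.ι u) u.2)) T.g hT.epi_g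

/-- The stalk functor of the definitions is that of the library. -/
noncomputable def stalkFunctorIso (x : X) : DerSch.stalkFunctor X x ≅ stF x :=
  NatIso.ofComponents (fun _ => Iso.refl _) fun {M N} f => by ext m; rfl

/-- The stalk hypothesis through the resolution. -/
theorem nonempty_phiR_stalk (F F' : CochainComplex X.Modules ℤ) (q : F' ⟶ F) [QuasiIso q] (hF' : IsAdapted F')
    (p : ℤ) (x : X)
    [DRing.HasLTensorCx (X.presheaf.stalk x) (((DerSch.stalkFunctor X x).mapHomologicalComplex (ComplexShape.up ℤ)).obj F)] :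
    Nonempty (DerivedCategory.singleFunctor (ModuleCat.{u} (X.presheaf.stalk x)) 0 ⋙
      DRing.LTensorCx (X.presheaf.stalk x) (((DerSch.stalkFunctor X x).mapHomologicalComplex (ComplexShape.up ℤ)).obj F) ⋙
      DerivedCategory.homologyFunctor (ModuleCat.{u} (X.presheaf.stalk x)) p ≅ CohIII.TFun (stX x F') p) := by
  haveI := (preservesFinite_stF x).1
  haveI := (preservesFinite_stF x).2
  haveI : (stF x).PreservesHomology := inferInstance
  let q' := ((stF x).mapHomologicalComplex (ComplexShape.up ℤ)).map q ≫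
    (NatIso.mapHomologicalComplex (stalkFunctorIso x).symm (ComplexShape.up ℤ)).hom.app F
  haveI : QuasiIso q' := inferInstance
  exact nonempty_phiR_iso q' ((Module.isKFlat_iff _).1 (isKFlat_stF hF'.1 x)) p

/-- Left exactness at a stalk spreads. -/
theorem exists_nhd_leftExact (F : CochainComplex X.Modules ℤ) (p : ℤ)
    (hE : DCoh.IsPseudoCoherentD (p - 1) (DCoh.toD X F)) (x : X)
    [DRing.HasLTensorCx (X.presheaf.stalk x) (((DerSch.stalkFunctor X x).mapHomologicalComplex (ComplexShape.up ℤ)).obj F)]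
    [PreservesFiniteLimits (DerivedCategory.singleFunctor (ModuleCat.{u} (X.presheaf.stalk x)) 0 ⋙ DRing.LTensorCx (X.presheaf.stalk x) (((DerSch.stalkFunctor X x).mapHomologicalComplex (ComplexShape.up ℤ)).obj F) ⋙ DerivedCategory.homologyFunctor (ModuleCat.{u} (X.presheaf.stalk x)) p)]
    [∀ U : X.Opens, DCoh.HasLTensorCx ((DCoh.restrictCx U).obj F)] :
    ∃ U : X.Opens, x ∈ U ∧ PreservesFiniteLimits (Phi ((DCoh.restrictCx U).obj F) p) := by
  haveI : QuasiIso (resπ (cover X) F) := quasiIso_resπ (cover X) F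
  obtain ⟨t⟩ := nonempty_phiR_stalk F _ (resπ (cover X) F) (isAdapted_resObj F) p x
  haveI := preservesFiniteLimits_of_natIso t
  haveI hm : (CohIII.TFun (stX x (resObj (cover X) F)) p).PreservesMonomorphisms :=
    preservesMonomorphisms_of_preservesLimitsOfShape _
  haveI := flat_stX (isAdapted_resObj F) x
  obtain ⟨U, hx, hU⟩ := exists_nhd_flatAt F _ (resπ (cover X) F) (isAdapted_resObj F) p hE x ((mono_iff _ p).1 hm)
  exact ⟨U, hx, preservesFiniteLimits_restrict F _ (resπ (cover X) F) (isAdapted_resObj F) U p hU⟩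

/-- Right exactness at a stalk spreads. -/
theorem exists_nhd_rightExact (F : CochainComplex X.Modules ℤ) (p : ℤ)
    (hE : DCoh.IsPseudoCoherentD p (DCoh.toD X F)) (x : X)
    [DRing.HasLTensorCx (X.presheaf.stalk x) (((DerSch.stalkFunctor X x).mapHomologicalComplex (ComplexShape.up ℤ)).obj F)]
    [PreservesFiniteColimits (DerivedCategory.singleFunctor (ModuleCat.{u} (X.presheaf.stalk x)) 0 ⋙ DRing.LTensorCx (X.presheaf.stalk x) (((DerSch.stalkFunctor X x).mapHomologicalComplex (ComplexShape.up ℤ)).obj F) ⋙ DerivedCategory.homologyFunctor (ModuleCat.{u} (X.presheaf.stalk x)) p)]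
    [∀ U : X.Opens, DCoh.HasLTensorCx ((DCoh.restrictCx U).obj F)] :
    ∃ U : X.Opens, x ∈ U ∧ PreservesFiniteColimits (Phi ((DCoh.restrictCx U).obj F) p) := by
  haveI : QuasiIso (resπ (cover X) F) := quasiIso_resπ (cover X) F
  obtain ⟨t⟩ := nonempty_phiR_stalk F _ (resπ (cover X) F) (isAdapted_resObj F) p x
  haveI := preservesFiniteColimits_of_natIso t
  haveI hm : (CohIII.TFun (stX x (resObj (cover X) F)) p).PreservesEpimorphisms :=
    preservesEpimorphisms_of_preservesColimitsOfShape _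
  haveI := flat_stX (isAdapted_resObj F) x
  obtain ⟨U, hx, hU⟩ := exists_nhd_flatAt F _ (resπ (cover X) F) (isAdapted_resObj F) (p + 1)
    (by rwa [add_sub_cancel_right]) x ((epi_iff _ p).1 hm)
  exact ⟨U, hx, preservesFiniteColimits_restrict F _ (resπ (cover X) F) (isAdapted_resObj F) U p hU⟩

end Groth.Agent.Exact8
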