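import Groth.Agent.Lib.Exact8.TorBC
import Groth.Agent.Lib.RelPCS8.TensorAmp
import Groth.Agent.Lib.Descend.BaseChangeAt
import Groth.Agent.Lib.KFlat.LpullPC
import Mathlib.AlgebraicGeometry.PullbackCarrier

/-!
# Stalkwise tor amplitude under flat base change
-/

set_option autoImplicit false
set_option backward.isDefEq.respectTransparency false
set_option backward.isDefEq.respectTransparency.types false
set_option linter.style.haveILetI false
set_option maxHeartbeats 800000
universe u
open CategoryTheory CategoryTheory.Limits AlgebraicGeometry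
attribute [local instance] HasDerivedCategory.standard

namespace Groth.Agent.Exact8

open KFlat KFlat.Sch

variable {X Y X' Y' : Scheme.{u}} {g : X' ⟶ X} {f' : X' ⟶ Y'} {f : X ⟶ Y} {h : Y' ⟶ Y}

/-- The map between the local rings of the bases. -/
noncomputable abbrev baseMap (sq : IsPullback g f' f h) (x : X') :
    Y.presheaf.stalk (f (g x)) ⟶ Y'.presheaf.stalk (f' x) :=
  (Y.presheaf.stalkCongr (.of_eq (show f (g x) = h (f' x) by
    rw [← Scheme.Hom.comp_apply, ← Scheme.Hom.comp_apply, sq.w]))).hom ≫ h.stalkMap (f' x)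

theorem stalk_square (sq : IsPullback g f' f h) (x : X') :
    baseMap sq x ≫ f'.stalkMap x = f.stalkMap (g x) ≫ g.stalkMap x := by
  rw [← Scheme.Hom.stalkMap_comp, Scheme.Hom.stalkMap_congr_hom _ _ sq.w x, Scheme.Hom.stalkMap_comp]
  simp only [baseMap, Category.assoc]

/-- The stalk of a fibre product is flat over the tensor product of the stalks. -/
theorem flat_tensor_stalk (sq : IsPullback g f' f h) (x : X')
    (ρ : BC (baseMap sq x).hom (f.stalkMap (g x)).hom →+* X'.presheaf.stalk x)
    (h1 : ρ.comp (inclL (baseMap sq x).hom (f.stalkMap (g x)).hom) = (f'.stalkMap x).hom)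
    (h2 : ρ.comp (inclR (baseMap sq x).hom (f.stalkMap (g x)).hom) = (g.stalkMap x).hom) : ρ.Flat := by
  let σ := (baseMap sq x).hom
  let φ := (f.stalkMap (g x)).hom
  let iL := CommRingCat.ofHom (inclL σ φ)
  let iR := CommRingCat.ofHom (inclR σ φ)
  have hsq : IsPullback (Spec.map iL) (Spec.map iR) (Spec.map (baseMap sq x)) (Spec.map (f.stalkMap (g x))) := by
    letI := σ.toAlgebra
    letI := φ.toAlgebra
    exact isPullback_SpecMap_of_isPushout _ _ _ _
      (CommRingCat.isPushout_tensorProduct (Y.presheaf.stalk (f (g x))) (Y'.presheaf.stalk (f' x)) (X.presheaf.stalk (g x)))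
  have hw : (Spec.map iR ≫ X.fromSpecStalk (g x)) ≫ f = (Spec.map iL ≫ Y'.fromSpecStalk (f' x)) ≫ h := by
    rw [Category.assoc, Category.assoc, ← Scheme.SpecMap_stalkMap_fromSpecStalk,
      ← Scheme.SpecMap_stalkMap_fromSpecStalk, ← Category.assoc, ← hsq.w, Category.assoc]
    congr 1
    rw [Spec.map_comp, Category.assoc]
    congr 1
    exact Scheme.SpecMap_stalkSpecializes_fromSpecStalk (Inseparable.of_eq (show f (g x) = h (f' x) by
      rw [← Scheme.Hom.comp_apply, ← Scheme.Hom.comp_apply, sq.w])).ge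
  let l := sq.lift _ _ hw
  haveI : Mono l := ⟨fun u v huv => hsq.hom_ext
    ((cancel_mono (Y'.fromSpecStalk (f' x))).1 (by
      simpa [l, Category.assoc] using congrArg (· ≫ f') huv))
    ((cancel_mono (X.fromSpecStalk (g x))).1 (by
      simpa [l, Category.assoc] using congrArg (· ≫ g) huv))⟩
  have hl : Spec.map (CommRingCat.ofHom ρ) ≫ l = X'.fromSpecStalk x := by
    apply sq.hom_ext
    · rw [Category.assoc, IsPullback.lift_fst, ← Category.assoc, ← Spec.map_comp, ← CommRingCat.ofHom_comp, h2]
      exact Scheme.SpecMap_stalkMap_fromSpecStalk g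
    · rw [Category.assoc, IsPullback.lift_snd, ← Category.assoc, ← Spec.map_comp, ← CommRingCat.ofHom_comp, h1]
      exact Scheme.SpecMap_stalkMap_fromSpecStalk f'
  haveI : Flat (Spec.map (CommRingCat.ofHom ρ) ≫ l) := by
    rw [hl]; exact Descend.flat_fromSpecStalk x
  have hpb : IsPullback (Spec.map (CommRingCat.ofHom ρ)) (𝟙 _) l (Spec.map (CommRingCat.ofHom ρ) ≫ l) :=
    IsPullback.of_isLimit' ⟨by rw [Category.id_comp]⟩ (PullbackCone.IsLimit.mk _ (fun s => s.snd)
      (fun s => by rw [← cancel_mono l, Category.assoc]; exact s.condition.symm)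
      (fun s => Category.comp_id _) (fun s m _ hm => by simpa using hm))
  haveI : Flat (Spec.map (CommRingCat.ofHom ρ)) := MorphismProperty.of_isPullback hpb.flip inferInstance
  exact (HasRingHomProperty.Spec_iff (P := @Flat)).1 this

/-- Stalkwise tor amplitude of a pulled back complex. -/
theorem torAmplitude_pullback (sq : IsPullback g f' f h) [Flat h] (R : CochainComplex X.Modules ℤ) {a b : ℤ}
    (hR : DerSch.HasTorAmplitude f a b R) :
    DerSch.HasTorAmplitude f' a b (((Scheme.Modules.pullback g).mapHomologicalComplex (ComplexShape.up ℤ)).obj R) := by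
  intro x
  have hσ : (baseMap sq x).hom.Flat := by
    rw [baseMap, CommRingCat.hom_comp]
    exact RingHom.Flat.comp (RingHom.Flat.of_bijective (ConcreteCategory.bijective_of_isIso _)) (Flat.stalkMap h (f' x))
  have hL : DRing.HasTorAmplitudeIn _ a b (DRing.toD ((DRing.restrictCx (f.stalkMap (g x)).hom).obj
      (((stF (g x)).mapHomologicalComplex (ComplexShape.up ℤ)).obj R))) :=
    RelPCS8.StalkTor.hasTorAmplitudeIn_congr (DerivedCategory.Q.mapIso (RelPCS8.TensorAmp.stalkOverCxIso f (g x) R)) (hR (g x))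
  have hw : (f'.stalkMap x).hom.comp (baseMap sq x).hom = (g.stalkMap x).hom.comp (f.stalkMap (g x)).hom := by
    rw [← CommRingCat.hom_comp, ← CommRingCat.hom_comp, stalk_square]
  have h := torAmp_flat_bc (baseMap sq x).hom (f.stalkMap (g x)).hom (f'.stalkMap x).hom (g.stalkMap x).hom hw hσ
    (flat_tensor_stalk sq x) _ hL
  exact RelPCS8.StalkTor.hasTorAmplitudeIn_congr (DerivedCategory.Q.mapIso
    ((DRing.restrictCx (f'.stalkMap x).hom).mapIso (RelPCS8.TensorAmp.pullStalkCxIso g x R).symm ≪≫
      (RelPCS8.TensorAmp.stalkOverCxIso f' x _).symm)) h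

/-- Stalkwise tor amplitude of the derived pullback. -/
theorem torAmplitudeD_lpull (sq : IsPullback g f' f h) [Flat h] [DCoh.HasLpull g] (F : CochainComplex X.Modules ℤ)
    {a b : ℤ} (hF : DerSch.HasTorAmplitude f a b F) :
    DerSch.HasTorAmplitudeD f' a b ((DCoh.Lpull g).obj (DCoh.toD X F)) := by
  obtain ⟨R, hR, ⟨eR⟩⟩ := exists_adapted_rep (DCoh.toD X F)
  intro F' ⟨e⟩ x
  have hR' : DerSch.HasTorAmplitude f a b R := fun y => by
    haveI := (RelPCS8.StalkId.preservesFiniteLimits_stalkOver f y).1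
    haveI := (RelPCS8.StalkId.preservesFiniteLimits_stalkOver f y).2
    exact RelPCS8.StalkTor.hasTorAmplitudeIn_congr (RelPCS8.StalkId.stalkToDIso y f eR.symm) (hF y)
  haveI := (RelPCS8.StalkId.preservesFiniteLimits_stalkOver f' x).1
  haveI := (RelPCS8.StalkId.preservesFiniteLimits_stalkOver f' x).2
  exact RelPCS8.StalkTor.hasTorAmplitudeIn_congr
    (RelPCS8.StalkId.stalkToDIso x f' ((lpullObjIso g R hR).symm ≪≫ (DCoh.Lpull g).mapIso eR ≪≫ e.symm))
    (torAmplitude_pullback sq R hR' x)

end Groth.Agent.Exact8
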