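import Groth.Agent.Lib.Exact8.StalkBC
import Groth.Agent.Lib.KFlat.PullbackQIso
import Groth.Agent.Lib.KFlat.Cone
import Groth.Agent.Lib.RelPCS8.TorTensor
import Groth.Agent.Lib.DBaseChange.PC
import Groth.Agent.Lib.DPerf.RelAmp

/-!
# Pulling back complexes of relatively flat modules along a base change of a flat morphism
-/

set_option autoImplicit false
set_option backward.isDefEq.respectTransparency false
set_option backward.isDefEq.respectTransparency.types false
set_option linter.style.haveILetI false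
set_option maxHeartbeats 800000
universe u
open CategoryTheory CategoryTheory.Limits AlgebraicGeometry TensorProduct
attribute [local instance] HasDerivedCategory.standard

namespace Groth.Agent.Exact8

open KFlat KFlat.Sch DBaseChange

section Ring

/-- Tensoring a relatively flat module with a flat module. -/
theorem flat_res_tensor {A C : Type u} [CommRing A] [CommRing C] (ι : A →+* C) (P N : ModuleCat.{u} C)
    [Module.Flat C P] (hN : Module.Flat A ((ModuleCat.restrictScalars.{u} ι).obj N)) :
    Module.Flat A ((ModuleCat.restrictScalars.{u} ι).obj ((MonoidalCategory.tensorRight P).obj N)) := by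
  letI := ι.toAlgebra
  letI : Module A N := Module.compHom N ι
  haveI : IsScalarTower A C N := IsScalarTower.of_compHom A C N
  letI : Module A P := Module.compHom P ι
  haveI : IsScalarTower A C P := IsScalarTower.of_compHom A C P
  haveI : Module.Flat A N := hN
  have h := RelPCS8.TorTensor.flat_tensor_of_flat (A := A) (B := C) (C := P) (M := N)
  exact Module.Flat.of_linearEquiv
    ({ (TensorProduct.comm C N P).toAddEquiv with
        map_smul' := fun a z => ((TensorProduct.comm C N P).map_smul (ι a) z).trans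
          (algebraMap_smul C a (TensorProduct.comm C N P z)) } :
      ((ModuleCat.restrictScalars.{u} ι).obj ((MonoidalCategory.tensorRight P).obj N)) ≃ₗ[A] (P ⊗[C] N))

variable {A A' B B' : Type u} [CommRing A] [CommRing A'] [CommRing B] [CommRing B']
  (σ : A →+* A') (φ : A →+* B) (ρ : BC σ φ →+* B')

/-- Base change of a module flat over the base stays flat over the new base. -/
theorem flat_bc_module (φ' : A' →+* B') (h1 : ρ.comp (inclL σ φ) = φ') (hρ : ρ.Flat) (M : ModuleCat.{u} B)
    (hM : Module.Flat A ((ModuleCat.restrictScalars.{u} φ).obj M)) :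
    Module.Flat A' ((ModuleCat.restrictScalars.{u} φ').obj ((ModuleCat.extendScalars.{u, u, u} ρ).obj
      ((ModuleCat.extendScalars.{u, u, u} (inclR σ φ)).obj M))) := by
  let N := (ModuleCat.extendScalars.{u, u, u} (inclR σ φ)).obj M
  have hN : Module.Flat A' ((ModuleCat.restrictScalars.{u} (inclL σ φ)).obj N) := by
    refine RelPCS8.StalkId.flat_of_iso (bcEquiv σ φ M).symm ?_
    letI := σ.toAlgebra
    change Module.Flat A' (A' ⊗[A] ((ModuleCat.restrictScalars.{u} φ).obj M))
    infer_instance
  refine RelPCS8.StalkId.flat_of_iso ((resExtIso (inclL σ φ) ρ φ' h1.symm).app N).symm ?_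
  haveI : Module.Flat (BC σ φ) (algMod ρ) := flat_algMod ρ hρ
  exact flat_res_tensor (inclL σ φ) (algMod ρ) N hN

/-- Base change keeps acyclic complexes of relatively flat modules acyclic. -/
theorem acyclic_bc (hρ : ρ.Flat) (ψ : B →+* B') (h2 : ρ.comp (inclR σ φ) = ψ) (L : DRing.Cx B) (b : ℤ)
    [L.IsStrictlyLE b] (hf : ∀ i, Module.Flat A ((ModuleCat.restrictScalars.{u} φ).obj (L.X i))) (hL : L.Acyclic) :
    ((extCx ψ).obj L).Acyclic := by
  let L₀ := (DRing.restrictCx φ).obj L
  haveI : L₀.IsStrictlyLE b := (CochainComplex.isStrictlyLE_iff L₀ b).2 fun i hi =>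
    (ModuleCat.restrictScalars.{u} φ).map_isZero (L.isZero_of_isStrictlyLE b i hi)
  have h1 : ((extCx σ).obj L₀).Acyclic := Module.acyclic_extendScalars σ
    (fun i => ShortComplex.Exact.map (hL i) (ModuleCat.restrictScalars.{u} φ))
    ((Module.isKFlat_iff _).2 (DBaseChange.isKFlat_of_boundedAbove L₀ b hf))
  have h2' : ((extCx (inclR σ φ)).obj L).Acyclic := fun i => by
    have := acyclic_of_iso h1 ((NatIso.mapHomologicalComplex (bcIso σ φ) (ComplexShape.up ℤ)).app L).symm i
    rw [HomologicalComplex.exactAt_iff] at this ⊢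
    exact ((ShortComplex.exact_map_iff_of_faithful _ (ModuleCat.restrictScalars.{u} (inclL σ φ))).1 this)
  have h3 : ((extCx ρ).obj ((extCx (inclR σ φ)).obj L)).Acyclic := by
    haveI := ModuleCat.preservesFiniteLimits_extendScalars_of_flat.{u} hρ
    exact fun i => ShortComplex.Exact.map (h2' i) (ModuleCat.extendScalars.{u, u, u} ρ)
  exact acyclic_of_iso h3 ((NatIso.mapHomologicalComplex
    ((ModuleCat.extendScalarsComp (inclR σ φ) ρ).symm ≪≫ eqToIso (congrArg ModuleCat.extendScalars.{u, u, u} h2))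
      (ComplexShape.up ℤ)).app L)

end Ring

variable {X Y X' Y' : Scheme.{u}} {g : X' ⟶ X} {f' : X' ⟶ Y'} {f : X ⟶ Y} {h : Y' ⟶ Y}

theorem exists_rho (sq : IsPullback g f' f h) (x : X') :
    ∃ ρ : BC (baseMap sq x).hom (f.stalkMap (g x)).hom →+* X'.presheaf.stalk x,
      ρ.comp (inclL (baseMap sq x).hom (f.stalkMap (g x)).hom) = (f'.stalkMap x).hom ∧
      ρ.comp (inclR (baseMap sq x).hom (f.stalkMap (g x)).hom) = (g.stalkMap x).hom ∧ ρ.Flat := by
  let σ := (baseMap sq x).hom
  let φ := (f.stalkMap (g x)).hom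
  let φ' := (f'.stalkMap x).hom
  let ψ := (g.stalkMap x).hom
  have hw : φ'.comp σ = ψ.comp φ := by
    rw [← CommRingCat.hom_comp, ← CommRingCat.hom_comp, stalk_square]
  letI := σ.toAlgebra
  letI := φ.toAlgebra
  letI := φ'.toAlgebra
  letI : Algebra (Y.presheaf.stalk (f (g x))) (X'.presheaf.stalk x) := (φ'.comp σ).toAlgebra
  haveI : IsScalarTower (Y.presheaf.stalk (f (g x))) (Y'.presheaf.stalk (f' x)) (X'.presheaf.stalk x) :=
    IsScalarTower.of_algebraMap_eq fun _ => rfl
  let ψA : X.presheaf.stalk (g x) →ₐ[Y.presheaf.stalk (f (g x))] X'.presheaf.stalk x :=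
    { ψ with commutes' := fun r => (RingHom.congr_fun hw r).symm }
  let ρA := Algebra.TensorProduct.lift (Algebra.ofId (Y'.presheaf.stalk (f' x)) (X'.presheaf.stalk x)) ψA
    fun _ _ => Commute.all _ _
  let ρ : BC σ φ →+* X'.presheaf.stalk x := ρA.toRingHom
  have h1 : ρ.comp (inclL σ φ) = φ' := RingHom.ext fun r => by
    change ρA (r ⊗ₜ 1) = φ' r
    rw [Algebra.TensorProduct.lift_tmul, map_one, mul_one]
    rfl
  have h2 : ρ.comp (inclR σ φ) = ψ := RingHom.ext fun r => by
    change ρA (1 ⊗ₜ r) = ψ r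
    rw [Algebra.TensorProduct.lift_tmul, map_one, one_mul]
    rfl
  exact ⟨ρ, h1, h2, flat_tensor_stalk sq x ρ h1 h2⟩

/-- Pullbacks of relatively flat modules are relatively flat. -/
theorem isFlatOver_pullback (sq : IsPullback g f' f h) {M : X.Modules} (hM : FlatMod.IsFlatOver f M) :
    FlatMod.IsFlatOver f' ((Scheme.Modules.pullback g).obj M) := fun x => by
  obtain ⟨ρ, h1, h2, hρ⟩ := exists_rho sq x
  have h0 : Module.Flat _ ((ModuleCat.restrictScalars.{u} (f.stalkMap (g x)).hom).obj ((stF (g x)).obj M)) :=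
    RelPCS8.StalkId.flat_of_iso ((ModuleCat.restrictScalars.{u} (f.stalkMap (g x)).hom).mapIso
      ((RelPCS8.TorTensor.stalkFunctorIso (g x)).app M)) (hM (g x))
  have h' := flat_bc_module _ _ ρ (f'.stalkMap x).hom h1 hρ _ h0
  exact RelPCS8.StalkId.flat_of_iso ((ModuleCat.restrictScalars.{u} (f'.stalkMap x).hom).mapIso
    (((ModuleCat.extendScalarsComp _ ρ).symm ≪≫ eqToIso (congrArg ModuleCat.extendScalars.{u, u, u} h2)).app _ ≪≫
      ((pullStalkNatIso g x).app M).symm ≪≫
      ((RelPCS8.TorTensor.stalkFunctorIso x).app ((Scheme.Modules.pullback g).obj M)).symm)) h'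

/-- Pullback preserves quasi-isomorphisms between bounded above complexes of relatively flat modules. -/
theorem quasiIso_pullback_relFlat (sq : IsPullback g f' f h) {R G : CochainComplex X.Modules ℤ} (q : R ⟶ G)
    [QuasiIso q] (b : ℤ) [R.IsStrictlyLE b] [G.IsStrictlyLE b]
    (hR : ∀ i, FlatMod.IsFlatOver f (R.X i)) (hG : ∀ i, FlatMod.IsFlatOver f (G.X i)) :
    QuasiIso (((Scheme.Modules.pullback g).mapHomologicalComplex (ComplexShape.up ℤ)).map q) := by
  refine (splitPres_map (Scheme.Modules.pullback g)).quasiIso_map_of_acyclic q ((acyclic_iff_stF _).2 fun x => ?_)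
  obtain ⟨ρ, h1, h2, hρ⟩ := exists_rho sq x
  refine acyclic_of_iso ?_ (RelPCS8.TensorAmp.pullStalkCxIso g x (cylCoker q)).symm
  let C := ((stF (g x)).mapHomologicalComplex (ComplexShape.up ℤ)).obj (cylCoker q)
  let φ := (f.stalkMap (g x)).hom
  let eC : (DRing.restrictCx φ).obj C ≅
      CochainComplex.mappingCone (((DerSch.stalkOver f (g x)).mapHomologicalComplex (ComplexShape.up ℤ)).map q) :=
    (RelPCS8.TensorAmp.stalkOverCxIso f (g x) (cylCoker q)).symm ≪≫
      (DerSch.stalkCxOver f (g x)).mapIso (cylCokerIsoCone q) ≪≫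
      CochainComplex.mappingCone.mapHomologicalComplexIso q (DerSch.stalkOver f (g x))
  haveI : CochainComplex.IsStrictlyLE C b := (CochainComplex.isStrictlyLE_iff C b).2 fun i hi => by
    refine (stF (g x)).map_isZero (IsZero.of_iso ?_ ((HomologicalComplex.eval _ _ i).mapIso (cylCokerIsoCone q)))
    change IsZero ((CochainComplex.mappingCone q).X i)
    rw [IsZero.iff_id_eq_zero]
    exact CochainComplex.mappingCone.ext_from q (i + 1) i rfl
      ((R.isZero_of_isStrictlyLE b (i + 1) (by omega)).eq_of_src _ _)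
      ((G.isZero_of_isStrictlyLE b i hi).eq_of_src _ _)
  refine acyclic_bc _ φ ρ hρ (g.stalkMap x).hom h2 C b (fun i => ?_) ((acyclic_iff_stF _).1 (acyclic_cylCoker q) (g x))
  exact RelPCS8.StalkId.flat_of_iso ((HomologicalComplex.eval _ _ i).mapIso eC).symm
    (DBaseChange.flat_cone (((DerSch.stalkOver f (g x)).mapHomologicalComplex (ComplexShape.up ℤ)).map q)
      (fun k => hR k (g x)) (fun k => hG k (g x)) i)

/-- The derived pullback of a bounded above complex of relatively flat modules. -/
theorem nonempty_lpull_relFlat (sq : IsPullback g f' f h) [Flat f] [DCoh.HasLpull g] (G : CochainComplex X.Modules ℤ) (b : ℤ)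
    [G.IsStrictlyLE b] (hG : ∀ i, FlatMod.IsFlatOver f (G.X i)) :
    Nonempty ((DCoh.Lpull g).obj (DCoh.toD X G) ≅
      DCoh.toD X' (((Scheme.Modules.pullback g).mapHomologicalComplex (ComplexShape.up ℤ)).obj G)) := by
  let R := resObj (cover X) G
  haveI : R.IsStrictlyLE b := resObj_isStrictlyLE (cover X) G b
  have hR := isAdapted_resObj (X := X) G
  haveI : QuasiIso (resπ (cover X) G) := quasiIso_resπ (cover X) G
  haveI := quasiIso_pullback_relFlat sq (resπ (cover X) G) b
    (fun i => DPerf.isFlatOver_of_isFlat f ((isFlat_iff _).1 (hR.2.2 i))) hG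
  exact ⟨(DCoh.Lpull g).mapIso (asIso (DerivedCategory.Q.map (resπ (cover X) G))).symm ≪≫ lpullObjIso g R hR ≪≫
    asIso (DerivedCategory.Q.map (((Scheme.Modules.pullback g).mapHomologicalComplex (ComplexShape.up ℤ)).map (resπ (cover X) G)))⟩

end Groth.Agent.Exact8
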