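import Groth.Agent.Lib.Exact8.StalkSpreadAlg
import Groth.Agent.Lib.DPerf.Tilde
import Groth.Agent.Lib.DQC.Affine
import Groth.Agent.Lib.DGen9.Affine
import Groth.Agent.Lib.DGen9.RelLocal
import Groth.Agent.Lib.KFlat.Tilde
import Groth.Agent.Lib.KFlat.PullbackKFlat
import Groth.Agent.Lib.RelPCS8.RestrictStalk
import Groth.Agent.Lib.RelPCS8.Chart
import Groth.Agent.Lib.RelPCS8.TorTensor
import Groth.Agent.Lib.ModM1.Coh

/-!
# Pseudo-coherent and perfect objects near a point from their stalks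
-/

set_option autoImplicit false
set_option backward.isDefEq.respectTransparency false
set_option backward.isDefEq.respectTransparency.types false
set_option linter.style.haveILetI false
set_option maxHeartbeats 1600000
universe u
open CategoryTheory CategoryTheory.Limits AlgebraicGeometry Pretriangulated
attribute [local instance] HasDerivedCategory.standard

namespace Groth.Agent.Exact8.StalkSpread

open KFlat KFlat.Sch DBaseChange

theorem hd_zero_transport {T : Scheme.{u}} {V : T.Opens} {W : Scheme.{u}} (k : W ⟶ (V : Scheme.{u})) [IsOpenImmersion k]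
    (j : W ⟶ T) [IsOpenImmersion j] (h : k ≫ V.ι = j) (K : DCoh.D T) (i : ℤ)
    (hz : IsZero (DCoh.HD ((DPerf.resD V.ι).obj K) i)) : IsZero (DCoh.HD ((DPerf.resD j).obj K) i) := by
  refine (((Scheme.Modules.restrictFunctor k).map_isZero hz).of_iso (DPerf.hdResIso k _ i)).of_iso ?_
  exact (DerivedCategory.homologyFunctor _ i).mapIso
    ((DPerf.resDComp V.ι k).app K ≪≫ (RelPCS8.resDCongr h).app K).symm

/-- A pseudo-coherent object bounded below with vanishing stalks vanishes nearby. -/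
theorem exists_nhd_hd_zero : ∀ (k : ℕ) (T : Scheme.{u}) (K : DCoh.D T) (_ : ∀ m : ℤ, DCoh.IsPseudoCoherentD m K)
    (c : ℤ) (_ : ∀ i, i < c → IsZero (DCoh.HD K i)) (_ : ∀ i, c + k ≤ i → IsZero (DCoh.HD K i)) (t : T)
    (_ : ∀ i, Subsingleton ((DCoh.HD K i).presheaf.stalk t)),
    ∃ V : T.Opens, t ∈ V ∧ ∀ i, IsZero (DCoh.HD ((DPerf.resD V.ι).obj K) i) := by
  intro k
  induction k with
  | zero =>
    intro T K _ c hlo hhi t _
    refine ⟨⊤, trivial, fun i => ?_⟩
    have hz : IsZero (DCoh.HD K i) := by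
      by_cases h : i < c
      · exact hlo i h
      · exact hhi i (by omega)
    exact ((Scheme.Modules.restrictFunctor _).map_isZero hz).of_iso (DPerf.hdResIso _ K i)
  | succ k ih =>
    intro T K hpc c hlo hhi t hst
    let n : ℤ := c + k
    have hFT : CohB1.IsFT (DCoh.HD K n) := DPerf.finiteType_top (hpc n) fun i hi => hhi i (by push_cast; omega)
    let W : T.Opens := ⟨(CohB1.support (DCoh.HD K n))ᶜ, (M1.isClosed_support hFT).isOpen_compl⟩
    have htW : t ∈ W := fun h => h (hst n)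
    let KW := (DPerf.resD W.ι).obj K
    have hst' : ∀ (i : ℤ) (z : (W : Scheme.{u})), Subsingleton ((DCoh.HD K i).presheaf.stalk z.1) →
        Subsingleton ((DCoh.HD KW i).presheaf.stalk z) := fun i z hz => by
      haveI := hz
      haveI : Subsingleton (((Scheme.Modules.toPresheaf _) ⋙ TopCat.Presheaf.stalkFunctor _ z).obj
          ((DCoh.HD K i).restrict W.ι)) := (RelPCS8.RestrictStalk.rsEquiv (DCoh.HD K i) W z).toEquiv.subsingleton
      exact ((((Scheme.Modules.toPresheaf _) ⋙ TopCat.Presheaf.stalkFunctor _ z).mapIso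
        (DPerf.hdResIso W.ι K i)).addCommGroupIsoToAddEquiv).toEquiv.subsingleton
    have hn : IsZero (DCoh.HD KW n) := DPerf.isZero_of_stalks fun z => hst' n z (by
      have hz := z.2
      exact not_not.1 hz)
    obtain ⟨V, htV, hV⟩ := ih (W : Scheme.{u}) KW
      (fun m => DPerf.isPseudoCoherentD_of_approx (RelPCS8.approx_res (DPerf.approx_of_isPseudoCoherentD (hpc m)) W.ι))
      c (fun i hi => ((Scheme.Modules.restrictFunctor _).map_isZero (hlo i hi)).of_iso (DPerf.hdResIso _ K i))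
      (fun i hi => by
        rcases eq_or_lt_of_le hi with h | h
        · exact h ▸ hn
        · exact ((Scheme.Modules.restrictFunctor _).map_isZero (hhi i (by push_cast; omega))).of_iso (DPerf.hdResIso _ K i))
      ⟨t, htW⟩ (fun i => hst' i _ (hst i))
    obtain ⟨V', k', _, htV', hk'⟩ := DPerf.exists_opens (V.ι ≫ W.ι) (x := t) ⟨⟨⟨t, htW⟩, htV⟩, rfl⟩
    refine ⟨V', htV', fun i => ?_⟩
    refine (((Scheme.Modules.restrictFunctor k').map_isZero (hV i)).of_iso (DPerf.hdResIso k' _ i)).of_iso ?_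
    exact (DerivedCategory.homologyFunctor _ i).mapIso
      ((DPerf.resD k').mapIso ((DPerf.resDComp W.ι V.ι).app K) ≪≫ (DPerf.resDComp (V.ι ≫ W.ι) k').app K ≪≫
        (RelPCS8.resDCongr hk').app K).symm

section Stalk

variable {X : Scheme.{u}}

/-- Isomorphisms in the derived category pass to stalks. -/
theorem nonempty_stalk_toD {K L : CochainComplex X.Modules ℤ} (x : X) (e : DCoh.toD X K ≅ DCoh.toD X L) :
    Nonempty (DRing.toD (((stF x).mapHomologicalComplex (ComplexShape.up ℤ)).obj K) ≅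
      DRing.toD (((stF x).mapHomologicalComplex (ComplexShape.up ℤ)).obj L)) := by
  obtain ⟨h1, h2⟩ := ((stF x).exact_tfae.out 0 3).1 fun S hS => DPerf.shortExact_stF hS x
  haveI := h1
  haveI := h2
  exact ⟨((stF x).mapDerivedCategoryFactors.app K).symm ≪≫ (stF x).mapDerivedCategory.mapIso e ≪≫
    (stF x).mapDerivedCategoryFactors.app L⟩

/-- Stalks of a restriction along an open immersion. -/
noncomputable def stalkRestrictIso {T : Scheme.{u}} (j : T ⟶ X) [IsOpenImmersion j] (t : T) :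
    Scheme.Modules.restrictFunctor j ⋙ stF t ≅ stF (j t) ⋙ ModuleCat.extendScalars.{u, u, u} (j.stalkMap t).hom :=
  Functor.isoWhiskerRight (Scheme.Modules.restrictFunctorIsoPullback j) (stF t) ≪≫ pullStalkNatIso j t

theorem flat_of_isIso {A B : CommRingCat.{u}} (f : A ⟶ B) [IsIso f] : f.hom.Flat :=
  RingHom.Flat.of_bijective (ConcreteCategory.bijective_of_isIso f)

/-- Base change along an isomorphism, then its inverse. -/
noncomputable def extCancelIso {A B : CommRingCat.{u}} (f : A ⟶ B) [IsIso f] :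
    ModuleCat.extendScalars.{u, u, u} f.hom ⋙ ModuleCat.extendScalars.{u, u, u} (inv f).hom ≅ 𝟭 (ModuleCat.{u} A) :=
  (ModuleCat.extendScalarsComp f.hom (inv f).hom).symm ≪≫
    eqToIso (congrArg ModuleCat.extendScalars.{u, u, u}
      (show (inv f).hom.comp f.hom = RingHom.id A by rw [← CommRingCat.hom_comp, IsIso.hom_inv_id]; rfl)) ≪≫
    ModuleCat.extendScalarsId A

variable {R : CommRingCat.{u}}

theorem isLocalization_toStalk (p : PrimeSpectrum R) :
    @IsLocalization R _ p.asIdeal.primeCompl ((Spec R).presheaf.stalk p) _ (StructureSheaf.toStalk R p).hom.toAlgebra :=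
  (inferInstance : IsLocalization.AtPrime ((Spec.structureSheaf R).presheaf.stalk p) p.asIdeal)

/-- A truncated free model of a pseudo-coherent restriction to an affine scheme. -/
theorem exists_model (j : Spec R ⟶ X) [IsOpenImmersion j] (E : CochainComplex X.Modules ℤ) (c : ℤ)
    [(DCoh.toD X E).IsGE c] (hE : ∀ m : ℤ, DCoh.IsPseudoCoherentD m (DCoh.toD X E)) :
    ∃ (P : DRing.Cx R) (a b : ℤ), DRing.VanishesOutside P a b ∧ DRing.TermwiseFiniteFree P ∧
      Nonempty (DCoh.toD (Spec R) ((DPerf.tildeX R).obj (P.truncGE c)) ≅ (DPerf.resD j).obj (DCoh.toD X E)) := by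
  obtain ⟨M, ⟨eM⟩⟩ := DQC.exists_iso_of_isQCohD ((DPerf.resD j).obj (DCoh.toD X E))
    (DQC.isQCohD_resD j (RelT.isQCohD_of_pc hE))
  have hpc : DRing.IsPseudoCoherent R (c - 1) M := (DPerf.pc_tilde_iff _ M).1
    (DPerf.isPseudoCoherentD_of_approx
      ((RelPCS8.approx_res (DPerf.approx_of_isPseudoCoherentD (hE (c - 1))) j).of_iso eM.symm))
  haveI : M.IsGE c := (DerivedCategory.isGE_iff M c).2 fun i hi => DPerf.isZero_of_tilde
    ((((Scheme.Modules.restrictFunctor j).map_isZero (DerivedCategory.isZero_of_isGE (DCoh.toD X E) c i hi)).of_iso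
      ((DerivedCategory.homologyFunctor _ i).mapIso eM ≪≫ DPerf.hdResIso j _ i)).of_iso (DPerf.hdTildeIso M i).symm)
  obtain ⟨P, a, b, α, hv, hP, h1, -⟩ := hpc
  obtain ⟨K, hK, ⟨eK⟩⟩ := DerivedCategory.exists_iso_Q_obj_of_isGE M c
  haveI := hK
  haveI : P.IsStrictlyLE b := ((DMod.vanishesOutside_iff P a b).1 hv).2
  haveI : ∀ i, Module.Free R (P.X i) := fun i => (hP i).2
  haveI : CochainComplex.IsKProjective P := DMod.isKProjective b fun i => inferInstance
  obtain ⟨g, hg⟩ := DMod.exists_map_eq (α ≫ eK.hom)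
  haveI : QuasiIso (CochainComplex.truncGEMap g c) := (CochainComplex.quasiIso_truncGEMap_iff g c).2 fun i hi => by
    have : IsIso ((DerivedCategory.homologyFunctor _ i).map (DerivedCategory.Q.map g)) := by
      rw [hg, Functor.map_comp]
      haveI := h1 i (by omega)
      infer_instance
    exact (quasiIsoAt_iff_isIso_homologyMap _ _).2
      ((NatIso.isIso_map_iff (DerivedCategory.homologyFunctorFactors (ModuleCat.{u} R) i) g).1 this)
  let e : DRing.toD (P.truncGE c) ≅ M :=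
    asIso (DerivedCategory.Q.map (CochainComplex.truncGEMap g c)) ≪≫
      DerivedCategory.Q.mapIso (asIso (K.πTruncGE c)).symm ≪≫ eK.symm
  exact ⟨P, a, b, hv, hP,
    ⟨((tilde.functor R).mapDerivedCategoryFactors.app (P.truncGE c)).symm ≪≫ (DPerf.tildeDD R).mapIso e ≪≫ eM⟩⟩

/-- A stalkwise isomorphism of pseudo-coherent bounded objects extends to a neighbourhood. -/
theorem exists_restrict_iso (x : X) (E F : CochainComplex X.Modules ℤ) (c : ℤ)
    [(DCoh.toD X E).IsGE c] [(DCoh.toD X F).IsGE c] (hE : ∀ m : ℤ, DCoh.IsPseudoCoherentD m (DCoh.toD X E))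
    (hF : ∀ m : ℤ, DCoh.IsPseudoCoherentD m (DCoh.toD X F))
    (e : DRing.toD (((stF x).mapHomologicalComplex (ComplexShape.up ℤ)).obj E) ≅
      DRing.toD (((stF x).mapHomologicalComplex (ComplexShape.up ℤ)).obj F)) :
    ∃ U : X.Opens, x ∈ U ∧ Nonempty ((DPerf.resD U.ι).obj (DCoh.toD X E) ≅ (DPerf.resD U.ι).obj (DCoh.toD X F)) := by
  obtain ⟨U₀, hU₀, hxU₀, -⟩ := exists_isAffineOpen_mem_and_subset (x := x) (U := ⊤) trivial
  let R := Γ(X, U₀)
  let j : Spec R ⟶ X := hU₀.fromSpec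
  obtain ⟨p, hp⟩ : ∃ p : Spec R, j p = x := ⟨hU₀.primeIdealOf ⟨x, hxU₀⟩, hU₀.fromSpec_primeIdealOf _⟩
  subst hp
  obtain ⟨P, a, b, hvP, hP, ⟨eP⟩⟩ := exists_model j E c hE
  obtain ⟨Q, a', b', hvQ, hQ, ⟨eQ⟩⟩ := exists_model j F c hF
  let σ := (StructureSheaf.toStalk R p).hom
  have hst : ∀ (G : CochainComplex X.Modules ℤ) (K : DRing.Cx R),
      (DCoh.toD (Spec R) ((DPerf.tildeX R).obj K) ≅ (DPerf.resD j).obj (DCoh.toD X G)) →
      Nonempty (DRing.toD ((extCx σ).obj K) ≅
        DRing.toD ((extCx (j.stalkMap p).hom).obj (((stF (j p)).mapHomologicalComplex (ComplexShape.up ℤ)).obj G))) := by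
    intro G K eK
    obtain ⟨t⟩ := nonempty_stalk_toD p (eK ≪≫ (DPerf.resFac j).app G)
    exact ⟨DerivedCategory.Q.mapIso ((NatIso.mapHomologicalComplex (tildeStalkNatIso R p) (ComplexShape.up ℤ)).app K).symm ≪≫
      t ≪≫ DerivedCategory.Q.mapIso ((NatIso.mapHomologicalComplex (stalkRestrictIso j p) (ComplexShape.up ℤ)).app G)⟩
  obtain ⟨sP⟩ := hst E _ eP
  obtain ⟨sQ⟩ := hst F _ eQ
  obtain ⟨e'⟩ := nonempty_ext_iso (j.stalkMap p).hom (flat_of_isIso _) e
  obtain ⟨θ, hθ⟩ := exists_map_qis p.asIdeal.primeCompl σ (isLocalization_toStalk p) P (Q.truncGE c) a b c hvP hP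
    (sP ≪≫ e' ≪≫ sQ.symm)
  let g := (DPerf.tildeX R).map θ
  let C := cylCoker g
  haveI : QuasiIso (((stF p).mapHomologicalComplex (ComplexShape.up ℤ)).map g) := by
    let τ := NatIso.mapHomologicalComplex (tildeStalkNatIso R p) (ComplexShape.up ℤ)
    haveI := hθ
    have h1 : ((stF p).mapHomologicalComplex (ComplexShape.up ℤ)).map g =
        τ.hom.app _ ≫ (extCx σ).map θ ≫ τ.inv.app _ := (NatIso.naturality_2 τ θ).symm
    rw [h1]
    infer_instance
  have hCp : (((stF p).mapHomologicalComplex (ComplexShape.up ℤ)).obj C).Acyclic :=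
    acyclic_of_iso (acyclic_of_iso (acyclic_cylCoker (((stF p).mapHomologicalComplex (ComplexShape.up ℤ)).map g))
      (cylCokerIsoCone _)) (((stF p).mapHomologicalComplex (ComplexShape.up ℤ)).mapIso (cylCokerIsoCone g) ≪≫
        CochainComplex.mappingCone.mapHomologicalComplexIso g (stF p)).symm
  have hst0 : ∀ i, Subsingleton ((DCoh.HD (DCoh.toD (Spec R) C) i).presheaf.stalk p) := fun i => by
    haveI : (stF p).PreservesHomology := ((stF p).exact_tfae.out 0 2).1 fun S hS => DPerf.shortExact_stF hS p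
    exact ModuleCat.subsingleton_of_isZero (((HomologicalComplex.exactAt_iff_isZero_homology _ i).1 (hCp i)).of_iso
      ((stF p).mapIso ((DerivedCategory.homologyFunctorFactors _ i).app C) ≪≫
        (ShortComplex.mapHomologyIso (C.sc i) (stF p)).symm))
  have hlo : ∀ i, i < c - 1 → IsZero (DCoh.HD (DCoh.toD (Spec R) C) i) := fun i hi => by
    refine (isZero_HD_toD_iff C i).2 ((HomologicalComplex.exactAt_iff _ i).2 (ShortComplex.exact_of_isZero_X₂ _ ?_))
    refine IsZero.of_iso ?_ ((HomologicalComplex.eval _ _ i).mapIso (cylCokerIsoCone g))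
    change IsZero ((CochainComplex.mappingCone g).X i)
    rw [IsZero.iff_id_eq_zero]
    exact CochainComplex.mappingCone.ext_from g (i + 1) i rfl
      (((tilde.functor R).map_isZero ((P.truncGE c).isZero_of_isStrictlyGE c (i + 1) (by omega))).eq_of_src _ _)
      (((tilde.functor R).map_isZero ((Q.truncGE c).isZero_of_isStrictlyGE c i (by omega))).eq_of_src _ _)
  have hpcC : ∀ m : ℤ, DCoh.IsPseudoCoherentD m (DCoh.toD (Spec R) C) := fun m => by
    refine DPerf.isPseudoCoherentD_of_approx ((DPerf.approx_Ici₃ m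
      (DerivedCategory.Q.mapTriangle.obj (CochainComplex.mappingCone.triangle g))
      ((DerivedCategory.mem_distTriang_iff _).2 ⟨_, _, g, ⟨Iso.refl _⟩⟩) ?_ ?_).of_iso
        (DerivedCategory.Q.mapIso (cylCokerIsoCone g)).symm)
    · exact (RelPCS8.approx_res (DPerf.approx_of_isPseudoCoherentD (hE (m + 1))) j).of_iso eP.symm
    · exact (RelPCS8.approx_res (DPerf.approx_of_isPseudoCoherentD (hF m)) j).of_iso eQ.symm
  obtain ⟨b₀, hb₀⟩ := DPerf.exists_isLE_of_pseudoCoherent (hpcC 0)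
  obtain ⟨V, hpV, hV⟩ := exists_nhd_hd_zero (b₀ + 1 - (c - 1)).toNat (Spec R) _ hpcC (c - 1) hlo
    (fun i hi => by haveI := hb₀; exact DerivedCategory.isZero_of_isLE _ b₀ i (by omega)) p hst0
  haveI : QuasiIso ((DPerf.resX V.ι).map g) := by
    refine (splitPres_map (Scheme.Modules.restrictFunctor V.ι)).quasiIso_map_of_acyclic g fun i => ?_
    exact (isZero_HD_toD_iff _ i).1 ((hV i).of_iso ((DerivedCategory.homologyFunctor _ i).mapIso
      ((DPerf.resFac V.ι).app C).symm))
  obtain ⟨U, k, _, hxU, hk⟩ := DPerf.exists_opens (V.ι ≫ j) (x := j p) ⟨⟨p, hpV⟩, rfl⟩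
  let Θ := (DPerf.resFac V.ι).app ((DPerf.tildeX R).obj (P.truncGE c)) ≪≫
    asIso (DerivedCategory.Q.map ((DPerf.resX V.ι).map g)) ≪≫
    ((DPerf.resFac V.ι).app ((DPerf.tildeX R).obj (Q.truncGE c))).symm
  let c₀ := fun (K : DCoh.D X) => (DPerf.resD k).mapIso ((DPerf.resDComp j V.ι).app K) ≪≫
    (DPerf.resDComp (V.ι ≫ j) k).app K ≪≫ (RelPCS8.resDCongr hk).app K
  exact ⟨U, hxU, ⟨(c₀ _).symm ≪≫ (DPerf.resD k).mapIso ((DPerf.resD V.ι).mapIso eP.symm ≪≫ Θ ≪≫
    (DPerf.resD V.ι).mapIso eQ) ≪≫ c₀ _⟩⟩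

/-- A perfect object over a local ring is the stalk of a complex perfect nearby. -/
theorem exists_perfect_model (x : X) (P : Dual.D (X.presheaf.stalk x : Type u))
    (hP : DRing.IsPerfect (X.presheaf.stalk x : Type u) P) :
    ∃ (U : X.Opens) (F' : CochainComplex X.Modules ℤ), x ∈ U ∧
      DCoh.IsPerfect (DerivedCategory.Q.obj ((DCoh.restrictCx U).obj F')) ∧
      Nonempty (DRing.toD (((stF x).mapHomologicalComplex (ComplexShape.up ℤ)).obj F') ≅ P) := by
  obtain ⟨U₀, hU₀, hxU₀, -⟩ := exists_isAffineOpen_mem_and_subset (x := x) (U := ⊤) trivial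
  let R := Γ(X, U₀)
  let j : Spec R ⟶ X := hU₀.fromSpec
  obtain ⟨p, hp⟩ : ∃ p : Spec R, j p = x := ⟨hU₀.primeIdealOf ⟨x, hxU₀⟩, hU₀.fromSpec_primeIdealOf _⟩
  subst hp
  obtain ⟨E, a, b, hv, hE, ⟨eE⟩⟩ := hP
  let ρ := j.stalkMap p
  let L := (extCx ρ.hom).obj E
  have hL : DRing.TermwiseFiniteFree L := fun i => by
    haveI := (hE i).1
    haveI := (hE i).2
    haveI : Module.Free (X.presheaf.stalk (j p) : Type u) (E.X i) := Module.free_of_flat_of_isLocalRing
    letI := ρ.hom.toAlgebra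
    constructor
    · change Module.Finite ((Spec R).presheaf.stalk p) (TensorProduct (X.presheaf.stalk (j p)) ((Spec R).presheaf.stalk p) (E.X i))
      infer_instance
    · change Module.Free ((Spec R).presheaf.stalk p) (TensorProduct (X.presheaf.stalk (j p)) ((Spec R).presheaf.stalk p) (E.X i))
      infer_instance
  obtain ⟨K, hKv, hK, ⟨eK⟩⟩ := exists_complex p.asIdeal.primeCompl (StructureSheaf.toStalk R p).hom
    (isLocalization_toStalk p) L a b (fun i hi => (ModuleCat.extendScalars.{u, u, u} ρ.hom).map_isZero (hv i hi)) hL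
  let G := (DPerf.tildeX R).obj K
  let F' := ((Scheme.Modules.pushforward j).mapHomologicalComplex (ComplexShape.up ℤ)).obj G
  let c₀ : (DPerf.resX j).obj F' ≅ G :=
    ((Functor.mapHomologicalComplexCompIso (asIso (Scheme.Modules.restrictAdjunction j).counit) (ComplexShape.up ℤ)).trans
      (Functor.mapHomologicalComplexIdIso _ _)).app G
  obtain ⟨U, k, _, hxU, hk⟩ := DPerf.exists_opens j (x := j p) ⟨p, rfl⟩
  refine ⟨U, F', hxU, ?_, ?_⟩
  · refine DGen9.isPerfect_of_iso ((DPerf.resD k).mapIso ((DPerf.resFac j).app F' ≪≫ DerivedCategory.Q.mapIso c₀).symm ≪≫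
      (DPerf.resDComp j k).app _ ≪≫ (RelPCS8.resDCongr hk).app _ ≪≫ (DPerf.resFac U.ι).app F') (DGen9.isPerfect_resD k ?_)
    exact DGen9.isPerfect_of_iso ((tilde.functor R).mapDerivedCategoryFactors.app K)
      (DPerf.isPerfect_iff_approx.2 (DPerf.approx_tilde_of_perfect ⟨K, a, b, hKv,
        fun i => ⟨(hK i).1, have := (hK i).2; inferInstance⟩, ⟨Iso.refl _⟩⟩))
  · let ci := NatIso.mapHomologicalComplex (extCancelIso ρ) (ComplexShape.up ℤ)
    let S₀ := ((stF (j p)).mapHomologicalComplex (ComplexShape.up ℤ)).obj F'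
    let e₁ : (extCx ρ.hom).obj S₀ ≅ (extCx ρ.hom).obj E :=
      ((NatIso.mapHomologicalComplex (stalkRestrictIso j p) (ComplexShape.up ℤ)).app F').symm ≪≫
        ((stF p).mapHomologicalComplex (ComplexShape.up ℤ)).mapIso c₀ ≪≫
        (NatIso.mapHomologicalComplex (tildeStalkNatIso R p) (ComplexShape.up ℤ)).app K ≪≫ eK
    exact ⟨DerivedCategory.Q.mapIso ((ci.app S₀).symm ≪≫ (extCx (inv ρ).hom).mapIso e₁ ≪≫ ci.app E) ≪≫ eE⟩

end Stalk

end Groth.Agent.Exact8.StalkSpread
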