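import Mathlib
import Groth.Agent.Lib.DMod.Basic
import Groth.Agent.Lib.DBaseChange.ExtFlat

/-!
# Chain maps and complexes over a localisation descend
-/

set_option autoImplicit false
set_option backward.isDefEq.respectTransparency false
set_option backward.isDefEq.respectTransparency.types false
set_option linter.style.haveILetI false
set_option maxHeartbeats 800000
universe u
open CategoryTheory CategoryTheory.Limits TensorProduct
attribute [local instance] HasDerivedCategory.standard

namespace Groth.Agent.Exact8.StalkSpread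

open DBaseChange

variable {A B : Type u} [CommRing A] [CommRing B] (S : Submonoid A) (σ : A →+* B)
  (hσ : @IsLocalization A _ S B _ σ.toAlgebra)

/-- The localisation map of a module. -/
noncomputable def mkL (N : ModuleCat.{u} A) :=
  letI := σ.toAlgebra; TensorProduct.mk A B N 1

include hσ in
theorem isLocalizedModule_mkL (N : ModuleCat.{u} A) :
    letI := σ.toAlgebra; IsLocalizedModule S (mkL σ N) :=
  letI := σ.toAlgebra
  haveI := hσ
  (isLocalizedModule_iff_isBaseChange S B _).2 (TensorProduct.isBaseChange A N B)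

theorem ext_smul {P N : ModuleCat.{u} A} (t : A) (h : P ⟶ N) :
    (ModuleCat.extendScalars.{u, u, u} σ).map (t • h) = σ t • (ModuleCat.extendScalars.{u, u, u} σ).map h := by
  letI := σ.toAlgebra
  refine ModuleCat.hom_ext ?_
  refine LinearMap.ext fun (z : B ⊗[A] P) => ?_
  induction z using TensorProduct.induction_on with
  | zero => exact (map_zero _).trans (map_zero _).symm
  | add x y hx hy => exact ((map_add _ _ _).trans (congrArg₂ (· + ·) hx hy)).trans (map_add _ _ _).symm
  | tmul b x =>
    show b ⊗ₜ[A] (t • h.hom x) = σ t • (b ⊗ₜ[A] h.hom x)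
    exact (TensorProduct.tmul_smul t b (h.hom x)).trans (algebraMap_smul B t (b ⊗ₜ[A] h.hom x)).symm

include hσ in
/-- A map between localisations of a finitely presented module and a module. -/
theorem exists_hom {P N : ModuleCat.{u} A} [Module.FinitePresentation A P] (f : (ModuleCat.extendScalars.{u, u, u} σ).obj P ⟶ (ModuleCat.extendScalars.{u, u, u} σ).obj N) :
    ∃ (h : P ⟶ N) (s : S), (ModuleCat.extendScalars.{u, u, u} σ).map h = σ s • f := by
  letI := σ.toAlgebra
  haveI := hσ
  haveI := isLocalizedModule_mkL S σ hσ N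
  let F : B ⊗[A] P →ₗ[B] B ⊗[A] N := f.hom
  obtain ⟨h, s, hs⟩ := Module.FinitePresentation.exists_lift_of_isLocalizedModule S (mkL σ N)
    ((F.restrictScalars A).comp (mkL σ P))
  refine ⟨ModuleCat.ofHom h, s, ModuleCat.hom_ext (LinearMap.ext fun (z : B ⊗[A] P) => ?_)⟩
  induction z using TensorProduct.induction_on with
  | zero => exact (map_zero _).trans (map_zero _).symm
  | add x y hx hy => exact ((map_add _ _ _).trans (congrArg₂ (· + ·) hx hy)).trans (map_add _ _ _).symm
  | tmul b x =>
    have hx : (1 : B) ⊗ₜ[A] h x = σ s • F ((1 : B) ⊗ₜ[A] x) := by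
      exact (LinearMap.congr_fun hs x).trans (algebraMap_smul B (s : A) (F ((1 : B) ⊗ₜ[A] x))).symm
    have hb : ∀ (n : N), b ⊗ₜ[A] n = b • ((1 : B) ⊗ₜ[A] n) := fun n => by
      rw [TensorProduct.smul_tmul', smul_eq_mul, mul_one]
    have hbx : b ⊗ₜ[A] x = b • ((1 : B) ⊗ₜ[A] x) := by
      rw [TensorProduct.smul_tmul', smul_eq_mul, mul_one]
    show b ⊗ₜ[A] h x = σ s • F (b ⊗ₜ[A] x)
    rw [hb, hx, hbx, map_smul, smul_comm]

include hσ in
/-- A map of finite modules killed by localising is killed by an element. -/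
theorem exists_smul_eq_zero {P N : ModuleCat.{u} A} [Module.Finite A P] (h : P ⟶ N) (h0 : (ModuleCat.extendScalars.{u, u, u} σ).map h = 0) :
    ∃ t : S, (t : A) • h = 0 := by
  letI := σ.toAlgebra
  haveI := hσ
  haveI := isLocalizedModule_mkL S σ hσ N
  have e : (mkL σ N).comp h.hom = (mkL σ N).comp (0 : (P : Type u) →ₗ[A] (N : Type u)) := by
    refine LinearMap.ext fun x => ?_
    refine (show (1 : B) ⊗ₜ[A] h.hom x = 0 from
      LinearMap.congr_fun (congrArg ModuleCat.Hom.hom h0) ((1 : B) ⊗ₜ[A] x)).trans ?_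
    simp
  obtain ⟨t, ht⟩ := Module.Finite.exists_smul_of_comp_eq_of_isLocalizedModule S (mkL σ N) h.hom 0 e
  exact ⟨t, ModuleCat.hom_ext (ht.trans (smul_zero _))⟩

include hσ in
theorem isUnit_algebraMap (u : S) : IsUnit (σ u) := @IsLocalization.map_units A _ S B _ σ.toAlgebra hσ u

include hσ in
/-- A chain map between localisations comes from a chain map, up to a unit. -/
theorem exists_chain_map (P G : DRing.Cx A) (a b : ℤ) (hv : DRing.VanishesOutside P a b)
    (hP : ∀ i, Module.FinitePresentation A (P.X i)) (φ : (extCx σ).obj P ⟶ (extCx σ).obj G) :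
    ∃ (ψ : P ⟶ G) (u : S), (extCx σ).map ψ = σ u • φ := by
  classical
  haveI := hP
  choose h s hs using fun i => exists_hom S σ hσ (φ.f i)
  let I := Finset.Icc a b
  let s0 : S := ∏ j ∈ I, s j
  have hout : ∀ i, i ∉ I → IsZero (P.X i) := fun i hi => hv i (by rw [Finset.mem_Icc] at hi; omega)
  let h' : ∀ i, P.X i ⟶ G.X i := fun i => if hi : i ∈ I then ((∏ j ∈ I.erase i, s j : S) : A) • h i else 0
  have hh' : ∀ i, (ModuleCat.extendScalars.{u, u, u} σ).map (h' i) = σ s0 • φ.f i := fun i => by
    by_cases hi : i ∈ I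
    · simp only [h', dif_pos hi]
      rw [ext_smul, hs, smul_smul, ← map_mul, ← Submonoid.coe_mul, Finset.prod_erase_mul I s hi]
    · exact ((ModuleCat.extendScalars.{u, u, u} σ).map_isZero (hout i hi)).eq_of_src _ _
  let D : ∀ i, P.X i ⟶ G.X (i + 1) := fun i => P.d i (i + 1) ≫ h' (i + 1) - h' i ≫ G.d i (i + 1)
  have hD : ∀ i, (ModuleCat.extendScalars.{u, u, u} σ).map (D i) = 0 := fun i => by
    simp only [D, Functor.map_sub, Functor.map_comp, hh', Linear.comp_smul, Linear.smul_comp]
    exact (smul_sub _ _ _).symm.trans ((congrArg (σ (s0 : A) • ·) (sub_eq_zero.2 (φ.comm i (i + 1)).symm)).trans (smul_zero _))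
  choose t ht using fun i => exists_smul_eq_zero S σ hσ (D i) (hD i)
  let T : S := ∏ j ∈ I, t j
  have hT : ∀ i, (T : A) • D i = 0 := fun i => by
    by_cases hi : i ∈ I
    · rw [show T = (∏ j ∈ I.erase i, t j) * t i from (Finset.prod_erase_mul I t hi).symm, Submonoid.coe_mul,
        mul_smul, ht, smul_zero]
    · exact (hout i hi).eq_of_src _ _
  let ψ : P ⟶ G :=
    { f := fun i => (T : A) • h' i
      comm' := fun i j hij => by
        have hj : i + 1 = j := hij
        subst hj
        have := hT i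
        simp only [D, smul_sub, sub_eq_zero] at this
        rw [Linear.smul_comp, Linear.comp_smul]
        exact this.symm }
  refine ⟨ψ, T * s0, HomologicalComplex.hom_ext _ _ fun i => ?_⟩
  show (ModuleCat.extendScalars.{u, u, u} σ).map ((T : A) • h' i) = σ (T * s0 : S) • φ.f i
  rw [ext_smul, hh', smul_smul, ← map_mul, Submonoid.coe_mul]

/-- Multiplication by a unit. -/
noncomputable def unitIso {C : Type*} [Category* C] [Preadditive C] [Linear B C] (K : C) {c : B} (hc : IsUnit c) :
    K ≅ K where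
  hom := c • 𝟙 K
  inv := (hc.unit⁻¹ : Bˣ).val • 𝟙 K
  hom_inv_id := by rw [Linear.smul_comp, Category.id_comp, smul_smul, IsUnit.mul_val_inv, one_smul]
  inv_hom_id := by rw [Linear.smul_comp, Category.id_comp, smul_smul, IsUnit.val_inv_mul, one_smul]

theorem quasiIsoAt_smul {K L : DRing.Cx B} {c : B} (hc : IsUnit c) (φ : K ⟶ L) (i : ℤ) [QuasiIsoAt φ i] :
    QuasiIsoAt (c • φ) i := by
  have h : c • φ = φ ≫ (unitIso L hc).hom := by rw [unitIso, Linear.comp_smul, Category.comp_id]
  rw [h]
  infer_instance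

include hσ in
/-- An isomorphism of localisations of truncated models comes from a map which is a quasi-isomorphism
after localisation. -/
theorem exists_map_qis (P G : DRing.Cx A) (a b c : ℤ) (hv : DRing.VanishesOutside P a b)
    (hP : DRing.TermwiseFiniteFree P) [G.IsStrictlyGE c]
    (e : DRing.toD ((extCx σ).obj (P.truncGE c)) ≅ DRing.toD ((extCx σ).obj G)) :
    ∃ θ : P.truncGE c ⟶ G, QuasiIso ((extCx σ).map θ) := by
  haveI := ModuleCat.preservesFiniteLimits_extendScalars_of_flat.{u}
    (show σ.Flat from letI := σ.toAlgebra; haveI := hσ; IsLocalization.flat B S)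
  haveI : ∀ i, Module.Free A (P.X i) := fun i => (hP i).2
  haveI : ∀ i, Module.Finite A (P.X i) := fun i => (hP i).1
  let PB := (extCx σ).obj P
  haveI : CochainComplex.IsStrictlyLE PB b := (CochainComplex.isStrictlyLE_iff PB b).2 fun i hi =>
    (ModuleCat.extendScalars.{u, u, u} σ).map_isZero (hv i (Or.inr hi))
  haveI : CochainComplex.IsKProjective PB := DMod.isKProjective b fun i => by
    letI := σ.toAlgebra
    change Module.Projective B (B ⊗[A] (P.X i))
    infer_instance
  obtain ⟨φ, hφ⟩ := DMod.exists_map_eq (DerivedCategory.Q.map ((extCx σ).map (P.πTruncGE c)) ≫ e.hom)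
  have hπ : ∀ i, c ≤ i → QuasiIsoAt (P.πTruncGE c) i := fun i hi => P.quasiIsoAt_πTruncGE c i hi
  have hφi : ∀ i, c ≤ i → QuasiIsoAt φ i := fun i hi => by
    haveI := hπ i hi
    haveI : QuasiIsoAt ((extCx σ).map (P.πTruncGE c)) i := inferInstance
    have h1 : IsIso ((DerivedCategory.homologyFunctor _ i).map (DerivedCategory.Q.map φ)) := by
      rw [hφ, Functor.map_comp]
      haveI : IsIso ((DerivedCategory.homologyFunctor _ i).map
          (DerivedCategory.Q.map ((extCx σ).map (P.πTruncGE c)))) :=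
        (NatIso.isIso_map_iff (DerivedCategory.homologyFunctorFactors (ModuleCat.{u} B) i) _).2
          (inferInstanceAs (IsIso (HomologicalComplex.homologyMap ((extCx σ).map (P.πTruncGE c)) i)))
      infer_instance
    exact (quasiIsoAt_iff_isIso_homologyMap _ _).2
      ((NatIso.isIso_map_iff (DerivedCategory.homologyFunctorFactors (ModuleCat.{u} B) i) φ).1 h1)
  obtain ⟨ψ, w, hw⟩ := exists_chain_map S σ hσ P G a b hv (fun i => (Module.finitePresentation_of_projective A (P.X i))) φ
  let θ := CochainComplex.truncGEMap ψ c ≫ inv (G.πTruncGE c)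
  have hθ : P.πTruncGE c ≫ θ = ψ := by
    rw [← Category.assoc, CochainComplex.πTruncGE_naturality, Category.assoc, IsIso.hom_inv_id, Category.comp_id]
  refine ⟨θ, ⟨fun i => ?_⟩⟩
  by_cases hi : c ≤ i
  · haveI := hπ i hi
    haveI : QuasiIsoAt ((extCx σ).map (P.πTruncGE c)) i := inferInstance
    haveI : QuasiIsoAt ((extCx σ).map (P.πTruncGE c) ≫ (extCx σ).map θ) i := by
      rw [← Functor.map_comp, hθ, hw]
      haveI := hφi i hi
      exact quasiIsoAt_smul (isUnit_algebraMap S σ hσ w) φ i
    exact quasiIsoAt_of_comp_left ((extCx σ).map (P.πTruncGE c)) _ i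
  · refine (quasiIsoAt_iff_exactAt' _ i ?_).2 ?_
    · exact HomologicalComplex.exactAt_iff _ i |>.2 (ShortComplex.exact_of_isZero_X₂ _
        ((ModuleCat.extendScalars.{u, u, u} σ).map_isZero (G.isZero_of_isStrictlyGE c i (by omega))))
    · exact HomologicalComplex.exactAt_iff _ i |>.2 (ShortComplex.exact_of_isZero_X₂ _
        ((ModuleCat.extendScalars.{u, u, u} σ).map_isZero ((P.truncGE c).isZero_of_isStrictlyGE c i (by omega))))

include hσ in
/-- A bounded complex of finite free modules over a localisation comes from one over the ring. -/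
theorem exists_complex (L : DRing.Cx B) (a b : ℤ) (hv : DRing.VanishesOutside L a b)
    (hL : DRing.TermwiseFiniteFree L) :
    ∃ K : DRing.Cx A, DRing.VanishesOutside K a b ∧ DRing.TermwiseFiniteFree K ∧
      Nonempty ((extCx σ).obj K ≅ L) := by
  classical
  have hX : ∀ i, ∃ (N : ModuleCat.{u} A), Module.Finite A N ∧ Module.Free A N ∧ ((i < a ∨ b < i) → IsZero N) ∧
      Nonempty ((ModuleCat.extendScalars.{u, u, u} σ).obj N ≅ L.X i) := fun i => by
    haveI := (hL i).1
    haveI := (hL i).2
    by_cases hi : i < a ∨ b < i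
    · haveI : Subsingleton PUnit.{u + 1} := inferInstance
      exact ⟨ModuleCat.of A PUnit.{u + 1}, inferInstance, Module.Free.of_subsingleton A PUnit.{u + 1},
        fun _ => ModuleCat.isZero_of_subsingleton _,
        ⟨((ModuleCat.extendScalars.{u, u, u} σ).map_isZero (ModuleCat.isZero_of_subsingleton _)).iso (hv i hi)⟩⟩
    · letI := σ.toAlgebra
      let ι := Module.Free.ChooseBasisIndex B (L.X i)
      exact ⟨ModuleCat.of A (ι → A), inferInstance, inferInstance, fun h => absurd h hi,
        ⟨LinearEquiv.toModuleIso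
          (X₁ := (B ⊗[A] (ι → A) : Type u)) (X₂ := (L.X i : Type u))
          ((TensorProduct.piScalarRight A B B ι).trans (Module.Free.chooseBasis B (L.X i)).equivFun.symm)⟩⟩
  choose N hNf hNfree hN0 eN using hX
  haveI := hNf
  haveI := hNfree
  haveI : ∀ i, Module.FinitePresentation A (N i) := fun i => haveI : Module.Projective A (N i) := Module.Projective.of_free (R := A) (P := (N i : Type u)); Module.finitePresentation_of_projective A (N i)
  let e := fun i => (eN i).some
  choose h s hs using fun i => exists_hom S σ hσ ((e i).hom ≫ L.d i (i + 1) ≫ (e (i + 1)).inv)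
  let I := Finset.Icc a b
  let s0 : S := ∏ j ∈ I, s j
  have hout : ∀ i, i ∉ I → IsZero (N i) := fun i hi => hN0 i (by rw [Finset.mem_Icc] at hi; omega)
  let h' : ∀ i, N i ⟶ N (i + 1) := fun i => if hi : i ∈ I then ((∏ j ∈ I.erase i, s j : S) : A) • h i else 0
  have hh' : ∀ i, (ModuleCat.extendScalars.{u, u, u} σ).map (h' i) = σ s0 • ((e i).hom ≫ L.d i (i + 1) ≫ (e (i + 1)).inv) := fun i => by
    by_cases hi : i ∈ I
    · simp only [h', dif_pos hi]
      rw [ext_smul, hs, smul_smul, ← map_mul, ← Submonoid.coe_mul, Finset.prod_erase_mul I s hi]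
    · exact ((ModuleCat.extendScalars.{u, u, u} σ).map_isZero (hout i hi)).eq_of_src _ _
  have hD : ∀ i, (ModuleCat.extendScalars.{u, u, u} σ).map (h' i ≫ h' (i + 1)) = 0 := fun i => by
    rw [Functor.map_comp, hh', hh']
    simp
  choose t ht using fun i => exists_smul_eq_zero S σ hσ (h' i ≫ h' (i + 1)) (hD i)
  let T : S := ∏ j ∈ I, t j
  have hT : ∀ i, ((T : A) • h' i) ≫ ((T : A) • h' (i + 1)) = 0 := fun i => by
    rw [Linear.smul_comp, Linear.comp_smul]
    by_cases hi : i ∈ I
    · rw [show T = (∏ j ∈ I.erase i, t j) * t i from (Finset.prod_erase_mul I t hi).symm, Submonoid.coe_mul]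
      simp only [mul_smul, smul_comm (t i : A), ht, smul_zero]
    · exact (hout i hi).eq_of_src _ _
  let w : Bˣ := (isUnit_algebraMap S σ hσ (T * s0)).unit
  let K : DRing.Cx A := CochainComplex.of N (fun i => (T : A) • h' i) hT
  refine ⟨K, fun i hi => hN0 i hi, fun i => ⟨hNf i, hNfree i⟩,
    ⟨HomologicalComplex.Hom.isoOfComponents (fun i => e i ≪≫ unitIso (L.X i) ((w ^ (-i) : Bˣ).isUnit)) ?_⟩⟩
  rintro i j (rfl : i + 1 = j)
  show (e i ≪≫ unitIso (L.X i) _).hom ≫ L.d i (i + 1) =
    (ModuleCat.extendScalars.{u, u, u} σ).map (K.d i (i + 1)) ≫ (e (i + 1) ≪≫ unitIso (L.X (i + 1)) _).hom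
  rw [show K.d i (i + 1) = (T : A) • h' i from CochainComplex.of_d N (fun i => (T : A) • h' i) i, ext_smul, hh', smul_smul, ← map_mul,
    ← Submonoid.coe_mul]
  simp only [Iso.trans_hom, unitIso, Linear.smul_comp, Linear.comp_smul, Category.comp_id, Category.assoc,
    Iso.inv_hom_id, smul_smul]
  congr 1
  rw [show σ ((T * s0 : S) : A) = (w : B) from (IsUnit.unit_spec _).symm, ← Units.val_mul]
  exact congrArg Units.val (show w ^ (-i) = _ by group)

end Groth.Agent.Exact8.StalkSpread
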