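import Mathlib
import Groth.Agent.Lib.Exact8.SpreadMain
import Groth.Agent.Lib.QCoh8.Basic

/-!
# Right exactness of `H^p` is left exactness of `H^{p+1}`
-/

set_option autoImplicit false
set_option backward.isDefEq.respectTransparency false
set_option backward.isDefEq.respectTransparency.types false
set_option linter.style.haveILetI false
universe u
open CategoryTheory CategoryTheory.Limits AlgebraicGeometry Pretriangulated HomologicalComplex
attribute [local instance] HasDerivedCategory.standard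

namespace Groth.Agent.Exact8

open Groth.Agent.KFlat Groth.Agent.KFlat.Sch

variable {X : Scheme.{u}} {R : CommRingCat.{u}} (j : Spec R ⟶ X) [IsOpenImmersion j]

theorem tfun_mono_of_test (z : Spec R) {F : CochainComplex X.Modules ℤ} {p : ℤ}
    {G : X.Modules ⥤ X.Modules} (e : G ≅ S F p) (Q : ObjectProperty X.Modules) [Q.IsClosedUnderKernels]
    [Q.IsClosedUnderCokernels] (hQ : ∀ N, Q ((spread j z).obj N))
    (hm : ∀ {M N : X.Modules} (g : M ⟶ N), Q M → Q N → Mono g → Mono (G.map g)) :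
    (CohIII.TFun (stK j z F) p).PreservesMonomorphisms := by
  obtain ⟨u⟩ := nonempty_S_stalk_iso j z F p
  obtain ⟨τ⟩ := nonempty_spread_stalk j z
  let T := CohIII.TFun (stK j z F) p
  let t : G ⋙ stJ j z ≅ stJ j z ⋙ T := Functor.isoWhiskerRight e (stJ j z) ≪≫ u
  let w : spread j z ⋙ stJ j z ⋙ T ≅ T := (Functor.associator _ _ _).symm ≪≫ Functor.isoWhiskerRight τ T ≪≫ Functor.leftUnitor _
  haveI hl := (preservesFinite_stJ j z).1
  haveI hr := (preservesFinite_stJ j z).2
  refine ⟨fun {M N} g hg => ?_⟩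
  haveI := mono_spread j z g hg
  have h1 : Mono (G.map ((spread j z).map g)) := hm _ (hQ M) (hQ N) this
  have h2 : Mono ((G ⋙ stJ j z).map ((spread j z).map g)) :=
    @Functor.map_mono _ _ _ _ (stJ j z) (preservesMonomorphisms_stJ j z) _ _ _ h1
  have h3 : Mono ((stJ j z ⋙ T).map ((spread j z).map g)) := mono_map_of_natIso t _ h2
  exact mono_map_of_natIso w g h3

theorem tfun_epi_of_test (z : Spec R) {F : CochainComplex X.Modules ℤ} {p : ℤ}
    {G : X.Modules ⥤ X.Modules} (e : G ≅ S F p) (Q : ObjectProperty X.Modules) [Q.IsClosedUnderKernels]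
    [Q.IsClosedUnderCokernels] (hQ : ∀ N, Q ((spread j z).obj N))
    (he : ∀ {M N : X.Modules} (g : M ⟶ N), Q M → Q N → Epi g → Epi (G.map g)) :
    (CohIII.TFun (stK j z F) p).PreservesEpimorphisms := by
  obtain ⟨u⟩ := nonempty_S_stalk_iso j z F p
  obtain ⟨τ⟩ := nonempty_spread_stalk j z
  let T := CohIII.TFun (stK j z F) p
  let t : G ⋙ stJ j z ≅ stJ j z ⋙ T := Functor.isoWhiskerRight e (stJ j z) ≪≫ u
  let w : spread j z ⋙ stJ j z ⋙ T ≅ T := (Functor.associator _ _ _).symm ≪≫ Functor.isoWhiskerRight τ T ≪≫ Functor.leftUnitor _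
  haveI hl := (preservesFinite_stJ j z).1
  haveI hr := (preservesFinite_stJ j z).2
  refine ⟨fun {M N} g hg => ?_⟩
  let h := (spread j z).map g
  have hI : Q (Abelian.image h) := Q.prop_kernel _ (hQ N) (Q.prop_cokernel _ (hQ M) (hQ N))
  have h1 : Epi (G.map (Abelian.factorThruImage h)) := he _ (hQ M) hI inferInstance
  have h2 : Epi ((G ⋙ stJ j z).map (Abelian.factorThruImage h)) :=
    @Functor.map_epi _ _ _ _ (stJ j z) (preservesEpimorphisms_stJ j z) _ _ _ h1
  have h3 : Epi (T.map ((stJ j z).map (Abelian.factorThruImage h))) := epi_map_of_natIso t _ h2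
  have h4 : Epi ((spread j z ⋙ stJ j z).map g) := epi_map_of_natIso τ.symm g hg
  have h5 := isIso_map_of_mono_epi (stJ j z) h h4
  exact epi_map_of_natIso w g (epi_map_of_image (stJ j z) T h h5 h3)


omit [IsOpenImmersion j] in
theorem exists_affine_point (x : X) : ∃ (R : CommRingCat.{u}) (j : Spec R ⟶ X) (_ : IsOpenImmersion j) (z : Spec R), j z = x := by
  obtain ⟨V, hV, hx, -⟩ := exists_isAffineOpen_mem_and_subset (X := X) (x := x) (U := ⊤) trivial
  obtain ⟨z, hz⟩ : x ∈ Set.range hV.fromSpec := by rw [IsAffineOpen.range_fromSpec]; exact hx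
  exact ⟨_, hV.fromSpec, inferInstance, z, hz⟩

omit [IsOpenImmersion j] in
theorem hQ_qcoh [QuasiSeparatedSpace X] {R : CommRingCat.{u}} (j : Spec R ⟶ X) [IsOpenImmersion j] (z : Spec R) (N) :
    QCohCat.isQCoh X ((spread j z).obj N) :=
  M1.isQCoh_push j (show Coh.IsQCoh
    ((tilde.functor R).obj ((ModuleCat.restrictScalars (StructureSheaf.toStalk R z).hom).obj N)) from inferInstance)

omit [IsOpenImmersion j] in
theorem flat_stK_adapted {R : CommRingCat.{u}} (j : Spec R ⟶ X) [IsOpenImmersion j] (z : Spec R)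
    {F' : CochainComplex X.Modules ℤ} (hF' : IsAdapted F') (i : ℤ) :
    Module.Flat ((Spec R).presheaf.stalk z) ((stK j z F').X i) :=
  flat_stX (isAdapted_pullback j hF') z i

omit [IsOpenImmersion j] in
theorem flatAt_of_epi [QuasiSeparatedSpace X] {F' : CochainComplex X.Modules ℤ} (hF' : IsAdapted F') {p : ℤ}
    {G : X.Modules ⥤ X.Modules} (e : G ≅ S F' p)
    (he : ∀ {M N : X.Modules} (g : M ⟶ N), QCohCat.isQCoh X M → QCohCat.isQCoh X N → Epi g → Epi (G.map g)) (y : X) :
    FlatAt (stX y F') (p + 1) := by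
  obtain ⟨R, j, hj, z, rfl⟩ := exists_affine_point y
  haveI := flat_stK_adapted j z hF'
  exact flatAt_stX_of_stK j z hF' ((epi_iff _ p).1 (tfun_epi_of_test j z e (QCohCat.isQCoh X) (hQ_qcoh j z) he))

omit [IsOpenImmersion j] in
theorem flatAt_of_mono [QuasiSeparatedSpace X] {F' : CochainComplex X.Modules ℤ} (hF' : IsAdapted F') {p : ℤ}
    {G : X.Modules ⥤ X.Modules} (e : G ≅ S F' p)
    (hm : ∀ {M N : X.Modules} (g : M ⟶ N), QCohCat.isQCoh X M → QCohCat.isQCoh X N → Mono g → Mono (G.map g)) (y : X) :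
    FlatAt (stX y F') p := by
  obtain ⟨R, j, hj, z, rfl⟩ := exists_affine_point y
  haveI := flat_stK_adapted j z hF'
  exact flatAt_stX_of_stK j z hF' ((mono_iff _ p).1 (tfun_mono_of_test j z e (QCohCat.isQCoh X) (hQ_qcoh j z) hm))

omit [IsOpenImmersion j] in
theorem preservesFiniteLimits_qcoh_of_mono (F : CochainComplex X.Modules ℤ) [DCoh.HasLTensorCx F] (p : ℤ)
    (h : ∀ {M N : X.Modules} (g : M ⟶ N), Mono g → Mono ((Phi F p).map g)) :
    PreservesFiniteLimits ((QCohCat.isQCoh X).ι ⋙ Phi F p) := by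
  refine (Functor.preservesFiniteLimits_iff_forall_exact_map_and_mono _).2 fun T hT => ?_
  have hT' : (T.map (QCohCat.isQCoh X).ι).ShortExact := hT.map_of_exact _
  have h1 : ((T.map (QCohCat.isQCoh X).ι).map (Phi F p)).Exact := exact_phi F p _ hT'
  exact ⟨h1, h (T.map (QCohCat.isQCoh X).ι).f hT'.mono_f⟩

omit [IsOpenImmersion j] in
theorem preservesFiniteColimits_qcoh_of_epi (F : CochainComplex X.Modules ℤ) [DCoh.HasLTensorCx F] (p : ℤ)
    (h : ∀ {M N : X.Modules} (g : M ⟶ N), Epi g → Epi ((Phi F p).map g)) :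
    PreservesFiniteColimits ((QCohCat.isQCoh X).ι ⋙ Phi F p) := by
  refine (Functor.preservesFiniteColimits_iff_forall_exact_map_and_epi _).2 fun T hT => ?_
  have hT' : (T.map (QCohCat.isQCoh X).ι).ShortExact := hT.map_of_exact _
  have h1 : ((T.map (QCohCat.isQCoh X).ι).map (Phi F p)).Exact := exact_phi F p _ hT'
  exact ⟨h1, h (T.map (QCohCat.isQCoh X).ι).g hT'.epi_g⟩

omit [IsOpenImmersion j] in
theorem preservesFiniteLimits_qcoh_of_flatAt (F F' : CochainComplex X.Modules ℤ) [DCoh.HasLTensorCx F]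
    (hF' : IsAdapted F') (p : ℤ) (e : Phi F p ≅ S F' p) (h : ∀ y : X, FlatAt (stX y F') p) :
    PreservesFiniteLimits ((QCohCat.isQCoh X).ι ⋙ Phi F p) :=
  preservesFiniteLimits_qcoh_of_mono F p fun {M N} g hg => (KFlat.Sch.mono_iff_stalk _).2 fun y =>
    injective_of_flatAt hF' e y (h y) g hg

omit [IsOpenImmersion j] in
theorem preservesFiniteColimits_qcoh_of_flatAt (F F' : CochainComplex X.Modules ℤ) [DCoh.HasLTensorCx F]
    (hF' : IsAdapted F') (p : ℤ) (e : Phi F p ≅ S F' p) (h : ∀ y : X, FlatAt (stX y F') (p + 1)) :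
    PreservesFiniteColimits ((QCohCat.isQCoh X).ι ⋙ Phi F p) :=
  preservesFiniteColimits_qcoh_of_epi F p fun {M N} g hg => (M1.epi_iff_stalk _).2 fun y =>
    surjective_of_flatAt hF' e y (h y) g hg

omit [IsOpenImmersion j] in
/-- On quasi-coherent modules, right exactness in degree `p` is left exactness in degree `p + 1`. -/
theorem rightExact_iff_leftExact_succ [QuasiSeparatedSpace X] (F : CochainComplex X.Modules ℤ)
    [DCoh.HasLTensorCx F] (p : ℤ) :
    PreservesFiniteColimits ((QCohCat.isQCoh X).ι ⋙ Phi F p) ↔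
      PreservesFiniteLimits ((QCohCat.isQCoh X).ι ⋙ Phi F (p + 1)) := by
  haveI : QuasiIso (resπ (cover X) F) := quasiIso_resπ (cover X) F
  have hF' : IsAdapted (resObj (cover X) F) := isAdapted_resObj F
  obtain ⟨e⟩ := nonempty_phi_iso F _ (resπ (cover X) F) hF'.1 p
  obtain ⟨e'⟩ := nonempty_phi_iso F _ (resπ (cover X) F) hF'.1 (p + 1)
  constructor
  · intro h
    haveI : ((QCohCat.isQCoh X).ι ⋙ Phi F p).PreservesEpimorphisms := preservesEpimorphisms_of_preservesColimitsOfShape _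
    refine preservesFiniteLimits_qcoh_of_flatAt F _ hF' (p + 1) e' (flatAt_of_epi hF' e fun {M N} g hM hN hg => ?_)
    let g' : (⟨M, hM⟩ : QCohCat.QCoh X) ⟶ ⟨N, hN⟩ := ObjectProperty.homMk g
    haveI : Epi g' := (QCohCat.isQCoh X).ι.epi_of_epi_map hg
    exact inferInstanceAs (Epi (((QCohCat.isQCoh X).ι ⋙ Phi F p).map g'))
  · intro h
    haveI : ((QCohCat.isQCoh X).ι ⋙ Phi F (p + 1)).PreservesMonomorphisms := preservesMonomorphisms_of_preservesLimitsOfShape _
    refine preservesFiniteColimits_qcoh_of_flatAt F _ hF' p e (flatAt_of_mono hF' e' fun {M N} g hM hN hg => ?_)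
    let g' : (⟨M, hM⟩ : QCohCat.QCoh X) ⟶ ⟨N, hN⟩ := ObjectProperty.homMk g
    haveI : Mono g' := (QCohCat.isQCoh X).ι.mono_of_mono_map hg
    exact inferInstanceAs (Mono (((QCohCat.isQCoh X).ι ⋙ Phi F (p + 1)).map g'))

end Groth.Agent.Exact8
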