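import Groth.Agent.Lib.DBaseChange.ResFlat
import Groth.Agent.Lib.DBaseChange.ResLocal
import Groth.Agent.Lib.DBaseChange.ExtFlat
import Mathlib.RingTheory.IsTensorProduct

/-!
# Tor amplitude over a ring under flat base change
-/

set_option autoImplicit false
set_option backward.isDefEq.respectTransparency false
set_option backward.isDefEq.respectTransparency.types false
set_option linter.style.haveILetI false
universe u
open CategoryTheory CategoryTheory.Limits TensorProduct
attribute [local instance] HasDerivedCategory.standard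

namespace Groth.Agent.Exact8

open DBaseChange

section Push

variable {A A' B : Type u} [CommRing A] [CommRing A'] [CommRing B] (σ : A →+* A') (φ : A →+* B)

/-- `A' ⊗_A B`. -/
abbrev BC : Type u := letI := σ.toAlgebra; letI := φ.toAlgebra; A' ⊗[A] B

noncomputable instance : CommRing (BC σ φ) :=
  letI := σ.toAlgebra; letI := φ.toAlgebra; inferInstanceAs (CommRing (A' ⊗[A] B))

/-- `B → A' ⊗_A B`. -/
noncomputable def inclR : B →+* BC σ φ :=
  letI := σ.toAlgebra; letI := φ.toAlgebra
  (Algebra.TensorProduct.includeRight : B →ₐ[A] A' ⊗[A] B).toRingHom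

/-- `A' → A' ⊗_A B`. -/
noncomputable def inclL : A' →+* BC σ φ :=
  letI := σ.toAlgebra; letI := φ.toAlgebra
  Algebra.TensorProduct.includeLeftRingHom

/-- The comparison on a module. -/
noncomputable def bcEquiv (M : ModuleCat.{u} B) :
    (ModuleCat.restrictScalars.{u} (inclL σ φ)).obj ((ModuleCat.extendScalars.{u, u, u} (inclR σ φ)).obj M) ≅
      (ModuleCat.extendScalars.{u, u, u} σ).obj ((ModuleCat.restrictScalars.{u} φ).obj M) :=
  letI := σ.toAlgebra
  letI := φ.toAlgebra
  letI : Algebra B (A' ⊗[A] B) := (inclR σ φ).toAlgebra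
  haveI : IsScalarTower A B (A' ⊗[A] B) := IsScalarTower.of_algebraMap_eq fun r => by
    change _ = Algebra.TensorProduct.includeRight (R := A) (A := A') (algebraMap A B r)
    rw [AlgHom.commutes]
  haveI : Algebra.IsPushout A A' B (A' ⊗[A] B) := inferInstance
  letI : Module A M := Module.compHom M φ
  haveI : IsScalarTower A B M := IsScalarTower.of_compHom A B M
  LinearEquiv.toModuleIso
    ({ (Algebra.IsPushout.cancelBaseChange A A' B (A' ⊗[A] B) M).toAddEquiv with
        map_smul' := fun a z => by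
          refine Eq.trans ?_ ((Algebra.IsPushout.cancelBaseChange A A' B (A' ⊗[A] B) M).map_smul a (z : (A' ⊗[A] B) ⊗[B] M))
          refine congrArg (Algebra.IsPushout.cancelBaseChange A A' B (A' ⊗[A] B) M) ?_
          have key : ∀ w : (A' ⊗[A] B) ⊗[B] M, (algebraMap A' (A' ⊗[A] B) a) • w = a • w := algebraMap_smul _ a
          exact key z } :
      (ModuleCat.restrictScalars.{u} (inclL σ φ)).obj ((ModuleCat.extendScalars.{u, u, u} (inclR σ φ)).obj M) ≃ₗ[A']
        (ModuleCat.extendScalars.{u, u, u} σ).obj ((ModuleCat.restrictScalars.{u} φ).obj M))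

/-- Extension then restriction is restriction then extension. -/
noncomputable def bcIso :
    ModuleCat.extendScalars.{u, u, u} (inclR σ φ) ⋙ ModuleCat.restrictScalars.{u} (inclL σ φ) ≅
      ModuleCat.restrictScalars.{u} φ ⋙ ModuleCat.extendScalars.{u, u, u} σ :=
  NatIso.ofComponents (bcEquiv σ φ) fun {M N} g => by
    rw [← Iso.eq_comp_inv, Category.assoc, ← Iso.inv_comp_eq]
    ext z
    induction z using TensorProduct.induction_on with
    | zero => exact (map_zero _).trans (map_zero _).symm
    | add x y hx hy => exact ((map_add _ x y).trans (congrArg₂ (· + ·) hx hy)).trans (map_add _ x y).symm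
    | tmul s x =>
      letI := σ.toAlgebra
      letI := φ.toAlgebra
      letI : Algebra B (A' ⊗[A] B) := (inclR σ φ).toAlgebra
      haveI : IsScalarTower A B (A' ⊗[A] B) := IsScalarTower.of_algebraMap_eq fun r => by
        change _ = Algebra.TensorProduct.includeRight (R := A) (A := A') (algebraMap A B r)
        rw [AlgHom.commutes]
      haveI : Algebra.IsPushout A A' B (A' ⊗[A] B) := inferInstance
      letI : Module A M := Module.compHom M φ
      letI : Module A N := Module.compHom N φ
      haveI : IsScalarTower A B M := IsScalarTower.of_compHom A B M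
      haveI : IsScalarTower A B N := IsScalarTower.of_compHom A B N
      have e1 := congrArg (TensorProduct.map (LinearMap.id : (A' ⊗[A] B) →ₗ[B] A' ⊗[A] B) g.hom)
        (Algebra.IsPushout.cancelBaseChange_symm_tmul A A' B (A' ⊗[A] B) M s x)
      refine e1.trans ?_
      exact (Algebra.IsPushout.cancelBaseChange_symm_tmul A A' B (A' ⊗[A] B) N s (g x)).symm

/-- Amplitude after flat base change. -/
theorem torAmp_bc (hσ : σ.Flat) (L : DRing.Cx B) {a b : ℤ}
    (hL : DRing.HasTorAmplitudeIn A a b (DRing.toD ((DRing.restrictCx φ).obj L))) :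
    DRing.HasTorAmplitudeIn A' a b (DRing.toD ((DRing.restrictCx (inclL σ φ)).obj ((extCx (inclR σ φ)).obj L))) := by
  obtain ⟨E, hv, hE, ⟨e⟩⟩ := hL
  obtain ⟨e'⟩ := nonempty_ext_iso σ hσ e
  refine ⟨(extCx σ).obj E,
    fun i hi => (ModuleCat.extendScalars.{u, u, u} σ).map_isZero (hv i hi), fun i => ?_,
    ⟨e' ≪≫ DerivedCategory.Q.mapIso ((NatIso.mapHomologicalComplex (bcIso σ φ) (ComplexShape.up ℤ)).app L).symm⟩⟩
  haveI := hE i
  letI := σ.toAlgebra
  change Module.Flat A' (A' ⊗[A] (E.X i))
  infer_instance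

end Push

/-- Amplitude after flat base change and a flat extension. -/
theorem torAmp_flat_bc {A A' B B' : Type u} [CommRing A] [CommRing A'] [CommRing B] [CommRing B']
    (σ : A →+* A') (φ : A →+* B) (φ' : A' →+* B') (ψ : B →+* B') (w : φ'.comp σ = ψ.comp φ) (hσ : σ.Flat)
    (hρ : ∀ ρ : BC σ φ →+* B', ρ.comp (inclL σ φ) = φ' → ρ.comp (inclR σ φ) = ψ → ρ.Flat)
    (L : DRing.Cx B) {a b : ℤ} (hL : DRing.HasTorAmplitudeIn A a b (DRing.toD ((DRing.restrictCx φ).obj L))) :
    DRing.HasTorAmplitudeIn A' a b (DRing.toD ((DRing.restrictCx φ').obj ((extCx ψ).obj L))) := by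
  letI := σ.toAlgebra
  letI := φ.toAlgebra
  letI := φ'.toAlgebra
  letI : Algebra A B' := (φ'.comp σ).toAlgebra
  haveI : IsScalarTower A A' B' := IsScalarTower.of_algebraMap_eq fun _ => rfl
  let ψA : B →ₐ[A] B' := { ψ with commutes' := fun r => (RingHom.congr_fun w r).symm }
  let ρA := Algebra.TensorProduct.lift (Algebra.ofId A' B') ψA fun _ _ => Commute.all _ _
  let ρ : BC σ φ →+* B' := ρA.toRingHom
  have h1 : ρ.comp (inclL σ φ) = φ' := RingHom.ext fun r => by
    change ρA (r ⊗ₜ 1) = φ' r
    rw [Algebra.TensorProduct.lift_tmul, map_one, mul_one]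
    rfl
  have h2 : ρ.comp (inclR σ φ) = ψ := RingHom.ext fun r => by
    change ρA (1 ⊗ₜ r) = ψ r
    rw [Algebra.TensorProduct.lift_tmul, map_one, one_mul]
    rfl
  haveI : Module.Flat (BC σ φ) (algMod ρ) := flat_algMod ρ (hρ ρ h1 h2)
  have h := (torAmp_res_ext_iff (inclL σ φ) ρ φ' h1.symm ((extCx (inclR σ φ)).obj L) a b).2
    (torAmp_res_flat (inclL σ φ) ((extCx (inclR σ φ)).obj L) (algMod ρ) (torAmp_bc σ φ hσ L hL))
  refine hasTorAmplitudeIn_of_iso ?_ h
  exact DerivedCategory.Q.mapIso ((DRing.restrictCx φ').mapIso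
    (((NatIso.mapHomologicalComplex (ModuleCat.extendScalarsComp (inclR σ φ) ρ).symm (ComplexShape.up ℤ)).app L) ≪≫
      (NatIso.mapHomologicalComplex (eqToIso (congrArg ModuleCat.extendScalars.{u, u, u} h2)) (ComplexShape.up ℤ)).app L))

end Groth.Agent.Exact8
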